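import Cfsg.Agent.H920.Basic

/-!
# Absolutely irreducible matrix groups over an extension field; the dual representation (helper659)

`φ : G →* GL ι F` with image `P`, the matrices of `P` span the matrix algebra, `K` an extension of `F`:

* `rp K φ : G →* End (K^ι)`, `rd K φ` its dual; both irreducible (`rp_irr`, `rd_irr`);
* `trace_rp`, `trace_rd` : the traces;
* `prodRep`, `exists_iso` : an invariant subspace of `V₁ × V₂` of dimension ≤ `dim Vᵢ` that meets both conditions gives
  `V₁ ≃ V₂`.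
-/

set_option autoImplicit false

namespace Cfsg.Agent.H659.Ac

open Cfsg Cfsg.Geo Matrix

section irr

variable {F K : Type*} [Field F] [Field K] [Algebra F K] {ι : Type} [Fintype ι] [DecidableEq ι]

/-- a subspace of `K^ι` stable under a spanning set of matrices over `F` -/
theorem bot_or_top {S : Set (Matrix ι ι F)} (hS : Submodule.span F S = ⊤) (L : Submodule K (ι → K))
    (hL : ∀ M ∈ S, ∀ v ∈ L, (M.map (algebraMap F K)) *ᵥ v ∈ L) : L = ⊥ ∨ L = ⊤ := by
  have key : ∀ M : Matrix ι ι F, ∀ v ∈ L, (M.map (algebraMap F K)) *ᵥ v ∈ L := by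
    intro M
    have hM : M ∈ Submodule.span F S := by rw [hS]; trivial
    induction hM using Submodule.span_induction with
    | mem x hx => exact hL x hx
    | zero =>
      intro v _
      have h1 : (0 : Matrix ι ι F).map (algebraMap F K) = 0 := by
        ext i j
        simp
      rw [h1, Matrix.zero_mulVec]
      exact L.zero_mem
    | add x y _ _ hx hy =>
      intro v hv
      rw [Matrix.map_add _ (map_add _), Matrix.add_mulVec]
      exact L.add_mem (hx v hv) (hy v hv)
    | smul a x _ hx =>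
      intro v hv
      have h1 : (a • x).map (algebraMap F K) = algebraMap F K a • x.map (algebraMap F K) := by
        ext i j
        simp
      rw [h1, Matrix.smul_mulVec]
      exact L.smul_mem _ (hx v hv)
  rcases eq_or_ne L ⊥ with h0 | h0
  · exact Or.inl h0
  · right
    obtain ⟨v, hv, hv0⟩ := (Submodule.ne_bot_iff _).1 h0
    obtain ⟨i, hi⟩ : ∃ i, v i ≠ 0 := by
      by_contra hcon
      push Not at hcon
      exact hv0 (funext hcon)
    have hsingle : ∀ j, (Pi.single j 1 : ι → K) ∈ L := by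
      intro j
      have h1 := L.smul_mem (v i)⁻¹ (key (Matrix.single j i 1) v hv)
      convert h1 using 1
      funext l
      have h2 : (Matrix.single j i (1 : F)).map (algebraMap F K) = Matrix.single j i (1 : K) := by
        ext a b
        simp [Matrix.single, Matrix.map_apply, apply_ite (algebraMap F K)]
      rw [h2, Matrix.single_mulVec]
      by_cases hl : l = j
      · subst hl
        simp [hi]
      · simp [hl]
    rw [eq_top_iff]
    intro w _
    rw [← Finset.univ_sum_single w]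
    refine L.sum_mem fun j _ => ?_
    have h1 := L.smul_mem (w j) (hsingle j)
    rwa [← Pi.single_smul, smul_eq_mul, mul_one] at h1

variable {G : Type*} [Group G] (K) (φ : G →* GL ι F)

/-- the representation over `K` -/
noncomputable def rp : G →* Module.End K (ι → K) where
  toFun g := Matrix.toLin' ((φ g : Matrix ι ι F).map (algebraMap F K))
  map_one' := by
    rw [map_one, Units.val_one, Matrix.map_one _ (map_zero _) (map_one _), Matrix.toLin'_one]
    rfl
  map_mul' a b := by
    rw [map_mul, Units.val_mul, Matrix.map_mul, Matrix.toLin'_mul]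
    rfl

/-- the dual representation over `K` -/
noncomputable def rd : G →* Module.End K (ι → K) where
  toFun g := Matrix.toLin' (((φ g⁻¹ : Matrix ι ι F).map (algebraMap F K))ᵀ)
  map_one' := by
    rw [inv_one, map_one, Units.val_one, Matrix.map_one _ (map_zero _) (map_one _), Matrix.transpose_one,
      Matrix.toLin'_one]
    rfl
  map_mul' a b := by
    rw [_root_.mul_inv_rev, map_mul, Units.val_mul, Matrix.map_mul, Matrix.transpose_mul, Matrix.toLin'_mul]
    rfl

theorem rp_apply (g : G) (v : ι → K) : rp K φ g v = ((φ g : Matrix ι ι F).map (algebraMap F K)) *ᵥ v := rfl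

theorem rd_apply (g : G) (v : ι → K) :
    rd K φ g v = (((φ g⁻¹ : Matrix ι ι F).map (algebraMap F K))ᵀ) *ᵥ v := rfl

theorem trace_rp (g : G) : LinearMap.trace K _ (rp K φ g) = algebraMap F K ((φ g : Matrix ι ι F).trace) := by
  change LinearMap.trace K _ (Matrix.toLin' _) = _
  rw [Matrix.trace_toLin'_eq]
  exact (AddMonoidHom.map_trace (algebraMap F K) (φ g : Matrix ι ι F)).symm

theorem trace_rd (g : G) : LinearMap.trace K _ (rd K φ g) = algebraMap F K ((φ g⁻¹ : Matrix ι ι F).trace) := by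
  change LinearMap.trace K _ (Matrix.toLin' _) = _
  rw [Matrix.trace_toLin'_eq, Matrix.trace_transpose]
  exact (AddMonoidHom.map_trace (algebraMap F K) (φ g⁻¹ : Matrix ι ι F)).symm

variable {P : Subgroup (GL ι F)} (hφ : φ.range = P) (hs : Submodule.span F (matrixSet P) = ⊤)

include hφ hs

theorem rp_irr (L : Submodule K (ι → K)) (hL : ∀ g, ∀ v ∈ L, rp K φ g v ∈ L) : L = ⊥ ∨ L = ⊤ := by
  refine bot_or_top hs L ?_
  rintro _ ⟨g, hg, rfl⟩ v hv
  rw [SetLike.mem_coe, ← hφ] at hg
  obtain ⟨y, rfl⟩ := hg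
  exact hL y v hv

theorem rd_irr (L : Submodule K (ι → K)) (hL : ∀ g, ∀ v ∈ L, rd K φ g v ∈ L) : L = ⊥ ∨ L = ⊤ := by
  have hs' : Submodule.span F (Matrix.transpose '' matrixSet P) = ⊤ := by
    have h1 : Submodule.map (Matrix.transposeLinearEquiv ι ι F F).toLinearMap (Submodule.span F (matrixSet P)) =
        Submodule.span F (Matrix.transpose '' matrixSet P) := by
      rw [Submodule.map_span]
      rfl
    rw [← h1, hs, Submodule.map_top]
    exact LinearEquiv.range _
  refine bot_or_top hs' L ?_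
  rintro _ ⟨_, ⟨g, hg, rfl⟩, rfl⟩ v hv
  rw [SetLike.mem_coe, ← hφ] at hg
  obtain ⟨y, rfl⟩ := hg
  have h1 := hL y⁻¹ v hv
  rw [rd_apply, inv_inv] at h1
  exact h1

end irr

section prod

variable {K : Type*} [Field K] {G : Type*} [Group G] {V₁ V₂ : Type*} [AddCommGroup V₁] [Module K V₁]
  [AddCommGroup V₂] [Module K V₂] (ρ₁ : G →* Module.End K V₁) (ρ₂ : G →* Module.End K V₂)

/-- the direct sum of two representations -/
noncomputable def prodRep : G →* Module.End K (V₁ × V₂) where
  toFun g := LinearMap.prodMap (ρ₁ g) (ρ₂ g)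
  map_one' := by rw [map_one, map_one]; exact LinearMap.prodMap_one
  map_mul' a b := by rw [map_mul, map_mul]; exact (LinearMap.prodMap_mul _ _ _ _).symm

theorem prodRep_apply (g : G) (v : V₁ × V₂) : prodRep ρ₁ ρ₂ g v = (ρ₁ g v.1, ρ₂ g v.2) := rfl

/-- a small invariant subspace of `V₁ × V₂` -/
theorem exists_iso [FiniteDimensional K V₁] [FiniteDimensional K V₂]
    (h₁ : ∀ L : Submodule K V₁, (∀ g, ∀ v ∈ L, ρ₁ g v ∈ L) → L = ⊥ ∨ L = ⊤)
    (h₂ : ∀ L : Submodule K V₂, (∀ g, ∀ v ∈ L, ρ₂ g v ∈ L) → L = ⊥ ∨ L = ⊤)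
    {N : ℕ} (hN₁ : Module.finrank K V₁ = N) (hN₂ : Module.finrank K V₂ = N) (W : Submodule K (V₁ × V₂))
    (hW : ∀ g, ∀ v ∈ W, prodRep ρ₁ ρ₂ g v ∈ W) (hWN : Module.finrank K W ≤ N) {v : V₁ × V₂} (hv : v ∈ W)
    (hv1 : v.1 ≠ 0) (hv2 : v.2 ≠ 0) : ∃ e : V₁ ≃ₗ[K] V₂, ∀ g w, e (ρ₁ g w) = ρ₂ g (e w) := by
  let f₁ : W →ₗ[K] V₁ := (LinearMap.fst K V₁ V₂).comp W.subtype
  let f₂ : W →ₗ[K] V₂ := (LinearMap.snd K V₁ V₂).comp W.subtype
  have r₁ : LinearMap.range f₁ = ⊤ := by
    rcases h₁ (LinearMap.range f₁) (by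
      rintro g _ ⟨w, rfl⟩
      exact ⟨⟨_, hW g _ w.2⟩, rfl⟩) with h | h
    · exfalso
      apply hv1
      have : f₁ ⟨v, hv⟩ ∈ LinearMap.range f₁ := ⟨_, rfl⟩
      rw [h] at this
      exact (Submodule.mem_bot K).1 this
    · exact h
  have r₂ : LinearMap.range f₂ = ⊤ := by
    rcases h₂ (LinearMap.range f₂) (by
      rintro g _ ⟨w, rfl⟩
      exact ⟨⟨_, hW g _ w.2⟩, rfl⟩) with h | h
    · exfalso
      apply hv2
      have : f₂ ⟨v, hv⟩ ∈ LinearMap.range f₂ := ⟨_, rfl⟩
      rw [h] at this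
      exact (Submodule.mem_bot K).1 this
    · exact h
  have s₁ : Function.Surjective f₁ := LinearMap.range_eq_top.1 r₁
  have s₂ : Function.Surjective f₂ := LinearMap.range_eq_top.1 r₂
  have q₁ := LinearMap.finrank_le_finrank_of_surjective s₁
  have hN : Module.finrank K W = N := le_antisymm hWN (hN₁ ▸ q₁)
  have i₁ : Function.Injective f₁ := (LinearMap.injective_iff_surjective_of_finrank_eq_finrank (hN.trans hN₁.symm)).2 s₁
  have i₂ : Function.Injective f₂ := (LinearMap.injective_iff_surjective_of_finrank_eq_finrank (hN.trans hN₂.symm)).2 s₂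
  let e₁ := LinearEquiv.ofBijective f₁ ⟨i₁, s₁⟩
  let e₂ := LinearEquiv.ofBijective f₂ ⟨i₂, s₂⟩
  refine ⟨e₁.symm.trans e₂, fun g w => ?_⟩
  obtain ⟨u, rfl⟩ := e₁.surjective w
  have h3 : ρ₁ g (e₁ u) = e₁ ⟨_, hW g _ u.2⟩ := rfl
  rw [h3, LinearEquiv.trans_apply, LinearEquiv.trans_apply, LinearEquiv.symm_apply_apply,
    LinearEquiv.symm_apply_apply]
  rfl

/-- isomorphic representations have the same traces -/
theorem trace_eq_of_iso {e : V₁ ≃ₗ[K] V₂} (he : ∀ g w, e (ρ₁ g w) = ρ₂ g (e w)) (g : G) :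
    LinearMap.trace K V₁ (ρ₁ g) = LinearMap.trace K V₂ (ρ₂ g) := by
  rw [← LinearMap.trace_conj' (ρ₁ g) e]
  congr 1
  ext v
  rw [LinearEquiv.conj_apply_apply, he, LinearEquiv.apply_symm_apply]

end prod

end Cfsg.Agent.H659.Ac
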