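import Cfsg.Agent.H659.J1Rep
import Cfsg.Agent.H659.AcIrr
import Cfsg.Agent.H1.RealCover
import Cfsg.Agent.S2039

/-!
# Cores with simple group `J₁` in degree ≤ 12 live in characteristic 11

`J1.scalars_eq_bot` : `Core P`, `Soc P ≃* J₁` ⟹ `P` has no scalars; `J1.mulEquiv` : then `P ≃* J₁`;
`J1.not_core` : `Core P`, `Soc P ≃* J₁`, characteristic `p ≠ 11` ⟹ the degree is at least 13.
-/

set_option autoImplicit false

namespace Cfsg.Agent.H659.J1

open Module Cfsg Cfsg.Geo Matrix Cfsg.Agent.H915.LD Cfsg.Agent.H659.Ac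
open Cfsg.Spor (J1)

theorem exists_root (k : Type*) [Field k] [IsAlgClosed k] (m : ℕ) (hm : (m : k) ≠ 0) : ∃ ζ : k, IsPrimitiveRoot ζ m := by
  have : NeZero (m : k) := ⟨hm⟩
  have h : HasEnoughRootsOfUnity k m := inferInstance
  exact HasEnoughRootsOfUnity.exists_primitiveRoot k m

section

variable {K : Type*} [Field K] [IsAlgClosed K] {V : Type*} [AddCommGroup V] [Module K V] [FiniteDimensional K V]
  (ρ : J1 →* Module.End K V)

/-- **`J₁` has no representation of degree 2, …, 12 in characteristic ≠ 11** -/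
theorem no_rep (hirr : ∀ L : Submodule K V, (∀ k, ∀ v ∈ L, ρ k v ∈ L) → L = ⊥ ∨ L = ⊤) (hn : 2 ≤ finrank K V)
    (h12 : finrank K V ≤ 12) (h11 : ((11 : ℕ) : K) ≠ 0) : False := by
  obtain ⟨ζ, hζ⟩ := exists_root K 11 h11
  by_cases h2 : (2 : K) = 0
  · have odd : ∀ k : ℕ, ((2 * k + 1 : ℕ) : K) ≠ 0 := by
      intro k
      push_cast
      rw [h2, zero_mul, zero_add]
      exact one_ne_zero
    obtain ⟨η, hη⟩ := exists_root K 7 (odd 3)
    obtain ⟨l, hl⟩ := exists_root K 5 (odd 2)
    exact no_two ρ hirr hn h2 hζ hη hl h12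
  · exact no_odd ρ hirr hn h2 h11 hζ h12

end

variable {ι : Type} [Fintype ι] [DecidableEq ι] {F : Type*} [Field F] {P : Subgroup (GL ι F)}

/-- the isomorphism of a core of type `J₁` with `J₁` -/
theorem exists_equiv (hC : Core P) (e : Soc P ≃* J1) :
    (scalars ι F).subgroupOf P = ⊥ ∧ ∃ E : P ≃* J1, ∀ k : P, E k = e (toSoc P k) := by
  have : Finite J1 := H413.JOneLocal.fin_J1
  have hA := S2039.result
  obtain ⟨φ, hφ, h⟩ := H1.RealCover.cover_hom hC e (A := Multiplicative (ZMod 1)) hA (MonoidHom.id J1)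
    ⟨Function.surjective_id, by rw [MonoidHom.ker_id]; exact bot_le, by rw [MonoidHom.ker_id]; exact bot_le⟩
    (by rw [MonoidHom.ker_id, Subgroup.card_bot, Nat.card_congr (Multiplicative.toAdd (α := ZMod 1)), Nat.card_zmod])
  have hinj : Function.Injective (H1.RealCover.pj P e) := by
    intro a b hab
    obtain ⟨a', rfl⟩ := hφ a
    obtain ⟨b', rfl⟩ := hφ b
    rw [h, h] at hab
    have : a' = b' := hab
    rw [this]
  refine ⟨?_, ?_⟩
  · rw [← H1.RealCover.ker_pj e, MonoidHom.ker_eq_bot_iff]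
    exact hinj
  · exact ⟨MulEquiv.ofBijective (H1.RealCover.pj P e) ⟨hinj, H1.RealCover.pj_surjective e⟩, fun k => rfl⟩

/-- **Cores of type `J₁` in characteristic ≠ 11 have degree ≥ 13.** -/
theorem not_core (hC : Core P) (h : Spor.IsoJ1 (Soc P)) (p : ℕ) [hp : Fact p.Prime] [CharP F p] (h11 : p ≠ 11)
    (hn : Fintype.card ι ≤ 12) : False := by
  obtain ⟨e⟩ := h
  obtain ⟨-, E, -⟩ := exists_equiv hC e
  have hn2 := hC.two_le
  let φ' : J1 →* GL ι F := P.subtype.comp E.symm.toMonoidHom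
  have hrange : φ'.range = P := by
    ext g
    constructor
    · rintro ⟨w, rfl⟩
      exact (E.symm w).2
    · intro hg
      refine ⟨E ⟨g, hg⟩, ?_⟩
      change ((E.symm (E ⟨g, hg⟩) : P) : GL ι F) = g
      rw [MulEquiv.symm_apply_apply]
  have hs := H920.span_eq_top hC.absIrred
  let A := AlgebraicClosure F
  have hinj : Function.Injective (algebraMap F A) := (algebraMap F A).injective
  have hne : ((11 : ℕ) : A) ≠ 0 := by
    intro h0
    have h4 : ((11 : ℕ) : F) = 0 := by
      apply hinj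
      rw [map_natCast, map_zero, h0]
    rw [CharP.cast_eq_zero_iff F p] at h4
    exact h11 ((Nat.prime_dvd_prime_iff_eq hp.out (by norm_num)).1 h4)
  have hfr : Module.finrank A (ι → A) = Fintype.card ι := Module.finrank_fintype_fun_eq_card A
  exact no_rep (rp A φ') (rp_irr A φ' hrange hs) (by rw [hfr]; exact hn2) (by rw [hfr]; exact hn) hne

end Cfsg.Agent.H659.J1
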