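import Cfsg.Agent.H659.Sp4Six
import Cfsg.Agent.H915.LD
import Cfsg.Agent.H95.StemCover
import Cfsg.Agent.H62.SpMult
import Cfsg.Agent.H180.U42Conj
import Cfsg.Agent.S0822

/-!
# LOWDIM T5: cores with simple group `PSp₄(3) ≃ PSU₄(2)` in degree ≤ 12, characteristic ≠ 2, 3

`u42_stage` : `Core P`, `Soc P ≃* PSp 2 K`, `|K| = 3`, `p ≠ 2, 3`, `n ≤ 12` ⟹
`n = 4`, or `n = 5, 10`, `P` has no scalars, `Fr P p` (`p = 1 mod 3`), `Cj P p` (`p = 2 mod 3`), or
`n = 6`, `P` has no scalars, `SD P`, `Fr P p`.  `u42_stage'` : the same for `PSU 4 K 2`, `|K| = 4`.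
-/

set_option autoImplicit false

namespace Cfsg.Agent.H659.Sp4

open Cfsg Cfsg.Geo Matrix SevenU42 Ac
open Cfsg.Agent.H915.LD

section conj

variable {ι : Type} [Fintype ι] [DecidableEq ι] {F : Type*} [Field F] [Finite F] {P : Subgroup (GL ι F)}

/-- `Fr` and `Cj` from conjugacy -/
theorem fr_cj_of_conj (p : ℕ) [hp : Fact p.Prime] [CharP F p]
    (h : ∀ (g : P) (k : ℕ), k % 3 = 1 → Nat.Coprime k (orderOf g) → IsConj g (g ^ k)) :
    (p % 3 = 1 → Fr P p) ∧ (p % 3 = 2 → Cj P p) := by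
  have hpow : ∀ g : GL ι F, tr g ^ p = tr (g ^ p) := by
    intro g
    have := tr_pow_char p g 1
    rw [pow_one] at this
    exact this.symm
  refine ⟨fun h1 => ?_, fun h1 => ?_⟩
  · apply Fr.of_reg'
    intro g hg hpg
    rw [hpow]
    have h3 := h ⟨g, hg⟩ p h1 (by
      rw [Subgroup.orderOf_mk]
      exact (Nat.Prime.coprime_iff_not_dvd hp.out).2 hpg)
    exact (tr_of_isConj h3).symm
  · apply Cj.of_reg'
    intro g hg hpg
    rw [hpow]
    set m := orderOf g with hm
    have hm0 : 0 < m := orderOf_pos g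
    have h3 := h ⟨g, hg⟩ (p * (3 * m - 1)) (by
      obtain ⟨r, hr⟩ : ∃ r, m = r + 1 := ⟨m - 1, by omega⟩
      rw [hr, show 3 * (r + 1) - 1 = 3 * r + 2 by omega, Nat.mul_mod, h1]
      omega) (by
      rw [Subgroup.orderOf_mk, ← hm]
      refine Nat.Coprime.mul_left ((Nat.Prime.coprime_iff_not_dvd hp.out).2 hpg) ?_
      have h4 : (3 * m - 1) + 1 = m * 3 := by omega
      have h5 : Nat.Coprime ((3 * m - 1) + 1) (3 * m - 1) := by simp
      rw [h4] at h5
      exact (Nat.Coprime.coprime_mul_right h5).symm)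
    have h4 : IsConj (g : GL ι F) ((g ^ p)⁻¹) := by
      have h5 := tr_of_isConj h3
      obtain ⟨c, hc⟩ := isConj_iff.1 h3
      refine isConj_iff.2 ⟨c, ?_⟩
      have h6 := congrArg Subtype.val hc
      rw [Subgroup.coe_mul, Subgroup.coe_mul, Subgroup.coe_pow] at h6
      rw [Subgroup.coe_inv] at h6
      rw [h6]
      change g ^ (p * (3 * m - 1)) = (g ^ p)⁻¹
      rw [eq_inv_iff_mul_eq_one, ← pow_add, show p * (3 * m - 1) + p = m * (p * 3) by
        have : (3 * m - 1) + 1 = 3 * m := by omega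
        calc p * (3 * m - 1) + p = p * ((3 * m - 1) + 1) := by ring
          _ = m * (p * 3) := by rw [this]; ring, pow_mul, hm, pow_orderOf_eq_one, one_pow]
    obtain ⟨c, hc⟩ := isConj_iff.1 h4
    have h7 : c * g⁻¹ * c⁻¹ = g ^ p := by
      rw [← _root_.inv_inj, ← hc]; group
    rw [← h7, tr_conj]

end conj

section main

theorem center_sp {w : Sp} (hw : w ∈ Subgroup.center Sp) : w = 1 ∨ w = negG := by
  have h1 : Nat.card (Subgroup.center Sp) = 2 :=
    Cfsg.Agent.LieClassical.SympCenter.card_center (F := ZMod 3) (m := 2) (by norm_num)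
  obtain ⟨y, hy, huniq⟩ := (Nat.card_eq_two_iff' (1 : Subgroup.center Sp)).1 h1
  have hneg : negG ∈ Subgroup.center Sp := by
    rw [Subgroup.mem_center_iff]
    intro g
    apply Subtype.ext
    change g.1 * negG.1 = negG.1 * g.1
    rw [negG_val, mul_neg, neg_mul, mul_one, one_mul]
  have hne : negG ≠ 1 := by
    intro h
    have h4 := congrArg Subtype.val h
    rw [negG_val] at h4
    revert h4
    decide +kernel
  by_cases h : w = 1
  · exact Or.inl h
  · right
    have a1 := huniq ⟨w, hw⟩ (fun h4 => h (congrArg Subtype.val h4))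
    have a2 := huniq ⟨negG, hneg⟩ (fun h4 => hne (congrArg Subtype.val h4))
    exact congrArg Subtype.val (a1.trans a2.symm)

variable {ι : Type} [Fintype ι] [DecidableEq ι] {F : Type*} [Field F] [Finite F] {P : Subgroup (GL ι F)}

/-- **Cores of type `PSp₄(3)`, degree ≤ 12, characteristic ≠ 2, 3.** -/
theorem u42_stage (hC : Core P) (p : ℕ) [hp : Fact p.Prime] [CharP F p] (hp2 : p ≠ 2) (hp3 : p ≠ 3)
    (hn : Fintype.card ι ≤ 12) {k : Type*} [Field k] [Fintype k] (hk : Fintype.card k = 3)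
    (e : Soc P ≃* PSp 2 k) :
    Fintype.card ι = 4 ∨
    ((Fintype.card ι = 5 ∨ Fintype.card ι = 10) ∧ (scalars ι F).subgroupOf P = ⊥ ∧
      (p % 3 = 1 → Fr P p) ∧ (p % 3 = 2 → Cj P p)) ∨
    (Fintype.card ι = 6 ∧ (scalars ι F).subgroupOf P = ⊥ ∧ SD P ∧ Fr P p) := by
  classical
  have hn2 := hC.two_le
  let e0 : ZMod 3 ≃+* k := ZMod.ringEquivOfPrime k Nat.prime_three hk
  let E : Soc P ≃* PSp 2 (ZMod 3) := e.trans (Cfsg.Agent.LieClassical.FieldTransfer.pspCongr 2 e0).symm
  let π : P →* PSp 2 (ZMod 3) := E.toMonoidHom.comp (toSoc P)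
  have hπ : Function.Surjective π := E.surjective.comp (toSoc_surjective P)
  have hker : π.ker = (scalars ι F).subgroupOf P := ker_comp E
  have hkc : π.ker ≤ Subgroup.center P := by rw [hker]; exact scalars_le_center
  obtain ⟨φ, hφ, hφπ⟩ := H95.StemCover.exists_cover_of_trivial
    (H62.SpMult.perfect_Sp (F := ZMod 3) (m := 2) le_rfl (fun _ => le_refl 3))
    (H62.SpMult.hasTrivial_Sp (F := ZMod 3) (m := 2) le_rfl (fun _ => le_refl 3) (by decide))
    (QuotientGroup.mk' (Subgroup.center Sp)) (QuotientGroup.mk'_surjective _) (by rw [QuotientGroup.ker_mk'])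
    hC.commutator_top π hπ hkc
  let φ' : Sp →* GL ι F := P.subtype.comp φ
  have hrange : φ'.range = P := by
    ext g
    constructor
    · rintro ⟨w, rfl⟩
      exact (φ w).2
    · intro hg
      obtain ⟨w, hw⟩ := hφ ⟨g, hg⟩
      exact ⟨w, congrArg Subtype.val hw⟩
  have hs := H920.span_eq_top hC.absIrred
  let A := AlgebraicClosure F
  have hinj : Function.Injective (algebraMap F A) := (algebraMap F A).injective
  have hne : ∀ q : ℕ, q.Prime → q ≠ p → (q : A) ≠ 0 := by
    intro q hq hqp h0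
    have h4 : ((q : ℕ) : F) = 0 := by
      apply hinj
      rw [map_natCast, map_zero, h0]
    rw [CharP.cast_eq_zero_iff F p] at h4
    exact hqp ((Nat.prime_dvd_prime_iff_eq hp.out hq).1 h4).symm
  have h2 : (2 : A) ≠ 0 := by exact_mod_cast hne 2 Nat.prime_two (Ne.symm hp2)
  have h3 : (3 : A) ≠ 0 := by exact_mod_cast hne 3 Nat.prime_three (Ne.symm hp3)
  have irr₁ := rp_irr A φ' hrange hs
  have irr₂ := rd_irr A φ' hrange hs
  have hfr : Module.finrank A (ι → A) = Fintype.card ι := Module.finrank_fintype_fun_eq_card A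
  have D₁ := degrees (rels (rp A φ')) h2 h3 (irr_of _ irr₁) (by rw [hfr]; exact hn2) (by rw [hfr]; exact hn)
  have D₂ := degrees (rels (rd A φ')) h2 h3 (irr_of _ irr₂) (by rw [hfr]; exact hn2) (by rw [hfr]; exact hn)
  rw [hfr] at D₁ D₂
  simp only [t1t2_eq] at D₁ D₂
  rcases neg_sign (rp A φ') irr₁ with hneg | hneg
  · right
    -- `φ' negG = 1`
    have hφ1 : φ' negG = 1 := by
      have h4 : (φ' negG : Matrix ι ι F).map (algebraMap F A) = 1 := by
        apply Matrix.toLin'.injective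
        rw [Matrix.toLin'_one]
        exact LinearMap.ext hneg
      apply Units.ext
      ext i j
      apply hinj
      have h5 := congrFun (congrFun h4 i) j
      rw [Matrix.map_apply] at h5
      rw [h5, Units.val_one]
      by_cases hij : i = j
      · subst hij; simp
      · simp [hij]
    have hφ1' : φ negG = 1 := Subtype.ext hφ1
    have hbot : (scalars ι F).subgroupOf P = ⊥ := by
      rw [← hker, eq_bot_iff]
      intro z hz
      obtain ⟨w, rfl⟩ := hφ z
      rw [MonoidHom.mem_ker, hφπ] at hz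
      have hw : w ∈ Subgroup.center Sp := (QuotientGroup.eq_one_iff w).1 hz
      rw [Subgroup.mem_bot]
      rcases center_sp hw with rfl | rfl
      · exact map_one φ
      · exact hφ1'
    have hneg2 : ∀ v, rd A φ' negG v = v := by
      intro v
      rw [rd_apply, map_inv, hφ1, inv_one, Units.val_one, Matrix.map_one _ (map_zero _) (map_one _),
        Matrix.transpose_one, Matrix.one_mulVec]
    -- conjugacy
    have hπi : Function.Injective π := by
      rw [← MonoidHom.ker_eq_bot_iff, hker, hbot]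
    obtain ⟨e4⟩ := Cfsg.Agent.S0822.result (F := Cfsg.Agent.Lib.FieldFour.F4) (K := ZMod 3) rfl rfl
    let E' : P ≃* PSU 4 Cfsg.Agent.Lib.FieldFour.F4 2 := (MulEquiv.ofBijective π ⟨hπi, hπ⟩).trans e4.symm
    have hconj : ∀ (g : P) (k : ℕ), k % 3 = 1 → Nat.Coprime k (orderOf g) → IsConj g (g ^ k) := by
      intro g k hk1 hco
      have h4 := H180.u42_conj_pow (K := Cfsg.Agent.Lib.FieldFour.F4) rfl (E' g) k hk1 (by
        rw [MulEquiv.orderOf_eq]; exact hco)
      have h5 := MonoidHom.map_isConj E'.symm.toMonoidHom h4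
      change IsConj (E'.symm (E' g)) (E'.symm ((E' g) ^ k)) at h5
      rwa [map_pow, MulEquiv.symm_apply_apply] at h5
    have hfc := fr_cj_of_conj p hconj
    rcases D₁.2 hneg with h5 | h10 | ⟨h6, T₁⟩
    · exact Or.inl ⟨Or.inl h5, hbot, hfc⟩
    · exact Or.inl ⟨Or.inr h10, hbot, hfc⟩
    · right
      obtain ⟨ω, w1, w2, w3⟩ := Triple.exists_omega h3
      have hω : Om ω := ⟨w1, w2, w3⟩
      have T₂ : Ty (ops (rd A φ')) ω 0 0 0 1 0 := by
        rcases D₂.2 hneg2 with h5 | h10 | ⟨-, T₂⟩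
        · omega
        · omega
        · exact T₂ ω hω
      obtain ⟨f, hf⟩ := iso_of_six (rp A φ') (rd A φ') h2 h3 irr₁ irr₂ hneg hneg2 hω (T₁ ω hω) T₂
      have hSD : SD P := by
        intro g hg
        obtain ⟨w, hw⟩ : ∃ w, φ' w = g := by
          have : g ∈ φ'.range := by rw [hrange]; exact hg
          exact this
        have h7 := trace_eq_of_iso (rp A φ') (rd A φ') hf w
        rw [trace_rp, trace_rd] at h7
        have h8 := hinj h7
        rw [map_inv, hw] at h8
        exact h8.symm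
      refine ⟨h6, hbot, hSD, ?_⟩
      have hp' : p % 3 = 1 ∨ p % 3 = 2 := by
        have h9 : ¬ 3 ∣ p := fun h => hp3 ((Nat.prime_dvd_prime_iff_eq Nat.prime_three hp.out).1 h).symm
        omega
      rcases hp' with h9 | h9
      · exact hfc.1 h9
      · exact Fr.of_sd_cj hSD (hfc.2 h9)
  · exact Or.inl (D₁.1 hneg)

/-- the same with `PSU₄(2)` -/
theorem u42_stage' (hC : Core P) (p : ℕ) [hp : Fact p.Prime] [CharP F p] (hp2 : p ≠ 2) (hp3 : p ≠ 3)
    (hn : Fintype.card ι ≤ 12) {k : Type*} [Field k] [Fintype k] (hk : Fintype.card k = 4)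
    (e : Soc P ≃* PSU 4 k 2) :
    Fintype.card ι = 4 ∨
    ((Fintype.card ι = 5 ∨ Fintype.card ι = 10) ∧ (scalars ι F).subgroupOf P = ⊥ ∧
      (p % 3 = 1 → Fr P p) ∧ (p % 3 = 2 → Cj P p)) ∨
    (Fintype.card ι = 6 ∧ (scalars ι F).subgroupOf P = ⊥ ∧ SD P ∧ Fr P p) := by
  obtain ⟨e4⟩ := Cfsg.Agent.S0822.result (F := k) (K := ZMod 3) hk rfl
  exact u42_stage hC p hp2 hp3 hn (k := ZMod 3) rfl (e.trans e4)

end main

end Cfsg.Agent.H659.Sp4
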