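import Cfsg.Agent.H906.MatCoef
import Cfsg.Agent.LieRecognition.RankOneAbstract

/-!
# Matrix coefficients of a rank-one group on a vector fixed by the unipotent radical

`G` a group with a rank-one datum `Data B U n`, `B = U ⟨h⟩`. Representations with a vector `v` and a functional `φ`
on which `U` acts trivially and `h` by the scalar `l`, `φ v = 1`: the number `φ (n v)` depends only on `l` when the
degrees are small, and the representation is determined by `l`.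
-/

set_option autoImplicit false

namespace Cfsg.Agent.H659.BorelCoef

open Cfsg.Agent.LieRecognition.RankOneAbstract Cfsg.Agent.H906
open scoped MatrixGroups Matrix

variable {G : Type*} [Group G] {A : Type*} [Field A]

/-- `U` acts trivially and `h` by `l` on the vector `v` and on the functional `φ`. -/
structure Ad {ι : Type} [Fintype ι] [DecidableEq ι] (U : Subgroup G) (h : G) (ρ : G →* Matrix ι ι A)
    (v φ : ι → A) (l : A) : Prop where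
  one : φ ⬝ᵥ v = 1
  uv : ∀ u ∈ U, ρ u *ᵥ v = v
  hv : ρ h *ᵥ v = l • v
  uφ : ∀ u ∈ U, ∀ w, φ ⬝ᵥ (ρ u *ᵥ w) = φ ⬝ᵥ w
  hφ : ∀ w, φ ⬝ᵥ (ρ h *ᵥ w) = l * (φ ⬝ᵥ w)

section

variable {ι : Type} [Fintype ι] [DecidableEq ι] {U : Subgroup G} {h : G} {ρ : G →* Matrix ι ι A}
    {v φ : ι → A} {l : A}

omit [Fintype ι] [DecidableEq ι] in
theorem rho_mulVec [Fintype ι] [DecidableEq ι] (ρ : G →* Matrix ι ι A) (a b : G) (w : ι → A) :
    ρ (a * b) *ᵥ w = ρ a *ᵥ (ρ b *ᵥ w) := by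
  rw [map_mul, Matrix.mulVec_mulVec]

theorem Ad.v_ne_zero (a : Ad U h ρ v φ l) : v ≠ 0 := by
  rintro rfl
  have := a.one
  rw [dotProduct_zero] at this
  exact zero_ne_one this

theorem Ad.φ_ne_zero (a : Ad U h ρ v φ l) : φ ≠ 0 := by
  rintro rfl
  have := a.one
  rw [zero_dotProduct] at this
  exact zero_ne_one this

theorem Ad.l_ne_zero (a : Ad U h ρ v φ l) : l ≠ 0 := by
  intro hl
  have h1 := a.hv
  rw [hl, zero_smul] at h1
  have h2 : ρ h⁻¹ *ᵥ (ρ h *ᵥ v) = v := by rw [← rho_mulVec, inv_mul_cancel, map_one, Matrix.one_mulVec]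
  rw [h1, Matrix.mulVec_zero] at h2
  exact a.v_ne_zero h2.symm

theorem Ad.pow_v (a : Ad U h ρ v φ l) (k : ℕ) : ρ (h ^ k) *ᵥ v = l ^ k • v := by
  induction k with
  | zero => simp
  | succ k ih => rw [pow_succ, rho_mulVec, a.hv, Matrix.mulVec_smul, ih, smul_smul, pow_succ, mul_comm]

theorem Ad.pow_φ (a : Ad U h ρ v φ l) (k : ℕ) (w : ι → A) : φ ⬝ᵥ (ρ (h ^ k) *ᵥ w) = l ^ k * (φ ⬝ᵥ w) := by
  induction k generalizing w with
  | zero => simp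
  | succ k ih => rw [pow_succ, rho_mulVec, ih, a.hφ, pow_succ, mul_assoc]

theorem Ad.contra (a : Ad U h ρ v φ l) : Ad U h (contra ρ) φ v l⁻¹ := by
  have key : ∀ (g : G) (ψ w : ι → A), w ⬝ᵥ (H906.contra ρ g *ᵥ ψ) = ψ ⬝ᵥ (ρ g⁻¹ *ᵥ w) := by
    intro g ψ w
    rw [contra_apply, Matrix.mulVec_transpose, dotProduct_comm, Matrix.dotProduct_mulVec]
  have hui : ∀ u ∈ U, ∀ w, φ ⬝ᵥ (ρ u⁻¹ *ᵥ w) = φ ⬝ᵥ w := fun u hu w => a.uφ _ (U.inv_mem hu) w
  have hhi : ∀ w, φ ⬝ᵥ (ρ h⁻¹ *ᵥ w) = l⁻¹ * (φ ⬝ᵥ w) := by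
    intro w
    have h1 := a.hφ (ρ h⁻¹ *ᵥ w)
    rw [← rho_mulVec, mul_inv_cancel, map_one, Matrix.one_mulVec] at h1
    rw [h1, inv_mul_cancel_left₀ a.l_ne_zero]
  have hvi : ρ h⁻¹ *ᵥ v = l⁻¹ • v := by
    have h2 : ρ h⁻¹ *ᵥ (ρ h *ᵥ v) = v := by rw [← rho_mulVec, inv_mul_cancel, map_one, Matrix.one_mulVec]
    rw [a.hv, Matrix.mulVec_smul] at h2
    rw [← h2, smul_smul, inv_mul_cancel₀ a.l_ne_zero, one_smul, h2]
  refine ⟨by rw [dotProduct_comm]; exact a.one, ?_, ?_, ?_, ?_⟩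
  · intro u hu
    funext i
    have h1 := key u φ (Pi.single i 1)
    rw [hui u hu, single_one_dotProduct, dotProduct_single_one] at h1
    exact h1
  · funext i
    have h1 := key h φ (Pi.single i 1)
    rw [hhi, single_one_dotProduct, dotProduct_single_one] at h1
    exact h1
  · intro u hu w
    rw [key, a.uv _ (U.inv_mem hu), dotProduct_comm]
  · intro w
    rw [key, hvi, dotProduct_smul, smul_eq_mul, dotProduct_comm]

theorem Ad.twist (a : Ad U h ρ v φ l) (σ : A ≃+* A) : Ad U h (twist σ ρ) (σ ∘ v) (σ ∘ φ) (σ l) := by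
  have hc : ∀ (g : G) (w : ι → A), H906.twist σ ρ g *ᵥ (σ ∘ w) = σ ∘ (ρ g *ᵥ w) := fun g w => by
    rw [twist_apply, comp_mulVec]
  have hw : ∀ w : ι → A, ∃ w', w = σ ∘ w' := fun w => ⟨σ.symm ∘ w, by
    funext i
    simp⟩
  refine ⟨?_, ?_, ?_, ?_, ?_⟩
  · rw [← map_dotProduct', a.one, map_one]
  · intro u hu
    rw [hc, a.uv u hu]
  · rw [hc, a.hv, comp_smul]
  · intro u hu w
    obtain ⟨w, rfl⟩ := hw w
    rw [hc, ← map_dotProduct', ← map_dotProduct', a.uφ u hu]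
  · intro w
    obtain ⟨w, rfl⟩ := hw w
    rw [hc, ← map_dotProduct', ← map_dotProduct', a.hφ, map_mul]

end

/-- The trivial representation. -/
theorem ad_one (U : Subgroup G) (h : G) :
    Ad U h (1 : G →* Matrix (Fin 1) (Fin 1) A) (fun _ => 1) (fun _ => 1) 1 := by
  refine ⟨?_, ?_, ?_, ?_, ?_⟩ <;> simp [dotProduct]

section Compare

variable {B U : Subgroup G} {n h : G} (D : Data B U n) (hB : ∀ b ∈ B, ∃ u ∈ U, ∃ k : ℕ, b = u * h ^ k)
variable {ι₁ ι₂ : Type} [Fintype ι₁] [DecidableEq ι₁] [Fintype ι₂] [DecidableEq ι₂] {ρ₁ : G →* Matrix ι₁ ι₁ A}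
  {ρ₂ : G →* Matrix ι₂ ι₂ A} {v₁ φ₁ : ι₁ → A} {v₂ φ₂ : ι₂ → A} {l : A}

include hB in
/-- The action of `B` on the line. -/
theorem exists_char (b : G) (hb : b ∈ B) : ∃ k : ℕ, (∀ {ι : Type} [Fintype ι] [DecidableEq ι] (ρ : G →* Matrix ι ι A)
    (v φ : ι → A) (l : A), Ad U h ρ v φ l → ρ b *ᵥ v = l ^ k • v) := by
  obtain ⟨u, hu, k, rfl⟩ := hB b hb
  refine ⟨k, ?_⟩
  intro ι _ _ ρ v φ l a
  rw [rho_mulVec, a.pow_v, Matrix.mulVec_smul, a.uv u hu]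

include D hB in
/-- The value of the coefficient outside `B`. -/
theorem exists_val (g : G) (hg : g ∉ B) : ∃ k : ℕ, (∀ {ι : Type} [Fintype ι] [DecidableEq ι] (ρ : G →* Matrix ι ι A)
    (v φ : ι → A) (l : A), Ad U h ρ v φ l → φ ⬝ᵥ (ρ g *ᵥ v) = l ^ k * (φ ⬝ᵥ (ρ n *ᵥ v))) := by
  obtain ⟨s, hs, hb⟩ := D.bruhat g hg
  obtain ⟨k, hk⟩ := exists_char (A := A) hB _ hb
  refine ⟨k, ?_⟩
  intro ι _ _ ρ v φ l a
  have e : g = s * (n * ((s * n)⁻¹ * g)) := by group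
  rw [e, rho_mulVec, a.uφ s hs, rho_mulVec, hk ρ v φ l a, Matrix.mulVec_smul, dotProduct_smul, smul_eq_mul]

include D hB in
/-- **Comparison.** -/
theorem compare (a₁ : Ad U h ρ₁ v₁ φ₁ l) (a₂ : Ad U h ρ₂ v₂ φ₂ l) [Finite U]
    (hcard : Fintype.card ι₁ + Fintype.card ι₂ < Nat.card U) :
    φ₁ ⬝ᵥ (ρ₁ n *ᵥ v₁) = φ₂ ⬝ᵥ (ρ₂ n *ᵥ v₂) ∧ φ₁ ⬝ᵥ (ρ₁ n *ᵥ v₁) ≠ 0 := by
  classical
  have := Fintype.ofFinite U
  rw [Nat.card_eq_fintype_card] at hcard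
  let w : U → (ι₁ → A) × (ι₂ → A) := fun u => (ρ₁ (u * n) *ᵥ v₁, ρ₂ (u * n) *ᵥ v₂)
  have hrk : Module.finrank A ((ι₁ → A) × (ι₂ → A)) = Fintype.card ι₁ + Fintype.card ι₂ := by
    rw [Module.finrank_prod, Module.finrank_fintype_fun_eq_card, Module.finrank_fintype_fun_eq_card]
  have hnli : ¬ LinearIndependent A w := by
    intro hli
    have := hli.fintype_card_le_finrank
    rw [hrk] at this
    omega
  rw [Fintype.not_linearIndependent_iff] at hnli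
  obtain ⟨r, hr, u0, hu0⟩ := hnli
  -- the values on the translates
  have hval : ∀ u : U, ∃ k : ℕ, u ≠ u0 → (∀ {ι : Type} [Fintype ι] [DecidableEq ι] (ρ : G →* Matrix ι ι A)
      (v φ : ι → A) (l : A), Ad U h ρ v φ l →
      φ ⬝ᵥ (ρ (n⁻¹ * (u0 : G)⁻¹ * (u * n)) *ᵥ v) = l ^ k * (φ ⬝ᵥ (ρ n *ᵥ v))) := by
    intro u
    by_cases hu : u = u0
    · exact ⟨0, fun h => absurd hu h⟩
    · obtain ⟨k, hk⟩ := exists_val (A := A) D hB (n⁻¹ * (u0 : G)⁻¹ * (u * n)) (by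
        intro hmem
        have h1 := D.inter ((u0 : G)⁻¹ * u) (U.mul_mem (U.inv_mem u0.2) u.2) (by
          rw [mul_assoc, mul_assoc, ← mul_assoc]
          convert hmem using 1)
        exact hu (Subtype.ext (inv_mul_eq_one.1 h1).symm))
      exact ⟨k, fun _ => hk⟩
  choose k hk using hval
  have key : ∀ {ι : Type} [Fintype ι] [DecidableEq ι] (ρ : G →* Matrix ι ι A) (v φ : ι → A), Ad U h ρ v φ l →
      ∑ u : U, r u • (ρ (u * n) *ᵥ v) = 0 →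
      r u0 + (∑ u ∈ Finset.univ.erase u0, r u * l ^ k u) * (φ ⬝ᵥ (ρ n *ᵥ v)) = 0 := by
    intro ι _ _ ρ v φ a hsum
    have h1 : φ ⬝ᵥ (ρ (n⁻¹ * (u0 : G)⁻¹) *ᵥ (∑ u : U, r u • (ρ (u * n) *ᵥ v))) = 0 := by
      rw [hsum, Matrix.mulVec_zero, dotProduct_zero]
    rw [Matrix.mulVec_sum, dotProduct_sum] at h1
    have h2 : ∀ u : U, φ ⬝ᵥ (ρ (n⁻¹ * (u0 : G)⁻¹) *ᵥ (r u • (ρ (u * n) *ᵥ v))) =
        r u * (φ ⬝ᵥ (ρ (n⁻¹ * (u0 : G)⁻¹ * (u * n)) *ᵥ v)) := by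
      intro u
      rw [Matrix.mulVec_smul, dotProduct_smul, smul_eq_mul, ← rho_mulVec]
    simp only [h2] at h1
    rw [← Finset.add_sum_erase _ _ (Finset.mem_univ u0)] at h1
    have h3 : n⁻¹ * (u0 : G)⁻¹ * (u0 * n) = 1 := by group
    rw [h3, map_one, Matrix.one_mulVec, a.one, mul_one] at h1
    rw [← h1, Finset.sum_mul]
    congr 1
    refine Finset.sum_congr rfl fun u hu => ?_
    rw [hk u (Finset.ne_of_mem_erase hu) ρ v φ l a, mul_assoc]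
  have hs1 : ∑ u : U, r u • (ρ₁ (u * n) *ᵥ v₁) = 0 := by
    have := congrArg Prod.fst hr
    rw [Prod.fst_sum] at this
    exact this
  have hs2 : ∑ u : U, r u • (ρ₂ (u * n) *ᵥ v₂) = 0 := by
    have := congrArg Prod.snd hr
    rw [Prod.snd_sum] at this
    exact this
  have e1 := key ρ₁ v₁ φ₁ a₁ hs1
  have e2 := key ρ₂ v₂ φ₂ a₂ hs2
  set R := ∑ u ∈ Finset.univ.erase u0, r u * l ^ k u with hR
  have hR0 : R ≠ 0 := by
    intro h0
    rw [h0, zero_mul, add_zero] at e1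
    exact hu0 e1
  refine ⟨mul_left_cancel₀ hR0 (add_left_cancel (e1.trans e2.symm)), ?_⟩
  intro h0
  rw [h0, mul_zero, add_zero] at e1
  exact hu0 e1

include D hB in
/-- Two spanning representations of the same small degree with the same character have equal traces. -/
theorem trace_eq {ρ₁' : G →* Matrix ι₁ ι₁ A} {v₁' φ₁' : ι₁ → A}
    (h₁ : Submodule.span A (Set.range ρ₁) = ⊤) (h₂ : Submodule.span A (Set.range ρ₁') = ⊤)
    (a₁ : Ad U h ρ₁ v₁ φ₁ l) (a₂ : Ad U h ρ₁' v₁' φ₁' l) [Finite U]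
    (hcard : Fintype.card ι₁ + Fintype.card ι₁ < Nat.card U) (g : G) : (ρ₁' g).trace = (ρ₁ g).trace := by
  obtain ⟨hc, -⟩ := compare D hB a₁ a₂ hcard
  refine trace_eq_of_conj (exists_conj_of_functional ρ₁ ρ₁' h₁ h₂ (coef φ₁ v₁) (coef φ₁' v₁')
    (coef_ne_zero a₁.φ_ne_zero a₁.v_ne_zero) (coef_ne_zero a₂.φ_ne_zero a₂.v_ne_zero) ?_) g
  intro g
  change φ₁ ⬝ᵥ (ρ₁ g *ᵥ v₁) = φ₁' ⬝ᵥ (ρ₁' g *ᵥ v₁')
  by_cases hg : g ∈ B
  · obtain ⟨k, hk⟩ := exists_char (A := A) hB g hg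
    rw [hk ρ₁ v₁ φ₁ l a₁, hk ρ₁' v₁' φ₁' l a₂, dotProduct_smul, dotProduct_smul, a₁.one, a₂.one]
  · obtain ⟨k, hk⟩ := exists_val (A := A) D hB g hg
    rw [hk ρ₁ v₁ φ₁ l a₁, hk ρ₁' v₁' φ₁' l a₂, hc]

include D hB in
/-- The character on the torus is fixed by the Weyl element. -/
theorem pow_eq_one (a₁ : Ad U h ρ₁ v₁ φ₁ l) [Finite U] (hcard : Fintype.card ι₁ + Fintype.card ι₁ < Nat.card U)
    {m : ℕ} (hm : n⁻¹ * h * n = (h ^ m)⁻¹) : l ^ (m + 1) = 1 := by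
  obtain ⟨-, hc⟩ := compare D hB a₁ a₁ hcard
  have e1 : φ₁ ⬝ᵥ (ρ₁ (h * n) *ᵥ v₁) = l * (φ₁ ⬝ᵥ (ρ₁ n *ᵥ v₁)) := by
    rw [rho_mulVec, a₁.hφ]
  have e2 : h * n * h ^ m = n := by
    have : h * n = n * (h ^ m)⁻¹ := by rw [← hm]; group
    rw [this, inv_mul_cancel_right]
  have e3 : φ₁ ⬝ᵥ (ρ₁ (h * n * h ^ m) *ᵥ v₁) = l ^ m * (φ₁ ⬝ᵥ (ρ₁ (h * n) *ᵥ v₁)) := by
    rw [rho_mulVec, a₁.pow_v, Matrix.mulVec_smul, dotProduct_smul, smul_eq_mul]
  rw [e2, e1, ← mul_assoc, ← pow_succ] at e3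
  exact (mul_right_cancel₀ hc (by rw [one_mul]; exact e3)).symm

include D hB in
/-- The character on the torus is not trivial. -/
theorem ne_one (h₁ : Submodule.span A (Set.range ρ₁) = ⊤) (a₁ : Ad U h ρ₁ v₁ φ₁ l) [Finite U]
    (hcard : Fintype.card ι₁ + 1 < Nat.card U) (h2 : 1 < Fintype.card ι₁) : l ≠ 1 := by
  rintro rfl
  obtain ⟨hc, -⟩ := compare D hB a₁ (ad_one U h) (by simpa using hcard)
  have hc' : φ₁ ⬝ᵥ (ρ₁ n *ᵥ v₁) = 1 := by rw [hc]; simp [dotProduct]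
  have hf : ∀ g, coef φ₁ v₁ (ρ₁ g) = 1 := by
    intro g
    change φ₁ ⬝ᵥ (ρ₁ g *ᵥ v₁) = 1
    by_cases hg : g ∈ B
    · obtain ⟨k, hk⟩ := exists_char (A := A) hB g hg
      rw [hk ρ₁ v₁ φ₁ 1 a₁, dotProduct_smul, a₁.one, one_pow, one_smul]
    · obtain ⟨k, hk⟩ := exists_val (A := A) D hB g hg
      rw [hk ρ₁ v₁ φ₁ 1 a₁, hc', one_pow, one_mul]
  have hone : ∀ g, ρ₁ g = 1 := by
    intro g
    rw [← sub_eq_zero]
    refine eq_zero_of_functional (coef φ₁ v₁) (coef_ne_zero a₁.φ_ne_zero a₁.v_ne_zero) ?_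
    intro X Y
    have hX : X ∈ Submodule.span A (Set.range ρ₁) := by rw [h₁]; trivial
    have hY : Y ∈ Submodule.span A (Set.range ρ₁) := by rw [h₁]; trivial
    induction hX using Submodule.span_induction with
    | mem X hX =>
      obtain ⟨a, rfl⟩ := hX
      induction hY using Submodule.span_induction with
      | mem Y hY =>
        obtain ⟨b, rfl⟩ := hY
        rw [mul_sub, sub_mul, mul_one, ← map_mul, ← map_mul, ← map_mul, map_sub, hf, hf, sub_self]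
      | zero => rw [mul_zero, map_zero]
      | add x y _ _ hx hy => rw [mul_add, map_add, hx, hy, add_zero]
      | smul c x _ hx => rw [mul_smul_comm, map_smul, hx, smul_zero]
    | zero => rw [zero_mul, zero_mul, map_zero]
    | add x y _ _ hx hy => rw [add_mul, add_mul, map_add, hx, hy, add_zero]
    | smul c x _ hx => rw [smul_mul_assoc, smul_mul_assoc, map_smul, hx, smul_zero]
  have hle : Submodule.span A (Set.range ρ₁) ≤ A ∙ (1 : Matrix ι₁ ι₁ A) := by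
    rw [Submodule.span_le]
    rintro _ ⟨g, rfl⟩
    rw [hone g]
    exact Submodule.mem_span_singleton_self _
  obtain ⟨i, j, hij⟩ := Fintype.one_lt_card_iff.1 h2
  have h3 : Matrix.single i j (1 : A) ∈ A ∙ (1 : Matrix ι₁ ι₁ A) := hle (by rw [h₁]; trivial)
  obtain ⟨c, hc⟩ := Submodule.mem_span_singleton.1 h3
  have h4 := congrFun (congrFun hc i) j
  rw [Matrix.smul_apply, Matrix.one_apply_ne hij, smul_zero, Matrix.single_apply_same] at h4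
  exact zero_ne_one h4

end Compare

end Cfsg.Agent.H659.BorelCoef
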