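import Cfsg.Agent.H659.SevenU42Core
import Cfsg.Agent.H659.BorelCoef

/-!
# The fixed line of a Heisenberg group of order 27 in a 7-dimensional representation
-/

set_option autoImplicit false

namespace Cfsg.Agent.H659.HeisLine

open Module Cfsg.Agent.H659.Triple Cfsg.Agent.H659.BorelCoef
open scoped MatrixGroups Matrix

variable {A : Type*} [Field A] {V : Type*} [AddCommGroup V] [Module A V] [FiniteDimensional A V] {G : Type*} [Group G]

omit [FiniteDimensional A V] in
theorem mul_app (ρ : G →* Module.End A V) (a b : G) (v : V) : ρ a (ρ b v) = ρ (a * b) v := by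
  rw [map_mul, Module.End.mul_apply]

/-- Dimensions of the eigenspaces of an operator of order 3. -/
theorem sum_eigen [IsAlgClosed A] {T : Module.End A V} (hT : T ^ 3 = 1) (h3 : (3 : A) ≠ 0) {ω : A}
    (h : ω ^ 2 + ω + 1 = 0) (h1 : ω ≠ 1) (hω : ω ^ 3 = 1) :
    ∑ a : Fin 3, finrank A (T.eigenspace (ω ^ a.val)) = finrank A V := by
  classical
  have hinj : Function.Injective (fun a : Fin 3 => ω ^ a.val) := fun a b hab => pow_inj_fin h h1 hω hab
  have hind : iSupIndep (fun a : Fin 3 => T.eigenspace (ω ^ a.val)) :=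
    (Module.End.eigenspaces_iSupIndep T).comp hinj
  have htop : ⨆ a : Fin 3, T.eigenspace (ω ^ a.val) = ⊤ := by
    rw [eq_top_iff, ← Module.End.iSup_maxGenEigenspace_eq_top T]
    refine iSup_le fun μ => ?_
    rw [H912.Bd.maxGen_eq (K := A) (N := 3) (by exact_mod_cast h3) hT]
    by_cases hbot : T.eigenspace μ = ⊥
    · rw [hbot]; exact bot_le
    · obtain ⟨v, hv, hv0⟩ := Submodule.exists_mem_ne_zero_of_ne_bot hbot
      obtain ⟨a, ha⟩ := exists_pow h hω (pow_eigen hT hv0 (Module.End.mem_eigenspace_iff.1 hv))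
      rw [ha]
      exact le_iSup (fun a : Fin 3 => T.eigenspace (ω ^ a.val)) a
  have hi := DirectSum.isInternal_submodule_of_iSupIndep_of_iSup_eq_top hind htop
  have e := (LinearEquiv.ofBijective (DirectSum.coeLinearMap (fun a : Fin 3 => T.eigenspace (ω ^ a.val))) hi).finrank_eq
  rw [← e, Module.finrank_directSum]

/-- If `x y = z y x` and `z` acts by `ω` on an invariant subspace `D` then `ω ^ dim D = 1`. -/
theorem pow_finrank (ρ : G →* Module.End A V) {x y z : G} (hxy : x * y = z * (y * x)) {ω : A} (D : Submodule A V)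
    (hx : ∀ v ∈ D, ρ x v ∈ D) (hx' : ∀ v ∈ D, ρ x⁻¹ v ∈ D) (hy : ∀ v ∈ D, ρ y v ∈ D) (hy' : ∀ v ∈ D, ρ y⁻¹ v ∈ D)
    (hz : ∀ v ∈ D, ρ z v = ω • v) : ω ^ finrank A D = 1 := by
  set X := (ρ x).restrict hx with hX
  set Y := (ρ y).restrict hy with hY
  have e1 : X * Y = ω • (Y * X) := by
    ext v
    have h1 : ρ x (ρ y (v : V)) = ω • ρ y (ρ x (v : V)) := by
      rw [mul_app, hxy, ← mul_app, hz _ (by rw [← mul_app]; exact hy _ (hx _ v.2)), ← mul_app]
    exact h1
  have e2 : ((ρ x⁻¹).restrict hx') * X = 1 := by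
    ext v
    have h1 : ρ x⁻¹ (ρ x (v : V)) = v := by
      rw [mul_app, inv_mul_cancel, map_one, Module.End.one_apply]
    exact h1
  have e3 : ((ρ y⁻¹).restrict hy') * Y = 1 := by
    ext v
    have h1 : ρ y⁻¹ (ρ y (v : V)) = v := by
      rw [mul_app, inv_mul_cancel, map_one, Module.End.one_apply]
    exact h1
  have d1 : LinearMap.det X ≠ 0 := by
    intro h0
    have := congrArg LinearMap.det e2
    rw [map_mul, h0, mul_zero, map_one] at this
    exact zero_ne_one this
  have d2 : LinearMap.det Y ≠ 0 := by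
    intro h0
    have := congrArg LinearMap.det e3
    rw [map_mul, h0, mul_zero, map_one] at this
    exact zero_ne_one this
  have e4 := congrArg LinearMap.det e1
  rw [LinearMap.det_smul, map_mul, map_mul, mul_comm (LinearMap.det X)] at e4
  exact (mul_right_cancel₀ (mul_ne_zero d2 d1) (by rw [one_mul]; exact e4)).symm

/-- Group data: `U` a Heisenberg group of order 27 with centre generated by `z`, `h` inverts `z`. -/
structure HData (U : Subgroup G) (h z x y : G) : Prop where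
  zU : z ∈ U
  xU : x ∈ U
  yU : y ∈ U
  z3 : z ^ 3 = 1
  cent : ∀ u ∈ U, z * u = u * z
  xy : x * y = z * (y * x)
  hz : h * z = z⁻¹ * h
  comm : ∀ u ∈ U, ∃ t ∈ U, ∃ k : ℕ, u = h * t * h⁻¹ * t⁻¹ * z ^ k

variable {U : Subgroup G} {h z x y : G}

/-- The fixed line. -/
theorem exists_line [IsAlgClosed A] (h3 : (3 : A) ≠ 0) (H : HData U h z x y) (ρ : G →* Module.End A V)
    (hV : finrank A V = 7) (hz : ρ z ≠ 1) : ∃ v : V, v ≠ 0 ∧ ρ z v = v ∧ (∀ w, ρ z w = w → ∃ c : A, w = c • v) ∧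
      (∀ u ∈ U, ρ u v = v) ∧ ∃ l : A, ρ h v = l • v := by
  obtain ⟨ω, hω, h1, hω3⟩ := exists_omega h3
  set T := ρ z with hT
  have hT3 : T ^ 3 = 1 := by rw [hT, ← map_pow, H.z3, map_one]
  have hsum := sum_eigen hT3 h3 hω h1 hω3
  rw [hV, Fin.sum_univ_three] at hsum
  change finrank A (T.eigenspace (ω ^ 0)) + finrank A (T.eigenspace (ω ^ 1)) + finrank A (T.eigenspace (ω ^ 2)) = 7 at hsum
  rw [pow_zero, pow_one] at hsum
  have hUD : ∀ (μ : A) (u : G), u ∈ U → ∀ v ∈ T.eigenspace μ, ρ u v ∈ T.eigenspace μ := by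
    intro μ u hu v hv
    rw [Module.End.mem_eigenspace_iff] at hv ⊢
    rw [hT, mul_app, H.cent u hu, ← mul_app, ← hT, hv, map_smul]
  have hzh : z * h = h * z⁻¹ := by
    have := H.hz
    have e : z * (h * z) * z⁻¹ = z * (z⁻¹ * h) * z⁻¹ := by rw [this]
    simpa [mul_assoc] using e
  have hzinv : ∀ (μ : A) (v : V), μ ^ 3 = 1 → T v = μ • v → ρ z⁻¹ v = (μ ^ 2) • v := by
    intro μ v hμ hv
    have e : z⁻¹ = z * z := by
      rw [inv_eq_iff_mul_eq_one, ← pow_two, ← pow_succ']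
      exact H.z3
    rw [e, ← mul_app, ← hT, hv, map_smul, hv, smul_smul, pow_two]
  have hhD : ∀ (μ : A), μ ^ 3 = 1 → ∀ v ∈ T.eigenspace μ, ρ h v ∈ T.eigenspace (μ ^ 2) := by
    intro μ hμ v hv
    rw [Module.End.mem_eigenspace_iff] at hv ⊢
    rw [hT, mul_app, hzh, ← mul_app, hzinv μ v hμ hv, map_smul]
  have hd12 : finrank A (T.eigenspace ω) ≤ finrank A (T.eigenspace (ω ^ 2)) :=
    SevenU42.finrank_le_of_maps ρ h (hhD ω hω3)
  have hd21 : finrank A (T.eigenspace (ω ^ 2)) ≤ finrank A (T.eigenspace ω) := by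
    refine SevenU42.finrank_le_of_maps ρ h ?_
    intro v hv
    have := hhD (ω ^ 2) (by rw [← pow_mul, mul_comm, pow_mul, hω3, one_pow]) v hv
    have e : (ω ^ 2) ^ 2 = ω := by linear_combination ω * hω3
    rwa [e] at this
  have h3d : 3 ∣ finrank A (T.eigenspace ω) := by
    have h4 := pow_finrank ρ H.xy (ω := ω) (T.eigenspace ω) (hUD ω x H.xU) (hUD ω x⁻¹ (U.inv_mem H.xU))
      (hUD ω y H.yU) (hUD ω y⁻¹ (U.inv_mem H.yU)) (fun v hv => Module.End.mem_eigenspace_iff.1 hv)
    have h5 : orderOf ω = 3 := orderOf_eq_prime hω3 h1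
    rw [← h5]
    exact orderOf_dvd_of_pow_eq_one h4
  have hd1 : finrank A (T.eigenspace ω) ≠ 0 := by
    intro h0
    apply hz
    have h7 : finrank A (T.eigenspace (1 : A)) = finrank A V := by omega
    have h8 := Submodule.eq_top_of_finrank_eq h7
    ext v
    have h9 : v ∈ T.eigenspace (1 : A) := by rw [h8]; trivial
    rw [Module.End.mem_eigenspace_iff, one_smul] at h9
    rw [h9, Module.End.one_apply]
  have hd0 : finrank A (T.eigenspace (1 : A)) = 1 := by omega
  obtain ⟨⟨v, hv⟩, hv0, hv1⟩ := finrank_eq_one_iff'.1 hd0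
  have hv0' : v ≠ 0 := fun h => hv0 (Subtype.ext h)
  have hTv : T v = v := by
    have := Module.End.mem_eigenspace_iff.1 hv
    rwa [one_smul] at this
  have hline : ∀ w, T w = w → ∃ c : A, w = c • v := by
    intro w hw
    obtain ⟨c, hc⟩ := hv1 ⟨w, by rw [Module.End.mem_eigenspace_iff, one_smul]; exact hw⟩
    exact ⟨c, (congrArg Subtype.val hc).symm⟩
  have hzk : ∀ k : ℕ, ρ (z ^ k) v = v := by
    intro k
    induction k with
    | zero => rw [pow_zero, map_one, Module.End.one_apply]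
    | succ k ih => rw [pow_succ, ← mul_app, ← hT, hTv, ih]
  have hUl : ∀ u ∈ U, ∃ c : A, ρ u v = c • v := by
    intro u hu
    apply hline
    rw [hT, mul_app, H.cent u hu, ← mul_app, ← hT, hTv]
  have hhl : ∃ c : A, ρ h v = c • v := by
    apply hline
    have h4 : ρ z⁻¹ v = v := by
      have := hzinv 1 v (one_pow 3) (by rw [one_smul]; exact hTv)
      rwa [one_pow, one_smul] at this
    rw [hT, mul_app, hzh, ← mul_app, h4]
  refine ⟨v, hv0', hTv, hline, ?_, hhl⟩
  obtain ⟨l, hl⟩ := hhl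
  intro u hu
  obtain ⟨t, ht, k, rfl⟩ := H.comm u hu
  obtain ⟨c, hc⟩ := hUl t⁻¹ (U.inv_mem ht)
  have hc0 : ρ t v = c⁻¹ • v := by
    have h5 : ρ t (ρ t⁻¹ v) = v := by rw [mul_app, mul_inv_cancel, map_one, Module.End.one_apply]
    have hcne : c ≠ 0 := by
      rintro rfl
      rw [hc, zero_smul, map_zero] at h5
      exact hv0' h5.symm
    rw [hc, map_smul] at h5
    rw [← h5, smul_smul, inv_mul_cancel₀ hcne, one_smul, h5]
  have hlne : l ≠ 0 := by
    rintro rfl
    have h5 : ρ h⁻¹ (ρ h v) = v := by rw [mul_app, inv_mul_cancel, map_one, Module.End.one_apply]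
    rw [hl, zero_smul, map_zero] at h5
    exact hv0' h5.symm
  have hli : ρ h⁻¹ v = l⁻¹ • v := by
    have h5 : ρ h⁻¹ (ρ h v) = v := by rw [mul_app, inv_mul_cancel, map_one, Module.End.one_apply]
    rw [hl, map_smul] at h5
    rw [← h5, smul_smul, inv_mul_cancel₀ hlne, one_smul, h5]
  have hcne : c ≠ 0 := by
    rintro rfl
    have h5 : ρ t (ρ t⁻¹ v) = v := by rw [mul_app, mul_inv_cancel, map_one, Module.End.one_apply]
    rw [hc, zero_smul, map_zero] at h5
    exact hv0' h5.symm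
  rw [← mul_app, hzk, ← mul_app, hc, map_smul, ← mul_app, hli, map_smul, ← mul_app, hc0, map_smul, hl]
  simp only [smul_smul]
  have : c * (l⁻¹ * (c⁻¹ * l)) = 1 := by field_simp
  rw [this, one_smul]

/-- From the fixed line to the adapted pair. -/
theorem exists_ad [IsAlgClosed A] (h3 : (3 : A) ≠ 0) (H : HData U h z x y) (ρ : G →* Matrix (Fin 7) (Fin 7) A)
    (hz : ρ z ≠ 1) : ∃ (v φ : Fin 7 → A) (l : A), Ad U h ρ v φ l := by
  classical
  let ρE : G →* Module.End A (Fin 7 → A) := (Matrix.toLinAlgEquiv' (R := A) (n := Fin 7)).toMonoidHom.comp ρ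
  have hρE : ∀ g (w : Fin 7 → A), ρE g w = ρ g *ᵥ w := fun _ _ => rfl
  obtain ⟨v, hv0, hzv, hline, hUv, l, hl⟩ := exists_line h3 H ρE (by simp) (by
    intro h0
    apply hz
    apply (Matrix.toLinAlgEquiv' (R := A) (n := Fin 7)).injective
    rw [map_one]
    exact h0)
  obtain ⟨i, hi⟩ : ∃ i, v i ≠ 0 := by
    by_contra hcon
    push Not at hcon
    exact hv0 (funext hcon)
  -- the projection
  set e : Matrix (Fin 7) (Fin 7) A := (3 : A)⁻¹ • (1 + ρ z + ρ (z * z)) with he
  have hcomm : ∀ g : G, (z * g = g * z ∨ z * g = g * z⁻¹) → e * ρ g = ρ g * e := by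
    intro g hg
    have hzz : z⁻¹ = z * z := by
      rw [inv_eq_iff_mul_eq_one, ← pow_two, ← pow_succ']
      exact H.z3
    rw [he, smul_mul_assoc, mul_smul_comm]
    congr 1
    rw [add_mul, add_mul, mul_add, mul_add, one_mul, mul_one, ← map_mul, ← map_mul, ← map_mul, ← map_mul]
    rcases hg with hg | hg
    · rw [hg]
      congr 2
      rw [mul_assoc, hg, ← mul_assoc, hg, mul_assoc]
    · have h4 : z * z * g = g * z := by
        rw [mul_assoc, hg, ← mul_assoc, hg, mul_assoc, ← _root_.mul_inv_rev, ← hzz, inv_inv]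
      rw [hg, h4, hzz]
      abel
  have hez : ρ z * e = e := by
    rw [he, mul_smul_comm]
    congr 1
    have h4 : ρ (z * (z * z)) = 1 := by
      rw [← pow_two, ← pow_succ', H.z3, map_one]
    rw [mul_add, mul_add, mul_one, ← map_mul, ← map_mul, h4]
    abel
  have hev : e *ᵥ v = v := by
    have h4 : ρ z *ᵥ v = v := hzv
    rw [he, Matrix.smul_mulVec, Matrix.add_mulVec, Matrix.add_mulVec, Matrix.one_mulVec, rho_mulVec, h4, h4]
    have : v + v + v = (3 : A) • v := by
      rw [show (3 : A) = 1 + 1 + 1 by norm_num, add_smul, add_smul, one_smul]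
    rw [this, smul_smul, inv_mul_cancel₀ h3, one_smul]
  let φ : Fin 7 → A := fun j => (v i)⁻¹ * e i j
  have hφ : ∀ w : Fin 7 → A, φ ⬝ᵥ w = (v i)⁻¹ * (e *ᵥ w) i := by
    intro w
    simp only [φ, dotProduct, Matrix.mulVec, Finset.mul_sum, mul_assoc]
  have hew : ∀ w : Fin 7 → A, e *ᵥ w = (φ ⬝ᵥ w) • v := by
    intro w
    obtain ⟨c, hc⟩ := hline (e *ᵥ w) (by
      rw [hρE, Matrix.mulVec_mulVec, hez])
    rw [hφ, hc]
    congr 1
    rw [Pi.smul_apply, smul_eq_mul, mul_comm, mul_assoc, mul_inv_cancel₀ hi, mul_one]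
  have hinj : ∀ a b : A, a • v = b • v → a = b := by
    intro a b hab
    have : (a - b) • v = 0 := by rw [sub_smul, hab, sub_self]
    exact sub_eq_zero.1 ((smul_eq_zero.1 this).resolve_right hv0)
  have hzh : z * h = h * z⁻¹ := by
    have := H.hz
    have e : z * (h * z) * z⁻¹ = z * (z⁻¹ * h) * z⁻¹ := by rw [this]
    simpa [mul_assoc] using e
  refine ⟨v, φ, l, ?_, hUv, hl, ?_, ?_⟩
  · rw [hφ, hev, inv_mul_cancel₀ hi]
  · intro u hu w
    apply hinj
    rw [← hew, Matrix.mulVec_mulVec, hcomm u (Or.inl (H.cent u hu)), ← Matrix.mulVec_mulVec, hew, Matrix.mulVec_smul]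
    have : ρ u *ᵥ v = v := hUv u hu
    rw [this]
  · intro w
    apply hinj
    rw [← hew, Matrix.mulVec_mulVec, hcomm h (Or.inr hzh), ← Matrix.mulVec_mulVec, hew, Matrix.mulVec_smul]
    have : ρ h *ᵥ v = l • v := hl
    rw [this, smul_smul, mul_comm]

end Cfsg.Agent.H659.HeisLine
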