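import Cfsg.Prelude.Def_GeometricClasses
import Cfsg.Prelude.Def_Classical
import Cfsg.Agent.H659.HeisLine
import Cfsg.Agent.H906.U3Card
import Cfsg.Agent.H906.U3Def
import Cfsg.Agent.LieClassical.HermPerfect

/-!
# The 7-dimensional representations of `PSU₃(3)` in characteristic ≠ 3
-/

set_option autoImplicit false

namespace Cfsg.Agent.H659.SevenU33

open Cfsg.Agent.UThreeGen.MatGroup Cfsg.Agent.H906 Cfsg.Agent.H659.BorelCoef Cfsg.Agent.H659.HeisLine
open scoped MatrixGroups Matrix

section Group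

variable {K : Type*} [Field K] {σ : K →+* K} [hσ : Fact (∀ x, σ (σ x) = x)]

/-- Conjugation by a torus element. -/
theorem tor_conj (c : Kˣ) (x y : HG σ) (ha : y.a = (c : K) ^ 2 * (σ (c : K))⁻¹ * x.a)
    (hb : y.b = (c : K) * σ (c : K) * x.b) : tor σ c * emb σ x * (tor σ c)⁻¹ = emb σ y := by
  rw [mul_inv_eq_iff_eq_mul]
  apply Subtype.ext
  apply Subtype.ext
  have h0 : (c : K) ≠ 0 := c.ne_zero
  have h1 : σ (c : K) ≠ 0 := (map_ne_zero σ).2 h0
  have hsa : σ y.a = (σ (c : K)) ^ 2 * (c : K)⁻¹ * σ x.a := by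
    rw [ha, map_mul, map_mul, map_pow, map_inv₀, sig]
  change (tor σ c).1.1 * (emb σ x).1.1 = (emb σ y).1.1 * (tor σ c).1.1
  rw [tor_val, emb_val, emb_val, umat, umat, hsa, ha, hb]
  ext i j
  fin_cases i <;> fin_cases j <;>
    simp [Matrix.mul_apply, Fin.sum_univ_three] <;> field_simp

variable [Finite K] (hs : ∀ x, σ x = x ^ 3) (hK : Nat.card K = 3 ^ 2)

include hs hK in
theorem exists_hdata : ∃ (h : SUG σ) (z x y : HG σ), z ≠ 1 ∧ HData (emb σ).range h (emb σ z) (emb σ x) (emb σ y) ∧
    (∀ b ∈ borel σ, ∃ u ∈ (emb σ).range, ∃ k : ℕ, b = u * h ^ k) ∧ (wel σ)⁻¹ * h * wel σ = (h ^ 3)⁻¹ := by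
  classical
  obtain ⟨a0, ha0⟩ := IsCyclic.exists_generator (α := Kˣ)
  have hord : orderOf a0 = 8 := by
    rw [orderOf_eq_card_of_forall_mem_zpowers ha0, Nat.card_units, hK]; norm_num
  have ha04 : (a0 : K) ^ 4 = -1 := by
    have h1 : ((a0 : K) ^ 4 - 1) * ((a0 : K) ^ 4 + 1) = 0 := by
      have h2 : a0 ^ 8 = 1 := by rw [← hord]; exact pow_orderOf_eq_one a0
      have h3 := congrArg Units.val h2
      rw [Units.val_pow_eq_pow_val, Units.val_one] at h3
      linear_combination h3
    rcases mul_eq_zero.1 h1 with h2 | h2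
    · exfalso
      have h3 : a0 ^ 4 = 1 := Units.ext (by rw [Units.val_pow_eq_pow_val, Units.val_one]; exact sub_eq_zero.1 h2)
      have h4 := orderOf_dvd_of_pow_eq_one h3
      rw [hord] at h4
      norm_num at h4
    · exact eq_neg_of_add_eq_zero_left h2
  have h3K : (3 : K) = 0 := by
    have h1 : ((Nat.card K : ℕ) : K) = 0 := by
      have := Fintype.ofFinite K
      rw [Nat.card_eq_fintype_card]
      exact Nat.cast_card_eq_zero K
    rw [hK] at h1
    have h2 : (3 : K) ^ 2 = 0 := by exact_mod_cast h1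
    exact pow_eq_zero_iff (two_ne_zero) |>.1 h2
  have hne0 : (a0 : K) ≠ 0 := a0.ne_zero
  have h1ne : (-1 : K) ≠ 1 := by
    intro h
    have h2 : (1 : K) = 0 := by linear_combination h3K + h
    exact one_ne_zero h2
  have ha01 : (a0 : K) ≠ 1 := by
    intro h
    rw [h, one_pow] at ha04
    exact h1ne ha04.symm
  have ha02 : (a0 : K) ^ 2 ≠ 1 := by
    intro h
    apply h1ne
    rw [← ha04]
    linear_combination ((a0 : K) ^ 2 + 1) * h
  obtain ⟨x, hx⟩ := aHom_surjective (σ := σ) (by norm_num) hs hK 1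
  obtain ⟨y, hy⟩ := aHom_surjective (σ := σ) (by norm_num) hs hK (a0 : K)
  obtain ⟨z, hxy⟩ : ∃ z : HG σ, x * y = z * (y * x) := ⟨x * y * (y * x)⁻¹, by group⟩
  have hza : z.a = 0 := by
    have := congrArg HG.a hxy
    rw [mul_a, mul_a, mul_a] at this
    linear_combination -this
  have hzb : z.b = (a0 : K) ^ 3 - a0 := by
    have := congrArg HG.b hxy
    rw [mul_b, mul_b, mul_b, hza, hx, hy, map_one, hs] at this
    linear_combination -this
  have hzb0 : z.b ≠ 0 := by
    rw [hzb]
    intro h
    apply ha02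
    have : (a0 : K) * ((a0 : K) ^ 2 - 1) = 0 := by linear_combination h
    exact sub_eq_zero.1 ((mul_eq_zero.1 this).resolve_left hne0)
  have hsz : σ z.b = -z.b := by
    have := z.h
    rw [hza, zero_mul] at this
    linear_combination this
  have hzpow : ∀ k : ℕ, (z ^ k).a = 0 ∧ (z ^ k).b = k * z.b := by
    intro k
    induction k with
    | zero => rw [pow_zero]; constructor <;> simp [one_a]
    | succ k ih =>
      rw [pow_succ, mul_a, mul_b, ih.1, ih.2, hza]
      constructor
      · ring
      · rw [map_zero]; push_cast; ring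
  have hpowh : ∀ k : ℕ, (tor σ a0) ^ k = tor σ (a0 ^ k) := fun k => (map_pow _ _ _).symm
  have hs0 : σ (a0 : K) = (a0 : K) ^ 3 := hs _
  refine ⟨tor σ a0, z, x, y, ?_, ?_, ?_, ?_⟩
  · rintro h
    rw [h, one_b] at hzb0
    exact hzb0 rfl
  · refine ⟨⟨z, rfl⟩, ⟨x, rfl⟩, ⟨y, rfl⟩, ?_, ?_, ?_, ?_, ?_⟩
    · rw [← map_pow, ← map_one (emb σ)]
      congr 1
      ext
      · exact (hzpow 3).1
      · rw [(hzpow 3).2]
        change ((3 : ℕ) : K) * z.b = 0
        push_cast
        rw [h3K, zero_mul]
    · rintro _ ⟨u, rfl⟩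
      rw [← map_mul, ← map_mul]
      congr 1
      ext
      · rw [mul_a, mul_a, add_comm]
      · rw [mul_b, mul_b, hza, map_zero, zero_mul, mul_zero, add_comm u.b]
    · rw [← map_mul, ← map_mul, ← map_mul, hxy]
    · have h1 := tor_conj a0 z z⁻¹ (by rw [inv_a, hza, neg_zero, mul_zero]) (by
        rw [inv_b, hsz, hs0]
        linear_combination z.b * ha04 * (-1))
      rw [← map_inv, ← h1]
      group
    · rintro _ ⟨u, rfl⟩
      have hd : (a0 : K)⁻¹ - 1 ≠ 0 := by
        intro h
        apply ha01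
        simpa using sub_eq_zero.1 h
      obtain ⟨t, ht⟩ := aHom_surjective (σ := σ) (by norm_num) hs hK (u.a / ((a0 : K)⁻¹ - 1))
      have hh : -t.b + σ (-t.b) = ((a0 : K)⁻¹ * t.a) * σ ((a0 : K)⁻¹ * t.a) := by
        have h2 := t.h
        rw [map_neg, map_mul, map_inv₀, hs0]
        have h5 : (a0 : K)⁻¹ * ((a0 : K) ^ 3)⁻¹ = -1 := by
          rw [← mul_inv, ← pow_succ', ha04]
          norm_num
        linear_combination -h2 - t.a * σ t.a * h5
      set t' : HG σ := ⟨(a0 : K)⁻¹ * t.a, -t.b, hh⟩ with ht'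
      have h1 := tor_conj a0 t t' (by
        change (a0 : K)⁻¹ * t.a = _
        rw [hs0]
        field_simp) (by
        change -t.b = _
        rw [hs0]
        linear_combination t.b * ha04 * (-1))
      -- the remaining factor
      obtain ⟨s, hs'⟩ : ∃ s : HG σ, u = t' * t⁻¹ * s := ⟨(t' * t⁻¹)⁻¹ * u, by group⟩
      have hsa : s.a = 0 := by
        have := congrArg HG.a hs'
        rw [mul_a, mul_a, inv_a] at this
        change u.a = (a0 : K)⁻¹ * t.a + -t.a + s.a at this
        have h2 : t.a * ((a0 : K)⁻¹ - 1) = u.a := by rw [ht, div_mul_cancel₀ _ hd]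
        linear_combination -this - h2
      have hsb : σ s.b = -s.b := by
        have := s.h
        rw [hsa, zero_mul] at this
        linear_combination this
      obtain ⟨k, hk⟩ : ∃ k : ℕ, s = z ^ k := by
        set c := s.b / z.b with hc
        have hsc : c ^ 3 = c := by
          rw [← hs, hc, map_div₀, hsb, hsz, neg_div_neg_eq]
        have hc3 : c * ((c - 1) * (c + 1)) = 0 := by linear_combination hsc
        have hsbc : s.b = c * z.b := by rw [hc, div_mul_cancel₀ _ hzb0]
        rcases mul_eq_zero.1 hc3 with h4 | h4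
        · refine ⟨0, ?_⟩
          ext
          · rw [hsa, (hzpow 0).1]
          · rw [hsbc, h4, (hzpow 0).2, Nat.cast_zero]
        rcases mul_eq_zero.1 h4 with h5 | h5
        · refine ⟨1, ?_⟩
          ext
          · rw [hsa, (hzpow 1).1]
          · rw [hsbc, sub_eq_zero.1 h5, (hzpow 1).2, Nat.cast_one]
        · refine ⟨2, ?_⟩
          ext
          · rw [hsa, (hzpow 2).1]
          · rw [hsbc, eq_neg_of_add_eq_zero_left h5, (hzpow 2).2]
            push_cast
            linear_combination -z.b * h3K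
      refine ⟨emb σ t, ⟨t, rfl⟩, k, ?_⟩
      rw [h1, hs', hk, map_mul, map_mul, map_inv, map_pow]
  · intro b hb
    obtain ⟨u, hu, a, rfl⟩ := borel_eq b hb
    have h1 := ha0 a
    rw [← mem_powers_iff_mem_zpowers] at h1
    obtain ⟨k, rfl⟩ := h1
    exact ⟨u, hu, k, by rw [map_pow]⟩
  · rw [wel_tor, ← map_pow]
    congr 2
    apply Units.ext
    rw [Units.val_pow_eq_pow_val]
    exact hs _

end Group

section Ext

variable {G : Type*} [Group G] {F A : Type*} [Field F] [Field A] [Algebra F A] {ι : Type} [Fintype ι] [DecidableEq ι]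

/-- Extension of scalars. -/
def extRep (A : Type*) [Field A] [Algebra F A] (ρ : G →* Matrix ι ι F) : G →* Matrix ι ι A :=
  ((algebraMap F A).mapMatrix (m := ι)).toMonoidHom.comp ρ

theorem extRep_apply (ρ : G →* Matrix ι ι F) (g : G) : extRep A ρ g = (ρ g).map (algebraMap F A) := rfl

theorem span_extRep {ρ : G →* Matrix ι ι F} (h : Submodule.span F (Set.range ρ) = ⊤) :
    Submodule.span A (Set.range (extRep A ρ)) = ⊤ := by
  have key : ∀ Y ∈ Submodule.span F (Set.range ρ), Y.map (algebraMap F A) ∈ Submodule.span A (Set.range (extRep A ρ)) := by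
    intro Y hY
    induction hY using Submodule.span_induction with
    | mem s hs =>
      obtain ⟨g, rfl⟩ := hs
      exact Submodule.subset_span ⟨g, rfl⟩
    | zero =>
      have : ((0 : Matrix ι ι F)).map (algebraMap F A) = 0 := by ext i j; simp
      rw [this]
      exact Submodule.zero_mem _
    | add a b _ _ ha hb =>
      have : (a + b).map (algebraMap F A) = a.map (algebraMap F A) + b.map (algebraMap F A) := by ext i j; simp
      rw [this]
      exact Submodule.add_mem _ ha hb
    | smul c a _ ha =>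
      have : (c • a).map (algebraMap F A) = algebraMap F A c • a.map (algebraMap F A) := by ext i j; simp
      rw [this]
      exact Submodule.smul_mem _ _ ha
  rw [eq_top_iff]
  rintro X -
  rw [Matrix.matrix_eq_sum_single X]
  refine Submodule.sum_mem _ fun i _ => Submodule.sum_mem _ fun j _ => ?_
  have h1 := key (Matrix.single i j 1) (by rw [h]; trivial)
  have h2 : Matrix.single i j (X i j) = X i j • ((Matrix.single i j (1 : F)).map (algebraMap F A)) := by
    ext a b
    by_cases hab : i = a ∧ j = b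
    · obtain ⟨rfl, rfl⟩ := hab
      simp
    · simp [hab]
  rw [h2]
  exact Submodule.smul_mem _ _ h1

theorem trace_extRep (ρ : G →* Matrix ι ι F) (g : G) : (extRep A ρ g).trace = algebraMap F A (ρ g).trace := by
  simp [extRep_apply, Matrix.trace, map_sum]

end Ext

theorem seven_U33 {F : Type*} [Field F] [Finite F] (p : ℕ) [Fact p.Prime] [CharP F p] (hp : p ≠ 3) {K : Type} [Field K] [Fintype K] (hK : Fintype.card K = 9)
    (ρ : Cfsg.PSU 3 K 3 →* Matrix.GeneralLinearGroup (Fin 7) F) (habs : Cfsg.Geo.ActsAbsolutelyIrreducibly (Cfsg.Geo.matrixSet ρ.range))  :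
    (∀ g, ((ρ g⁻¹ : Matrix.GeneralLinearGroup (Fin 7) F) : Matrix (Fin 7) (Fin 7) F).trace = ((ρ g : Matrix.GeneralLinearGroup (Fin 7) F) : Matrix (Fin 7) (Fin 7) F).trace)
    ∨ (p ≠ 2 ∧ (p % 4 = 1 → ∀ g, ((ρ g : Matrix.GeneralLinearGroup (Fin 7) F) : Matrix (Fin 7) (Fin 7) F).trace ^ p = ((ρ g : Matrix.GeneralLinearGroup (Fin 7) F) : Matrix (Fin 7) (Fin 7) F).trace) ∧
      (p % 4 = 3 → ∀ g, ((ρ g⁻¹ : Matrix.GeneralLinearGroup (Fin 7) F) : Matrix (Fin 7) (Fin 7) F).trace = ((ρ g : Matrix.GeneralLinearGroup (Fin 7) F) : Matrix (Fin 7) (Fin 7) F).trace ^ p)) := by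
  classical
  have hcK : Nat.card K = 3 ^ 2 := by rw [Nat.card_eq_fintype_card, hK]; norm_num
  -- characteristic of K
  obtain ⟨r, hr⟩ := CharP.exists K
  have hrp : r.Prime := CharP.char_is_prime K r
  have hr3 : r = 3 := by
    have h1 : ((Fintype.card K : ℕ) : K) = 0 := Nat.cast_card_eq_zero K
    rw [CharP.cast_eq_zero_iff K r, hK, show 9 = 3 ^ 2 by norm_num] at h1
    exact (Nat.prime_dvd_prime_iff_eq hrp Nat.prime_three).1 (hrp.dvd_of_dvd_pow h1)
  subst hr3
  have hexp : ExpChar K 3 := ExpChar.prime Nat.prime_three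
  set σ : K →+* K := frobenius K 3 with hσdef
  have hs : ∀ x, σ x = x ^ 3 := fun x => frobenius_def _ _
  have hσ : Fact (∀ x, σ (σ x) = x) := ⟨fun x => by
    rw [hs, hs, ← pow_mul]
    have := FiniteField.pow_card x
    rwa [hK] at this⟩
  obtain ⟨q, hqs, hqk⟩ := exists_psu_hom (σ := σ) (by norm_num) hs hcK
  obtain ⟨h, z, x, y, hz1, H, hB, hn⟩ := exists_hdata hs hcK
  -- the representation
  let ρ' : SUG σ →* Matrix (Fin 7) (Fin 7) F := (Units.coeHom _).comp (ρ.comp q)
  have hspan : Submodule.span F (Set.range ρ') = ⊤ := by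
    rw [← span_subtype habs]
    congr 1
    ext X
    constructor
    · rintro ⟨g, rfl⟩
      exact ⟨⟨ρ (q g), q g, rfl⟩, rfl⟩
    · rintro ⟨⟨_, g, rfl⟩, rfl⟩
      obtain ⟨g, rfl⟩ := hqs g
      exact ⟨g, rfl⟩
  let A := AlgebraicClosure F
  have hAp : CharP A p := charP_of_injective_algebraMap (algebraMap F A).injective p
  have hpp : p.Prime := Fact.out
  have hexpA : ExpChar A p := ExpChar.prime hpp
  have h3A : (3 : A) ≠ 0 := by
    intro h0
    have h1 : ((3 : ℕ) : A) = 0 := by exact_mod_cast h0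
    rw [CharP.cast_eq_zero_iff A p] at h1
    exact hp ((Nat.prime_dvd_prime_iff_eq hpp Nat.prime_three).1 h1)
  let ρA : SUG σ →* Matrix (Fin 7) (Fin 7) A := extRep A ρ'
  have hspanA : Submodule.span A (Set.range ρA) = ⊤ := span_extRep hspan
  have hρz : ρA (emb σ z) ≠ 1 := by
    intro h0
    have h1 : ρ (q (emb σ z)) = 1 := by
      apply Units.ext
      ext i j
      apply (algebraMap F A).injective
      have := congrFun (congrFun h0 i) j
      change algebraMap F A ((ρ (q (emb σ z)) : Matrix (Fin 7) (Fin 7) F) i j) = _ at this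
      rw [this]
      by_cases hij : i = j
      · subst hij; simp
      · simp [hij]
    have hsimp : IsSimpleGroup (Cfsg.PSU 3 K 3) :=
      Cfsg.Agent.LieClassical.HermSimple.isSimpleGroup_of_perfect (by rw [hK]; norm_num) le_rfl
        (Cfsg.Agent.LieClassical.HermPerfect.commutator_SU_eq_top (by rw [hK]; norm_num) le_rfl (by norm_num))
    rcases IsSimpleGroup.eq_bot_or_eq_top_of_normal ρ.ker inferInstance with h2 | h2
    · have h3 : q (emb σ z) ∈ ρ.ker := h1
      rw [h2, Subgroup.mem_bot] at h3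
      have h4 : emb σ z ∈ Subgroup.center (SUG σ) := by rw [← hqk]; exact h3
      exact hz1 (eq_one_of_mem_center h4)
    · have hall : ∀ g, ρ' g = 1 := by
        intro g
        have h3 : q g ∈ ρ.ker := by rw [h2]; trivial
        have h4 : ρ (q g) = 1 := h3
        change ((ρ (q g) : Matrix.GeneralLinearGroup (Fin 7) F) : Matrix (Fin 7) (Fin 7) F) = 1
        rw [h4, Units.val_one]
      have hle : Submodule.span F (Set.range ρ') ≤ F ∙ (1 : Matrix (Fin 7) (Fin 7) F) := by
        rw [Submodule.span_le]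
        rintro _ ⟨g, rfl⟩
        rw [hall g]
        exact Submodule.mem_span_singleton_self _
      have h3 : Matrix.single 0 1 (1 : F) ∈ F ∙ (1 : Matrix (Fin 7) (Fin 7) F) := hle (by rw [hspan]; trivial)
      obtain ⟨c, hc⟩ := Submodule.mem_span_singleton.1 h3
      have h4 := congrFun (congrFun hc 0) 1
      rw [Matrix.smul_apply, Matrix.one_apply_ne (by decide), smul_zero, Matrix.single_apply_same] at h4
      exact zero_ne_one h4
  obtain ⟨v, φ, l, had⟩ := exists_ad h3A H ρA hρz
  have hcard : Nat.card (emb σ).range = 27 := by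
    have h1 := card_HG (σ := σ) (by norm_num) hs hcK
    rw [← Nat.card_congr (MonoidHom.ofInjective (emb_injective (σ := σ))).toEquiv, h1]
    norm_num
  have hfin : Finite (emb σ).range := Nat.finite_of_card_ne_zero (by rw [hcard]; norm_num)
  have hl4 : l ^ 4 = 1 := pow_eq_one data_SUG hB had (by rw [hcard]; simp) hn
  have hl1 : l ≠ 1 := ne_one data_SUG hB hspanA had (by rw [hcard]; simp) (by simp)
  have htr : ∀ g, (ρA g).trace = algebraMap F A (((ρ (q g) : Matrix.GeneralLinearGroup (Fin 7) F) : Matrix (Fin 7) (Fin 7) F).trace) :=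
    fun g => trace_extRep ρ' g
  have htri : ∀ g, (ρA g⁻¹).trace = algebraMap F A (((ρ (q g)⁻¹ : Matrix.GeneralLinearGroup (Fin 7) F) : Matrix (Fin 7) (Fin 7) F).trace) := by
    intro g
    rw [htr, map_inv q]
  have hlf : (l ^ 2 - 1) * (l ^ 2 + 1) = 0 := by linear_combination hl4
  rcases mul_eq_zero.1 hlf with h2 | h2
  · -- l = -1
    left
    have hl : l = -1 := by
      have h3 : (l - 1) * (l + 1) = 0 := by linear_combination h2
      rcases mul_eq_zero.1 h3 with h4 | h4
      · exact absurd (sub_eq_zero.1 h4) hl1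
      · exact eq_neg_of_add_eq_zero_left h4
    intro g
    obtain ⟨g, rfl⟩ := hqs g
    apply (algebraMap F A).injective
    rw [← htr, ← htri]
    have hc := had.contra
    have hli : l⁻¹ = l := by rw [hl]; norm_num
    rw [hli] at hc
    have h5 := trace_eq data_SUG hB hspanA (span_contra hspanA) had hc (by rw [hcard]; simp) g
    rwa [contra_apply, Matrix.trace_transpose] at h5
  · -- l² = -1
    right
    have hl2 : l ^ 2 = -1 := eq_neg_of_add_eq_zero_left h2
    have hp2 : p ≠ 2 := by
      rintro rfl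
      have h3 : (l - 1) ^ 2 = 0 := by
        have h4 : (2 : A) = 0 := by exact_mod_cast CharP.cast_eq_zero A 2
        linear_combination hl2 - l * h4
      exact hl1 (sub_eq_zero.1 (pow_eq_zero_iff (two_ne_zero) |>.1 h3))
    let σA : A ≃+* A := frobeniusEquiv A p
    have hσA : ∀ x, σA x = x ^ p := fun x => frobeniusEquiv_def A p x
    have htw := had.twist σA
    rw [hσA] at htw
    refine ⟨hp2, ?_, ?_⟩
    · intro hp4 g
      obtain ⟨g, rfl⟩ := hqs g
      apply (algebraMap F A).injective
      have hlp : l ^ p = l := by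
        have e : p = 4 * (p / 4) + 1 := by omega
        rw [e, pow_succ, pow_mul, hl4, one_pow, one_mul]
      rw [hlp] at htw
      have h5 := trace_eq data_SUG hB hspanA (span_twist σA hspanA) had htw (by rw [hcard]; simp) g
      rw [twist_apply, map_trace', hσA, htr] at h5
      rw [map_pow]
      exact h5
    · intro hp4 g
      obtain ⟨g, rfl⟩ := hqs g
      apply (algebraMap F A).injective
      have hlp : l ^ p = l⁻¹ := by
        have e : p = 4 * (p / 4) + 3 := by omega
        rw [e, pow_add, pow_mul, hl4, one_pow, one_mul]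
        refine eq_inv_of_mul_eq_one_left ?_
        rw [← pow_succ]
        exact hl4
      rw [hlp] at htw
      have h5 := trace_eq data_SUG hB (span_contra hspanA) (span_twist σA hspanA) had.contra htw
        (by rw [hcard]; simp) g
      rw [twist_apply, map_trace', hσA, contra_apply, Matrix.trace_transpose, htr, htri] at h5
      rw [map_pow]
      exact h5.symm

end Cfsg.Agent.H659.SevenU33
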