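import Cfsg.Agent.H659.U3Inst
import Cfsg.Agent.H659.AcIrr
import Cfsg.Agent.H659.SevenU33
import Cfsg.Agent.H464.L2Cover
import Cfsg.Agent.H915.LD
import Cfsg.Agent.H95.StemCover
import Cfsg.Agent.S2089
import Cfsg.Agent.LieClassical.FieldTransfer

/-!
# LOWDIM T5: cores with simple group `PSU₃(3)` in degree ≤ 12, characteristic ≠ 2, 3

`u33_stage` : `Core P`, `Soc P ≃* PSU 3 K 3`, `|K| = 9`, `p ≠ 2, 3`, `n ≤ 12` ⟹ `P` has no scalars and
`n = 6`, `SD P`, `Fr P p`, or `n = 7` and (`SD P` or (`Fr P p` if `p = 1 mod 4`, `Cj P p` if `p = 3 mod 4`)).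
-/

set_option autoImplicit false

namespace Cfsg.Agent.H659.U3

open Module Ac

section degrees

variable {K : Type*} [Field K] [IsAlgClosed K] {V : Type*} [AddCommGroup V] [Module K V] [FiniteDimensional K V]
  (ρ : SU →* Module.End K V) (h2 : (2 : K) ≠ 0) (h3 : (3 : K) ≠ 0)
  (hirr : ∀ L : Submodule K V, (∀ g, ∀ v ∈ L, ρ g v ∈ L) → L = ⊥ ∨ L = ⊤)

include hirr in
omit [IsAlgClosed K] in
theorem irr_of : Irr (ops ρ) := fun W hz hτ => hirr W (inv_of_zτ ρ W hz hτ)

include hirr in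
theorem z_ne_one (hn : 2 ≤ finrank K V) : ρ zG ≠ 1 := by
  intro h
  have : Nontrivial V := Module.nontrivial_of_finrank_pos (R := K) (by omega)
  obtain ⟨l, hl⟩ := Module.End.exists_eigenvalue (ρ τG)
  obtain ⟨v, hv⟩ := hl.exists_hasEigenvector
  have hv0 : v ≠ 0 := hv.2
  have hvl : ρ τG v = l • v := hv.apply_eq_smul
  have hle : finrank K (Submodule.span K {v}) ≤ 1 := (finrank_span_singleton hv0).le
  rcases hirr (Submodule.span K {v}) (inv_of_zτ ρ _ (by
      intro u hu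
      change ρ zG u ∈ _
      rw [h]; exact hu) (by
      intro u hu
      obtain ⟨c, rfl⟩ := Submodule.mem_span_singleton.1 hu
      change ρ τG (c • v) ∈ _
      rw [map_smul, hvl]
      exact Submodule.smul_mem _ _ (Submodule.smul_mem _ _ (Submodule.mem_span_singleton_self v)))) with h1 | h1
  · apply hv0
    have : v ∈ Submodule.span K {v} := Submodule.mem_span_singleton_self v
    rw [h1] at this
    exact (Submodule.mem_bot K).1 this
  · rw [h1, finrank_top] at hle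
    omega

omit [IsAlgClosed K] [FiniteDimensional K V] in
theorem hq_of (H : ∀ v, ρ zG v = v → v = 0) (v : V) : (ops ρ).z ((ops ρ).z v) = -v - (ops ρ).z v := by
  have h1 : v + ρ zG v + ρ zG (ρ zG v) = 0 := by
    apply H
    have h4 : ρ zG (ρ zG (ρ zG v)) = v := (rels ρ).zzz v
    rw [map_add, map_add, h4]
    abel
  change ρ zG (ρ zG v) = -v - ρ zG v
  rw [eq_sub_iff_add_eq, eq_neg_iff_add_eq_zero, ← h1]
  abel

include h2 h3 hirr

theorem degrees (hn : 2 ≤ finrank K V) (h12 : finrank K V ≤ 12) :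
    finrank K V = 7 ∨ (finrank K V = 6 ∧ ∀ v, ρ zG v = v → v = 0) := by
  have : Nontrivial V := Module.nontrivial_of_finrank_pos (R := K) (by omega)
  have hV : ∃ v : V, v ≠ 0 := exists_ne 0
  have hI := irr_of ρ hirr
  rcases borel_cases bd ρ h3 (z_ne_one ρ hirr hn) hirr h12 with h | ⟨h8, h⟩ | ⟨h, h0⟩
  · exact Or.inl h
  · exfalso
    have Hy : Hyp (ops ρ) := hyp_of (rels ρ) h2 hI hV (by
      intro v hz ht
      have h5 := h v hz
      rw [h4] at h5
      have h6 : ρ tG v = v := ht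
      rw [h6] at h5
      exact Sp4.eq_zero_of_neg h2 h5)
    have := three_dvd (rels ρ) h2 Hy
    rw [h8] at this
    omega
  · right
    refine ⟨?_, h0⟩
    rcases h with h | h
    · exact h
    · exfalso
      have Hy : Hyp (ops ρ) := hyp_of (rels ρ) h2 hI hV (fun v hz _ => h0 v hz)
      obtain ⟨l, hl⟩ := IsAlgClosed.exists_pow_nat_eq (-1 : K) (n := 2) (by norm_num)
      rw [pow_two] at hl
      have hq := hq_of ρ h0
      obtain ⟨v, hv0, hv, hr⟩ := exists_vec (rels ρ) h2 Hy h3 hq hV hl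
      obtain ⟨W, hW, hW6, hz, hτ⟩ := close (rels ρ) h2 Hy hq hv hl hr
      rcases hI W hz hτ with h1 | h1
      · rw [h1] at hW
        exact hv0 ((Submodule.mem_bot K).1 hW)
      · rw [h1, finrank_top, h] at hW6
        omega

omit h2 h3 hirr

theorem iso_of_six {V₂ : Type*} [AddCommGroup V₂] [Module K V₂] [FiniteDimensional K V₂]
    (ρ₂ : SU →* Module.End K V₂) (h2 : (2 : K) ≠ 0) (h3 : (3 : K) ≠ 0)
    (h₁ : ∀ L : Submodule K V, (∀ g, ∀ v ∈ L, ρ g v ∈ L) → L = ⊥ ∨ L = ⊤)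
    (h₂ : ∀ L : Submodule K V₂, (∀ g, ∀ v ∈ L, ρ₂ g v ∈ L) → L = ⊥ ∨ L = ⊤)
    (e₁ : finrank K V = 6) (e₂ : finrank K V₂ = 6) :
    ∃ e : V ≃ₗ[K] V₂, ∀ g w, e (ρ g w) = ρ₂ g (e w) := by
  have f₁ : ∀ v, ρ zG v = v → v = 0 := by
    rcases degrees ρ h2 h3 h₁ (by omega) (by omega) with h | h
    · omega
    · exact h.2
  have f₂ : ∀ v, ρ₂ zG v = v → v = 0 := by
    rcases degrees ρ₂ h2 h3 h₂ (by omega) (by omega) with h | h
    · omega
    · exact h.2
  have : Nontrivial V := Module.nontrivial_of_finrank_pos (R := K) (by omega)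
  have : Nontrivial V₂ := Module.nontrivial_of_finrank_pos (R := K) (by omega)
  have hV₁ : ∃ v : V, v ≠ 0 := exists_ne 0
  have hV₂ : ∃ v : V₂, v ≠ 0 := exists_ne 0
  have Hy₁ : Hyp (ops ρ) := hyp_of (rels ρ) h2 (irr_of ρ h₁) hV₁ (fun v hz _ => f₁ v hz)
  have Hy₂ : Hyp (ops ρ₂) := hyp_of (rels ρ₂) h2 (irr_of ρ₂ h₂) hV₂ (fun v hz _ => f₂ v hz)
  have hq₁ := hq_of ρ f₁
  have hq₂ := hq_of ρ₂ f₂
  obtain ⟨l, hl⟩ := IsAlgClosed.exists_pow_nat_eq (-1 : K) (n := 2) (by norm_num)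
  rw [pow_two] at hl
  obtain ⟨v₁, a1, a2, a3⟩ := exists_vec (rels ρ) h2 Hy₁ h3 hq₁ hV₁ hl
  obtain ⟨v₂, b1, b2, b3⟩ := exists_vec (rels ρ₂) h2 Hy₂ h3 hq₂ hV₂ hl
  obtain ⟨W, hW, hW6, hz, hτ⟩ := close (rels (prodRep ρ ρ₂)) h2
    ⟨fun v hv => Prod.ext (Hy₁.fi v.1 (congrArg Prod.fst hv)) (Hy₂.fi v.2 (congrArg Prod.snd hv)),
      fun v hv => Prod.ext (Hy₁.ft1 v.1 (congrArg Prod.fst hv)) (Hy₂.ft1 v.2 (congrArg Prod.snd hv))⟩
    (fun v => Prod.ext (hq₁ v.1) (hq₂ v.2)) (v := (v₁, v₂)) (Prod.ext a2 b2) hl (Prod.ext a3 b3)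
  exact exists_iso ρ ρ₂ h₁ h₂ e₁ e₂ W (inv_of_zτ _ W hz hτ) hW6 hW a1 b1

end degrees

section frob

open Cfsg Cfsg.Geo Matrix

variable {F : Type*} [Field F] {ι : Type} [Fintype ι] [DecidableEq ι]

/-- semilinear image of a spanning set -/
theorem span_map (f : F ≃+* F) {P : Subgroup (GL ι F)} (hs : Submodule.span F (matrixSet P) = ⊤) :
    Submodule.span F (matrixSet (P.map (Matrix.GeneralLinearGroup.map (n := ι) (f : F →+* F)))) = ⊤ := by
  have key : ∀ M ∈ Submodule.span F (matrixSet P),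
      M.map f ∈ Submodule.span F (matrixSet (P.map (Matrix.GeneralLinearGroup.map (n := ι) (f : F →+* F)))) := by
    intro M hM
    induction hM using Submodule.span_induction with
    | mem x hx =>
      obtain ⟨g, hg, rfl⟩ := hx
      exact Submodule.subset_span ⟨_, ⟨g, hg, rfl⟩, rfl⟩
    | zero =>
      have : ((0 : Matrix ι ι F)).map f = 0 := by ext i j; simp
      rw [this]
      exact Submodule.zero_mem _
    | add a b _ _ ha hb =>
      have : (a + b).map f = a.map f + b.map f := by ext i j; simp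
      rw [this]
      exact Submodule.add_mem _ ha hb
    | smul c a _ ha =>
      have : (c • a).map f = f c • a.map f := by ext i j; simp
      rw [this]
      exact Submodule.smul_mem _ _ ha
  rw [eq_top_iff]
  rintro M -
  have h1 := key (M.map f.symm) (by rw [hs]; trivial)
  have h4 : (M.map f.symm).map f = M := by ext i j; simp
  rwa [h4] at h1

end frob

section main

open Cfsg Cfsg.Geo Matrix Cfsg.Agent.H915.LD Cfsg.Agent.ChevalleyStructure.NineField

variable {ι : Type} [Fintype ι] [DecidableEq ι] {F : Type*} [Field F] [Finite F] {P : Subgroup (GL ι F)}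

/-- **Cores of type `PSU₃(3)`, degree ≤ 12, characteristic ≠ 2, 3.** -/
theorem u33_stage (hC : Core P) (p : ℕ) [hp : Fact p.Prime] [CharP F p] (hp2 : p ≠ 2) (hp3 : p ≠ 3)
    (hn : Fintype.card ι ≤ 12) {k : Type*} [Field k] [Fintype k] (hk : Fintype.card k = 9)
    (e : Soc P ≃* PSU 3 k 3) :
    (scalars ι F).subgroupOf P = ⊥ ∧
    ((Fintype.card ι = 6 ∧ SD P ∧ Fr P p) ∨
      (Fintype.card ι = 7 ∧ (SD P ∨ ((p % 4 = 1 → Fr P p) ∧ (p % 4 = 3 → Cj P p))))) := by
  classical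
  have hn2 := hC.two_le
  let e0 : k ≃+* F9 := FiniteField.ringEquivOfCardEq (hk.trans F9.card_F9.symm)
  let E : Soc P ≃* PSU 3 F9 3 := e.trans (Cfsg.Agent.LieClassical.FieldTransfer.psuCongr 3 3 e0)
  let π : P →* PSU 3 F9 3 := E.toMonoidHom.comp (toSoc P)
  have hπ : Function.Surjective π := E.surjective.comp (toSoc_surjective P)
  have hker : π.ker = (scalars ι F).subgroupOf P := ker_comp E
  have hkc : π.ker ≤ Subgroup.center P := by rw [hker]; exact scalars_le_center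
  have hM : HasCyclicSchurMultiplier (PSU 3 F9 3) 1 :=
    Cfsg.Agent.S2089.result 3 3 (by rw [F9.card_F9]; norm_num) le_rfl (by norm_num) (by simp)
  have hπi : Function.Injective π := H95.StemCover.injective_of_trivial hM hC.commutator_top π hπ hkc
  have hbot : (scalars ι F).subgroupOf P = ⊥ := by
    rw [← hker, MonoidHom.ker_eq_bot_iff]; exact hπi
  refine ⟨hbot, ?_⟩
  let E' : P ≃* PSU 3 F9 3 := MulEquiv.ofBijective π ⟨hπi, hπ⟩
  have hcF : Nat.card F9 = 3 ^ 2 := by rw [Nat.card_eq_fintype_card, F9.card_F9]; norm_num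
  obtain ⟨q, hqs, -⟩ := H906.exists_psu_hom (σ := σ9) (m := 3) (by norm_num) σ9_pow hcF
  let φ' : SU →* GL ι F := P.subtype.comp (E'.symm.toMonoidHom.comp q)
  have hrange : φ'.range = P := by
    ext g
    constructor
    · rintro ⟨w, rfl⟩
      exact (E'.symm (q w)).2
    · intro hg
      obtain ⟨w, hw⟩ := hqs (E' ⟨g, hg⟩)
      refine ⟨w, ?_⟩
      change ((E'.symm (q w) : P) : GL ι F) = g
      rw [hw, MulEquiv.symm_apply_apply]
  have hs := H920.span_eq_top hC.absIrred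
  let A := AlgebraicClosure F
  have hinj : Function.Injective (algebraMap F A) := (algebraMap F A).injective
  have hne : ∀ q : ℕ, q.Prime → q ≠ p → (q : A) ≠ 0 := by
    intro q hq hqp h0
    have h4 : ((q : ℕ) : F) = 0 := by
      apply hinj
      rw [map_natCast, map_zero, h0]
    rw [CharP.cast_eq_zero_iff F p] at h4
    exact hqp ((Nat.prime_dvd_prime_iff_eq hp.out hq).1 h4).symm
  have h2 : (2 : A) ≠ 0 := by exact_mod_cast hne 2 Nat.prime_two (Ne.symm hp2)
  have h3 : (3 : A) ≠ 0 := by exact_mod_cast hne 3 Nat.prime_three (Ne.symm hp3)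
  have irr₁ := rp_irr A φ' hrange hs
  have irr₂ := rd_irr A φ' hrange hs
  have hfr : Module.finrank A (ι → A) = Fintype.card ι := Module.finrank_fintype_fun_eq_card A
  have D₁ := degrees (rp A φ') h2 h3 irr₁ (by rw [hfr]; exact hn2) (by rw [hfr]; exact hn)
  rw [hfr] at D₁
  rcases D₁ with h7 | ⟨h6, -⟩
  · right
    refine ⟨h7, ?_⟩
    let f : ι ≃ Fin 7 := Fintype.equivFinOfCardEq h7
    let ρ7 : PSU 3 F9 3 →* GL (Fin 7) F :=
      (H464.Sl2.reGL f).toMonoidHom.comp (P.subtype.comp E'.symm.toMonoidHom)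
    have hr7 : ρ7.range = P.map (H464.Sl2.reGL f).toMonoidHom := by
      ext g
      constructor
      · rintro ⟨w, rfl⟩
        exact ⟨_, (E'.symm w).2, rfl⟩
      · rintro ⟨g, hg, rfl⟩
        refine ⟨E' ⟨g, hg⟩, ?_⟩
        change H464.Sl2.reGL f ((E'.symm (E' ⟨g, hg⟩) : P) : GL ι F) = H464.Sl2.reGL f g
        rw [MulEquiv.symm_apply_apply]
    have habs := H464.Sl2.absIrr_reGL f hC.absIrred
    rw [← hr7] at habs
    have htr : ∀ (g : GL ι F) (hg : g ∈ P),
        ((ρ7 (E' ⟨g, hg⟩) : GL (Fin 7) F) : Matrix (Fin 7) (Fin 7) F).trace = tr g := by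
      intro g hg
      change ((H464.Sl2.reGL f ((E'.symm (E' ⟨g, hg⟩) : P) : GL ι F) : GL (Fin 7) F) :
        Matrix (Fin 7) (Fin 7) F).trace = tr g
      rw [MulEquiv.symm_apply_apply, H464.Sl2.trace_reGL]
      rfl
    have hinv : ∀ (g : GL ι F) (hg : g ∈ P), (E' ⟨g, hg⟩)⁻¹ = E' ⟨g⁻¹, P.inv_mem hg⟩ := by
      intro g hg
      rw [← map_inv]
      rfl
    rcases SevenU33.seven_U33 p hp3 F9.card_F9 ρ7 habs with h | ⟨-, ha, hb⟩
    · left
      intro g hg
      have h4 := h (E' ⟨g, hg⟩)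
      rw [hinv, htr, htr] at h4
      exact h4
    · right
      refine ⟨fun h4 g hg => ?_, fun h4 g hg => ?_⟩
      · have h5 := ha h4 (E' ⟨g, hg⟩)
        rw [htr] at h5
        exact h5
      · have h5 := hb h4 (E' ⟨g, hg⟩)
        rw [hinv, htr, htr] at h5
        exact h5.symm
  · left
    have hsd : SD P := by
      obtain ⟨f, hf⟩ := iso_of_six (rp A φ') (rd A φ') h2 h3 irr₁ irr₂ (by rw [hfr]; exact h6)
        (by rw [hfr]; exact h6)
      intro g hg
      obtain ⟨w, hw⟩ : ∃ w, φ' w = g := by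
        have : g ∈ φ'.range := by rw [hrange]; exact hg
        exact this
      have h7 := trace_eq_of_iso (rp A φ') (rd A φ') hf w
      rw [trace_rp, trace_rd] at h7
      have h8 := hinj h7
      rw [map_inv, hw] at h8
      exact h8.symm
    refine ⟨h6, hsd, ?_⟩
    have : PerfectRing F p := PerfectRing.ofFiniteOfIsReduced p F
    let fr : F ≃+* F := frobeniusEquiv F p
    let φF : SU →* GL ι F := (Matrix.GeneralLinearGroup.map (n := ι) (fr : F →+* F)).comp φ'
    have hrF : φF.range = P.map (Matrix.GeneralLinearGroup.map (n := ι) (fr : F →+* F)) := by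
      rw [← hrange, MonoidHom.range_comp]
    have irr₃ := rp_irr A φF hrF (span_map fr hs)
    obtain ⟨f, hf⟩ := iso_of_six (rp A φ') (rp A φF) h2 h3 irr₁ irr₃ (by rw [hfr]; exact h6)
      (by rw [hfr]; exact h6)
    intro g hg
    obtain ⟨w, hw⟩ : ∃ w, φ' w = g := by
      have : g ∈ φ'.range := by rw [hrange]; exact hg
      exact this
    have h7 := trace_eq_of_iso (rp A φ') (rp A φF) hf w
    rw [trace_rp, trace_rp] at h7
    have h8 := hinj h7
    have h9 : ((φF w : GL ι F) : Matrix ι ι F).trace = fr ((φ' w : GL ι F) : Matrix ι ι F).trace := by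
      change (((φ' w : GL ι F) : Matrix ι ι F).map fr).trace = _
      exact (AddMonoidHom.map_trace fr ((φ' w : GL ι F) : Matrix ι ι F)).symm
    rw [h9, hw] at h8
    exact h8.symm

end main

end Cfsg.Agent.H659.U3
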