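import Cfsg.Agent.H659.Sp4Stage
import Cfsg.Agent.H659.HeisLine

/-!
# Self-dual cores of type `PSp₄(3) ≃ PSU₄(2)`, degree ≤ 12, characteristic ≠ 2, 3, have degree 6

In degrees 4, 5, 10 the eigenspaces of a transvection for the two primitive cube roots of unity have different
dimensions.
-/

set_option autoImplicit false
set_option linter.unusedSectionVars false

namespace Cfsg.Agent.H659.Sp4

open Module Cfsg.Agent.H659.Triple

section lin

variable {K : Type*} [Field K] {V : Type*} [AddCommGroup V] [Module K V] {ω : K}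

/-- the operator of `pr` -/
def prL (ω : K) (T : Module.End K V) (a : Fin 3) : Module.End K V :=
  1 + ω ^ (2 * a.val) • T + ω ^ a.val • (T * T)

theorem prL_apply (T : Module.End K V) (a : Fin 3) (v : V) : prL ω T a v = pr ω T a v := rfl

theorem pr_comm {T : Module.End K V} {a : Fin 3} {S : Module.End K V} (h : ∀ v, T (S v) = S (T v)) (v : V) :
    pr ω T a (S v) = S (pr ω T a v) := by
  unfold pr
  rw [map_add, map_add, map_smul, map_smul, h, h]

theorem pr_comm' {T S : Module.End K V} {a b : Fin 3} (h : ∀ v, T (S v) = S (T v)) (v : V) :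
    pr ω T a (pr ω S b v) = pr ω S b (pr ω T a v) := by
  rw [← prL_apply (ω := ω) S b, ← prL_apply (ω := ω) S b, pr_comm]
  intro v
  rw [prL_apply, prL_apply, pr_comm]
  exact fun v => (h v).symm

theorem pr_zero (T : Module.End K V) (a : Fin 3) : pr ω T a 0 = 0 := by
  rw [← prL_apply, map_zero]

theorem pr_neg (T : Module.End K V) (a : Fin 3) (v : V) : pr ω T a (-v) = -pr ω T a v := by
  rw [← prL_apply, ← prL_apply, map_neg]

theorem pr_of_ne (hω : Om ω) {T : Module.End K V} {a b : Fin 3} (hab : a ≠ b) {v : V} (h : T v = ω ^ b.val • v) :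
    pr ω T a v = 0 := by
  unfold pr
  rw [h, map_smul, h]
  have hc := hω.c
  have ha := hω.a
  have key : (1 : K) + ω ^ (2 * a.val) * ω ^ b.val + ω ^ a.val * (ω ^ b.val * ω ^ b.val) = 0 := by
    fin_cases a <;> fin_cases b <;> first | exact absurd rfl hab | skip
    · change (1 : K) + ω ^ 0 * ω ^ 1 + ω ^ 0 * (ω ^ 1 * ω ^ 1) = 0
      linear_combination ha
    · change (1 : K) + ω ^ 0 * ω ^ 2 + ω ^ 0 * (ω ^ 2 * ω ^ 2) = 0
      linear_combination ha + ω * hc
    · change (1 : K) + ω ^ 2 * ω ^ 0 + ω ^ 1 * (ω ^ 0 * ω ^ 0) = 0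
      linear_combination ha
    · change (1 : K) + ω ^ 2 * ω ^ 2 + ω ^ 1 * (ω ^ 2 * ω ^ 2) = 0
      linear_combination ha + (ω + ω ^ 2) * hc
    · change (1 : K) + ω ^ 4 * ω ^ 0 + ω ^ 2 * (ω ^ 0 * ω ^ 0) = 0
      linear_combination ha + ω * hc
    · change (1 : K) + ω ^ 4 * ω ^ 1 + ω ^ 2 * (ω ^ 1 * ω ^ 1) = 0
      linear_combination ha + (ω + ω ^ 2) * hc
  have e : v + ω ^ (2 * a.val) • (ω ^ b.val • v) + ω ^ a.val • (ω ^ b.val • (ω ^ b.val • v)) =
      ((1 : K) + ω ^ (2 * a.val) * ω ^ b.val + ω ^ a.val * (ω ^ b.val * ω ^ b.val)) • v := by module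
  rw [e, key, zero_smul]

/-- fixed by `T` if the other two projections vanish -/
theorem fix_of_pr (hω : Om ω) (h3 : (3 : K) ≠ 0) {T : Module.End K V} (hT : ∀ v, T (T (T v)) = v) {v : V}
    (h1 : pr ω T 1 v = 0) (h2 : pr ω T 2 v = 0) : T v = v := by
  have e := pr_sum hω T v
  rw [h1, h2, add_zero, add_zero] at e
  have e3 := pr_eig hω hT 0 v
  rw [om_zero, e, map_smul] at e3
  have e4 : (3 : K) • (T v - v) = 0 := by rw [smul_sub, e3, sub_self]
  exact sub_eq_zero.1 ((smul_eq_zero.1 e4).resolve_left h3)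

variable [FiniteDimensional K V]

theorem trace_prL (hω : Om ω) (h3 : (3 : K) ≠ 0) {T : Module.End K V} (hT : ∀ v, T (T (T v)) = v) (a : Fin 3) :
    LinearMap.trace K V (prL ω T a) = 3 * (finrank K (Ei T (ω ^ a.val)) : K) := by
  have h : LinearMap.IsProj (Ei T (ω ^ a.val)) ((3 : K)⁻¹ • prL ω T a) := by
    refine ⟨fun v => ?_, fun v hv => ?_⟩
    · rw [LinearMap.smul_apply]
      exact Submodule.smul_mem _ _ (pr_eig hω hT a v)
    · rw [mem_Ei] at hv
      rw [LinearMap.smul_apply, prL_apply]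
      have e := pr_sum hω T v
      have hs : pr ω T a v = (3 : K) • v := by
        fin_cases a
        · rw [pr_of_ne hω (a := 1) (b := 0) (by decide) hv, pr_of_ne hω (a := 2) (b := 0) (by decide) hv,
            add_zero, add_zero] at e
          exact e
        · rw [pr_of_ne hω (a := 0) (b := 1) (by decide) hv, pr_of_ne hω (a := 2) (b := 1) (by decide) hv,
            add_zero, zero_add] at e
          exact e
        · rw [pr_of_ne hω (a := 0) (b := 2) (by decide) hv, pr_of_ne hω (a := 1) (b := 2) (by decide) hv,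
            zero_add, zero_add] at e
          exact e
      rw [hs, smul_smul, inv_mul_cancel₀ h3, one_smul]
  have h4 := h.trace
  rw [map_smul, smul_eq_mul] at h4
  rw [← h4, ← mul_assoc, mul_inv_cancel₀ h3, one_mul]

theorem trace_sub (hω : Om ω) (h3 : (3 : K) ≠ 0) {T : Module.End K V} (hT : ∀ v, T (T (T v)) = v)
    (h : LinearMap.trace K V (T * T) = LinearMap.trace K V T) :
    (finrank K (Ei T ω) : K) = finrank K (Ei T (ω ^ 2)) := by
  have e1 := trace_prL hω h3 hT 1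
  have e2 := trace_prL hω h3 hT 2
  change _ = 3 * (finrank K (Ei T (ω ^ 1)) : K) at e1
  change _ = 3 * (finrank K (Ei T (ω ^ 2)) : K) at e2
  rw [pow_one] at e1
  unfold prL at e1 e2
  rw [map_add, map_add, map_smul, map_smul, h] at e1 e2
  change _ + ω ^ 2 • _ + ω ^ 1 • _ = _ at e1
  change _ + ω ^ 4 • _ + ω ^ 2 • _ = _ at e2
  simp only [smul_eq_mul] at e1 e2
  have e4 : (3 : K) * ((finrank K (Ei T ω) : K) - finrank K (Ei T (ω ^ 2))) = 0 := by
    linear_combination e2 - e1 - (ω * (LinearMap.trace K V T)) * hω.c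
  exact sub_eq_zero.1 ((mul_eq_zero.1 e4).resolve_left h3)

end lin

variable {K : Type*} [Field K] {V : Type*} [AddCommGroup V] [Module K V] {O : Ops K V} {ω : K}
  [FiniteDimensional K V] {m0 a b c : ℕ}

theorem tX_of (R : Rels O) (hω : Om ω) (h2 : (2 : K) ≠ 0) (h3 : (3 : K) ≠ 0) (T : Ty O ω m0 a b 0 0) (hI : Irr O)
    (hn : 2 ≤ finrank K V) (hp : ∀ v, O.t1 (O.t2 v) = v) : ∀ v ∈ Fi O.z1, O.t2 v = -v := by
  have hl := absent_w R hω h3 T (l := 2) (absent_c rfl)
  have T' := T.sq hω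
  have hl' := absent_w R hω.sq h3 T' (l := 2) (absent_c rfl)
  exact t2_neg_X R hω h3 T hI hn (by
    intro l hl0 v hv ht
    have ht' : O.t2 v = -v := by
      fin_cases l
      · exact absurd rfl hl0
      · exact t2_neg_W R hω h2 hp hl hv
      · exact t2_neg_W R hω.sq h2 hp hl' (by rw [W_sq_010 hω]; exact hv)
    exact eq_zero_of_neg h2 (ht.symm.trans ht'))

theorem cls_12 : ∀ k, cls 1 2 k = 3 ∨ cls 1 2 k = 4 := by decide
theorem cls_21 : ∀ k, cls 2 1 k = 3 ∨ cls 2 1 k = 4 := by decide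

/-- no component for `ω²` -/
theorem C_zero (R : Rels O) (hω : Om ω) (h2 : (2 : K) ≠ 0) (h3 : (3 : K) ≠ 0) (T : Ty O ω m0 a b 0 0)
    (tX : ∀ v ∈ Fi O.z1, O.t2 v = -v) (hp : ∀ v, O.t1 (O.t2 v) = v) {v : V} (hv1 : O.z1 v = v)
    (hv2 : O.z2 v = ω • v) : pr ω O.z2 2 (O.j v) = 0 := by
  have abs12 : ∀ u, O.z1 u = ω ^ (1 : Fin 3).val • u → O.z2 u = ω ^ (2 : Fin 3).val • u → u = 0 := by
    intro u a1 a2
    refine absent R hω h3 T (i := 1) (l := 2) ?_ a1 a2
    intro k
    rcases cls_12 k with h | h <;> rw [h] <;> rfl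
  have abs21 : ∀ u, O.z1 u = ω ^ (2 : Fin 3).val • u → O.z2 u = ω ^ (1 : Fin 3).val • u → u = 0 := by
    intro u a1 a2
    refine absent R hω h3 T (i := 2) (l := 1) ?_ a1 a2
    intro k
    rcases cls_21 k with h | h <;> rw [h] <;> rfl
  set C := pr ω O.z2 2 (O.j v) with hC
  have c1 : O.z1 C = C := by
    rw [hC, ← pr_comm (T := O.z2) (S := O.z1) (fun v => (R.z1z2 v).symm), R.z1j, hv1]
  have c2 : O.z2 C = ω ^ (2 : Fin 3).val • C := pr_eig hω R.z2z2z2 2 _
  have n2 : pr ω O.z1 2 (O.n v) = 0 := by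
    refine abs21 _ (pr_eig hω R.z1z1z1 2 _) ?_
    rw [← pr_comm (T := O.z1) (S := O.z2) (fun v => R.z1z2 v), ← R.nz2, hv2, map_smul]
    rw [← prL_apply, map_smul, prL_apply]
    change _ = ω ^ 1 • _
    rw [pow_one]
  have m2 : pr ω O.z1 2 (O.n C) = 0 := by
    have e1 : O.n C = pr ω O.z2 2 (O.j (O.n v)) := by
      rw [hC, ← pr_comm (T := O.z2) (S := O.n) (fun v => (R.nz2 v).symm), R.nj]
    rw [e1, pr_comm' (T := O.z1) (S := O.z2) R.z1z2, pr_comm (T := O.z1) (S := O.j) R.z1j, n2, map_zero, pr_zero]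
  have m1 : pr ω O.z1 1 (O.n C) = 0 := by
    refine abs12 _ (pr_eig hω R.z1z1z1 1 _) ?_
    rw [← pr_comm (T := O.z1) (S := O.z2) (fun v => R.z1z2 v), ← R.nz2, c2, map_smul]
    rw [← prL_apply, map_smul, prL_apply]
  have hnC : O.z1 (O.n C) = O.n C := fix_of_pr hω h3 R.z1z1z1 m1 m2
  have tC : O.t2 C = -C := tX C c1
  have e := R.nz3 C
  rw [c1, hnC, R.nn, t1_eq R hp, tC, map_neg, map_neg, c1] at e
  have e5 : O.n C = C := neg_injective e
  have e6 := R.nn C
  rw [e5, e5, t1_eq R hp, tC] at e6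
  exact eq_zero_of_neg h2 e6

theorem cls_10 : ∀ k, k ≠ 0 → cls 1 0 k = 3 ∨ cls 1 0 k = 4 := by decide

/-- not both `a`, `b` are non-zero -/
theorem b_zero (R : Rels O) (hω : Om ω) (h2 : (2 : K) ≠ 0) (h3 : (3 : K) ≠ 0) (T : Ty O ω m0 a b 0 0) (hI : Irr O)
    (hn : 2 ≤ finrank K V) (hp : ∀ v, O.t1 (O.t2 v) = v) (ha : a ≠ 0) : b = 0 := by
  have tX := tX_of R hω h2 h3 T hI hn hp
  let X1 : Submodule K V := Fi O.z1 ⊓ (LinearMap.ker (prL ω O.z2 2) ⊓ LinearMap.ker (prL ω O.z2 2 * O.j))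
  let N1 : Submodule K V := Ei O.z1 ω
  have mX1 : ∀ v, v ∈ X1 ↔ O.z1 v = v ∧ pr ω O.z2 2 v = 0 ∧ pr ω O.z2 2 (O.j v) = 0 := fun v => Iff.rfl
  have mN1 : ∀ v, v ∈ N1 ↔ O.z1 v = ω • v := fun v => Iff.rfl
  have w010 : ∀ v, O.z1 v = v → O.z2 v = ω • v → v ∈ X1 := by
    intro v a1 a2
    rw [mX1]
    refine ⟨a1, pr_of_ne hω (a := 2) (b := 1) (by decide) (by change _ = ω ^ 1 • v; rw [pow_one]; exact a2), ?_⟩
    exact C_zero R hω h2 h3 T tX hp a1 a2
  have xj : ∀ v ∈ X1, O.j v ∈ X1 := by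
    intro v hv
    rw [mX1] at hv ⊢
    obtain ⟨a1, a2, a3⟩ := hv
    refine ⟨by rw [R.z1j, a1], a3, ?_⟩
    rw [R.jj, tX v a1, pr_neg, a2, neg_zero]
  have xs : ∀ v ∈ X1, O.s v ∈ X1 ⊔ N1 := by
    intro v hv
    have hv' := (mX1 v).1 hv
    obtain ⟨a1, a2, a3⟩ := hv'
    have e := pr_sum hω O.z2 v
    rw [a2, add_zero] at e
    have p1 : O.z2 (pr ω O.z2 1 v) = ω • pr ω O.z2 1 v := by
      have := pr_eig hω R.z2z2z2 1 v
      change _ = ω ^ 1 • _ at this
      rwa [pow_one] at this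
    have q1 : O.z1 (pr ω O.z2 1 v) = pr ω O.z2 1 v := by
      rw [← pr_comm (T := O.z2) (S := O.z1) (fun v => (R.z1z2 v).symm), a1]
    have q0 : O.z1 (pr ω O.z2 0 v) = pr ω O.z2 0 v := by
      rw [← pr_comm (T := O.z2) (S := O.z1) (fun v => (R.z1z2 v).symm), a1]
    have p0 : O.z2 (pr ω O.z2 0 v) = pr ω O.z2 0 v := by
      have := pr_eig hω R.z2z2z2 0 v
      rwa [om_zero] at this
    have x1 : pr ω O.z2 1 v ∈ X1 := w010 _ q1 p1
    have x0 : pr ω O.z2 0 v ∈ X1 := by
      have : pr ω O.z2 0 v = (3 : K) • v - pr ω O.z2 1 v := by rw [← e, add_sub_cancel_right]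
      rw [this]
      exact X1.sub_mem (X1.smul_mem _ hv) x1
    have s0 : O.s (pr ω O.z2 0 v) = -pr ω O.z2 0 v := by
      set u := pr ω O.z2 0 v
      have hy := y_fix R hω h3 T q0
      have hs1 : O.z1 (O.s u) = O.s u := by rw [R.z1s, p0]
      have hys : O.y (O.s u) = O.s u := y_fix R hω h3 T hs1
      have e := R.s_eq u
      rw [hy, tX u q0, map_neg, map_neg, hys, map_neg, R.ss, map_neg, map_neg, hy, hy] at e
      exact e
    have s1 : O.s (pr ω O.z2 1 v) ∈ N1 := by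
      rw [mN1]
      rw [R.z1s, p1, map_smul]
    have h4 : O.s v = (3 : K)⁻¹ • (O.s (pr ω O.z2 0 v) + O.s (pr ω O.z2 1 v)) := by
      rw [← map_add, e, map_smul, smul_smul, inv_mul_cancel₀ h3, one_smul]
    rw [h4, s0]
    exact Submodule.smul_mem _ _ (Submodule.add_mem _ (Submodule.mem_sup_left (X1.neg_mem x0))
      (Submodule.mem_sup_right s1))
  have ns : ∀ v ∈ N1, O.s v ∈ X1 ⊔ N1 := by
    intro v hv
    have : v ∈ (X1 ⊔ N1).comap O.s := by
      refine decomp hω h3 (T := O.z2) R.z2z2z2 N1 _ ?_ ?_ hv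
      · rintro u (u1 : O.z1 u = ω • u)
        rw [mN1]
        rw [R.z1z2, u1, map_smul]
      · intro l u hu hl
        refine decomp hω h3 (T := O.x) R.xxx (N1 ⊓ Ei O.z2 (ω ^ l.val)) _ ?_ ?_ (v := u) ⟨hu, hl⟩
        · rintro u ⟨(u1 : O.z1 u = ω • u), (u2 : O.z2 u = ω ^ l.val • u)⟩
          refine Submodule.mem_inf.2 ⟨?_, ?_⟩
          · rw [mN1]
            rw [R.z1x, u1, map_smul]
          · rw [mem_Ei, R.z2x, u2, map_smul]
        · rintro k w ⟨(w1 : O.z1 w = ω • w), (w2 : O.z2 w = ω ^ l.val • w)⟩ w3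
          rw [Submodule.mem_comap]
          have hw : w ∈ O.W ω 1 l k := mem_W.2 ⟨by rw [om_one]; exact w1, w2, w3⟩
          fin_cases l
          · by_cases hk : k = 0
            · subst hk
              apply Submodule.mem_sup_left
              apply w010
              · change O.z1 (O.s w) = O.s w
                have : O.z2 w = w := by rw [w2]; exact om_zero
                rw [R.z1s, this]
              · rw [R.z2s, w1, map_smul]
            · have : w = 0 := T.eq_zero (i := 1) (j := 0) (k := k) (by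
                rcases cls_10 k hk with h | h <;> rw [h] <;> rfl) hw
              rw [this, map_zero]
              exact Submodule.zero_mem _
          · apply Submodule.mem_sup_right
            rw [mN1]
            rw [R.z1s, w2]
            change O.s (ω ^ 1 • w) = _
            rw [pow_one, map_smul]
          · have : w = 0 := T.eq_zero (i := 1) (j := 2) (k := k) (by
                rcases cls_12 k with h | h <;> rw [h] <;> rfl) hw
            rw [this, map_zero]
            exact Submodule.zero_mem _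
    exact this
  have hy : ∀ v ∈ X1 ⊔ N1, O.y v ∈ X1 ⊔ N1 := by
    intro v hv
    obtain ⟨x, hx, n, hn, rfl⟩ := Submodule.mem_sup.1 hv
    rw [map_add, y_fix R hω h3 T hx.1]
    refine Submodule.add_mem _ (Submodule.mem_sup_left hx) (Submodule.mem_sup_right ?_)
    rw [mN1]
    rw [R.z1y, show O.z1 n = ω • n from hn, map_smul]
  have hs : ∀ v ∈ X1 ⊔ N1, O.s v ∈ X1 ⊔ N1 := by
    intro v hv
    obtain ⟨x, hx, n, hn, rfl⟩ := Submodule.mem_sup.1 hv
    rw [map_add]
    exact Submodule.add_mem _ (xs x hx) (ns n hn)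
  have hj : ∀ v ∈ X1 ⊔ N1, O.j v ∈ X1 ⊔ N1 := by
    intro v hv
    obtain ⟨x, hx, n, hn, rfl⟩ := Submodule.mem_sup.1 hv
    rw [map_add]
    refine Submodule.add_mem _ (Submodule.mem_sup_left (xj x hx)) (Submodule.mem_sup_right ?_)
    rw [mN1]
    rw [R.z1j, show O.z1 n = ω • n from hn, map_smul]
  rcases hI _ hy hs hj with h | h
  · exfalso
    obtain ⟨v, hv, hv0⟩ := T.exists_ne (i := 0) (j := 1) (k := 0) (by change a ≠ 0; exact ha)
    rw [mem_W, om_zero, om_one] at hv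
    have : v ∈ X1 ⊔ N1 := Submodule.mem_sup_left (w010 v hv.1 hv.2.1)
    rw [h] at this
    exact hv0 ((Submodule.mem_bot K).1 this)
  · by_contra hb
    obtain ⟨w, hw, hw0⟩ := T.exists_ne (i := 2) (j := 0) (k := 0) (by change b ≠ 0; exact hb)
    have hw1 : O.z1 w = ω ^ (2 : Fin 3).val • w := (mem_W.1 hw).1
    have hm : w ∈ X1 ⊔ N1 := by rw [h]; trivial
    obtain ⟨x, hx, n, hn, hxn⟩ := Submodule.mem_sup.1 hm
    have e1 : pr ω O.z1 2 x = 0 := pr_of_ne hω (a := 2) (b := 0) (by decide) (by rw [om_zero]; exact hx.1)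
    have e2 : pr ω O.z1 2 n = 0 := pr_of_ne hω (a := 2) (b := 1) (by decide) (by rw [om_one]; exact hn)
    have e3 : pr ω O.z1 2 w = 0 := by
      rw [← hxn, ← prL_apply, map_add, prL_apply, prL_apply, e1, e2, add_zero]
    have e4 := pr_sum hω O.z1 w
    rw [e3, pr_of_ne hω (a := 0) (b := 2) (by decide) hw1, pr_of_ne hω (a := 1) (b := 2) (by decide) hw1,
      add_zero, add_zero] at e4
    exact hw0 ((smul_eq_zero.1 e4.symm).resolve_left h3)

/-- self-duality forces degree 6 -/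
theorem ty_ne [IsAlgClosed K] (R : Rels O) (hω : Om ω) (h2 : (2 : K) ≠ 0) (h3 : (3 : K) ≠ 0)
    (T : Ty O ω m0 a b c 0) (hI : Irr O) (hn : 2 ≤ finrank K V) (hn' : finrank K V ≤ 12) (h6 : finrank K V ≠ 6)
    (hs : (∀ v, O.t1 (O.t2 v) = v) ∨ (∀ v, O.t1 (O.t2 v) = -v)) : a ≠ b := by
  rintro rfl
  have ht := T.tot
  -- all weights zero is impossible
  have key : a = 0 → c = 0 → False := by
    rintro rfl rfl
    have hX := finrank_X R hω h3 T
    have htop : Fi O.z1 = ⊤ := Submodule.eq_top_of_finrank_eq (by omega)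
    have : Nontrivial V := Module.nontrivial_of_finrank_pos (R := K) (by omega)
    obtain ⟨v, hv⟩ := exists_ne (0 : V)
    apply hv
    have hf : ∀ v : V, O.z1 v = v := fun v => by
      have : v ∈ Fi O.z1 := by rw [htop]; trivial
      exact this
    refine Y_zero R hω h3 T hI hn ⊤ (fun v _ => hf v) (fun _ _ => trivial) (fun _ _ => trivial) ?_
      (v := v) trivial
    intro l hl w _ hw
    have hw' := mem_W_X R hω h3 T (hf w) hw
    refine T.eq_zero ?_ hw'
    fin_cases l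
    · exact absurd rfl hl
    · rfl
    · rfl
  rcases hs with hp | hm
  · by_cases hc : c = 0
    · subst hc
      by_cases ha : a = 0
      · exact key ha rfl
      · exact ha (b_zero R hω h2 h3 T hI hn hp ha)
    · have ha : a = 0 := by omega
      subst ha
      have h := casePlusSix R hω h2 h3 T hc hI hn hp
      exact h6 h.1
  · have h4 := caseMinus R hω h2 h3 T hI hn hn' hm
    exact key (by omega) (by omega)

/-- the eigenspace of `z1` for `ω` -/
theorem le_finrank_Ei (R : Rels O) (hω : Om ω) (h3 : (3 : K) ≠ 0) (T : Ty O ω m0 a b c 0) :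
    3 * (a + c) ≤ finrank K (Ei O.z1 ω) := by
  have hinj : Function.Injective (fun t : Fin 3 × Fin 3 => ((1 : Fin 3), t.1, t.2)) := by
    intro s t hst
    have := congrArg Prod.snd hst
    exact this
  have hsum := SevenU42.sum_finrank_le_of_le ((indep_W R hω h3).comp hinj) (Ei O.z1 ω) (fun t v hv => by
    have := (mem_W.1 hv).1
    change O.z1 v = ω ^ 1 • v at this
    rw [pow_one] at this
    exact this)
  refine le_trans (le_of_eq ?_) hsum
  have h' : ∀ t : Fin 3 × Fin 3, finrank K (O.W ω 1 t.1 t.2) = ![m0, a, b, c, 0] (cls 1 t.1 t.2) := fun t => T.dim _ _ _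
  change _ = ∑ t : Fin 3 × Fin 3, finrank K (O.W ω 1 t.1 t.2)
  rw [Finset.sum_congr rfl fun t _ => h' t]
  simp only [Fintype.sum_prod_type, Fin.sum_univ_three]
  simp only [show cls 1 0 0 = 1 from rfl, show cls 1 0 1 = 4 from rfl, show cls 1 0 2 = 4 from rfl,
    show cls 1 1 0 = 3 from rfl, show cls 1 1 1 = 1 from rfl, show cls 1 1 2 = 1 from rfl,
    show cls 1 2 0 = 4 from rfl, show cls 1 2 1 = 3 from rfl, show cls 1 2 2 = 3 from rfl]
  simp only [Matrix.cons_val_one, Matrix.cons_val]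
  ring

theorem finrank_Ei (R : Rels O) (hω : Om ω) (h3 : (3 : K) ≠ 0) (T : Ty O ω m0 a b c 0) [IsAlgClosed K] :
    finrank K (Ei O.z1 ω) = 3 * (a + c) ∧ finrank K (Ei O.z1 (ω ^ 2)) = 3 * (b + c) := by
  have h1 := le_finrank_Ei R hω h3 T
  have h4 := le_finrank_Ei R hω.sq h3 (T.sq hω)
  have h0 := finrank_X R hω h3 T
  have hsum : finrank K (Fi O.z1) + finrank K (Ei O.z1 ω) + finrank K (Ei O.z1 (ω ^ 2)) = finrank K V := by
    have := HeisLine.sum_eigen (cube1 R) h3 hω.a hω.b hω.c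
    rw [Fin.sum_univ_three] at this
    have e0 : O.z1.eigenspace (ω ^ (0 : Fin 3).val) = Fi O.z1 := by
      ext v
      rw [Module.End.mem_eigenspace_iff, mem_Fi, om_zero]
    have e1 : O.z1.eigenspace (ω ^ (1 : Fin 3).val) = Ei O.z1 ω := by
      ext v
      rw [Module.End.mem_eigenspace_iff, mem_Ei, om_one]
    have e2 : O.z1.eigenspace (ω ^ (2 : Fin 3).val) = Ei O.z1 (ω ^ 2) := by
      ext v
      rw [Module.End.mem_eigenspace_iff, mem_Ei]
      rfl
    rw [e0, e1, e2] at this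
    exact this
  have ht := T.tot
  omega

section main

open Cfsg Cfsg.Geo Matrix SevenU42 Ac
open Cfsg.Agent.H915.LD

variable {ι : Type} [Fintype ι] [DecidableEq ι] {F : Type*} [Field F] [Finite F] {P : Subgroup (GL ι F)}

/-- a core of type `PSp₄(3)` is an image of `Sp₄(3)` -/
theorem exists_hom (hC : Core P) {k : Type*} [Field k] [Fintype k] (hk : Fintype.card k = 3) (e : Soc P ≃* PSp 2 k) :
    ∃ φ : Sp →* GL ι F, φ.range = P := by
  classical
  let e0 : ZMod 3 ≃+* k := ZMod.ringEquivOfPrime k Nat.prime_three hk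
  let E : Soc P ≃* PSp 2 (ZMod 3) := e.trans (Cfsg.Agent.LieClassical.FieldTransfer.pspCongr 2 e0).symm
  let π : P →* PSp 2 (ZMod 3) := E.toMonoidHom.comp (toSoc P)
  have hπ : Function.Surjective π := E.surjective.comp (toSoc_surjective P)
  have hker : π.ker = (scalars ι F).subgroupOf P := ker_comp E
  have hkc : π.ker ≤ Subgroup.center P := by rw [hker]; exact scalars_le_center
  obtain ⟨φ, hφ, -⟩ := H95.StemCover.exists_cover_of_trivial
    (H62.SpMult.perfect_Sp (F := ZMod 3) (m := 2) le_rfl (fun _ => le_refl 3))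
    (H62.SpMult.hasTrivial_Sp (F := ZMod 3) (m := 2) le_rfl (fun _ => le_refl 3) (by decide))
    (QuotientGroup.mk' (Subgroup.center Sp)) (QuotientGroup.mk'_surjective _) (by rw [QuotientGroup.ker_mk'])
    hC.commutator_top π hπ hkc
  refine ⟨P.subtype.comp φ, ?_⟩
  ext g
  constructor
  · rintro ⟨w, rfl⟩
    exact (φ w).2
  · intro hg
    obtain ⟨w, hw⟩ := hφ ⟨g, hg⟩
    exact ⟨w, congrArg Subtype.val hw⟩

/-- **A self-dual core of type `PSp₄(3)` of degree ≤ 12, characteristic ≠ 2, 3, has degree 6.** -/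
theorem sd_six (hC : Core P) (p : ℕ) [hp : Fact p.Prime] [CharP F p] (hp2 : p ≠ 2) (hp3 : p ≠ 3)
    (hn : Fintype.card ι ≤ 12) {k : Type*} [Field k] [Fintype k] (hk : Fintype.card k = 3)
    (e : Soc P ≃* PSp 2 k) (hSD : SD P) : Fintype.card ι = 6 := by
  classical
  by_contra h6
  have hn2 := hC.two_le
  obtain ⟨φ', hrange⟩ := exists_hom hC hk e
  have hs := H920.span_eq_top hC.absIrred
  let A := AlgebraicClosure F
  have hinj : Function.Injective (algebraMap F A) := (algebraMap F A).injective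
  have hne : ∀ q : ℕ, q.Prime → q ≠ p → (q : A) ≠ 0 := by
    intro q hq hqp h0
    have h4 : ((q : ℕ) : F) = 0 := by
      apply hinj
      rw [map_natCast, map_zero, h0]
    rw [CharP.cast_eq_zero_iff F p] at h4
    exact hqp ((Nat.prime_dvd_prime_iff_eq hp.out hq).1 h4).symm
  have h2 : (2 : A) ≠ 0 := by exact_mod_cast hne 2 Nat.prime_two (Ne.symm hp2)
  have h3 : (3 : A) ≠ 0 := by exact_mod_cast hne 3 Nat.prime_three (Ne.symm hp3)
  have irr₁ := rp_irr A φ' hrange hs
  have hfr : Module.finrank A (ι → A) = Fintype.card ι := Module.finrank_fintype_fun_eq_card A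
  obtain ⟨ω, w1, w2, w3⟩ := Triple.exists_omega h3
  have hω : Om ω := ⟨w1, w2, w3⟩
  have R := rels (rp A φ')
  obtain ⟨m0, a, b, c, d, T⟩ := exists_ty R hω h3
  have hd := d_zero R hω h3 T (by rw [hfr]; exact hn)
  subst hd
  have hsign : (∀ v, (ops (rp A φ')).t1 ((ops (rp A φ')).t2 v) = v) ∨
      (∀ v, (ops (rp A φ')).t1 ((ops (rp A φ')).t2 v) = -v) := by
    simp only [t1t2_eq]
    exact neg_sign (rp A φ') irr₁
  have hab := ty_ne R hω h2 h3 T (irr_of _ irr₁) (by rw [hfr]; exact hn2) (by rw [hfr]; exact hn)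
    (by rw [hfr]; exact h6) hsign
  obtain ⟨f1, f2⟩ := finrank_Ei R hω h3 T
  -- the trace of a transvection
  have hz3 : ∀ v, rp A φ' (U 7 2) (rp A φ' (U 7 2) (rp A φ' (U 7 2) v)) = v := R.z1z1z1
  have hzi : (U 7 2 : Sp)⁻¹ = U 7 2 * U 7 2 := by
    rw [inv_eq_iff_mul_eq_one]
    exact Subtype.ext (by decide +kernel)
  have htr : LinearMap.trace A (ι → A) (rp A φ' (U 7 2) * rp A φ' (U 7 2)) =
      LinearMap.trace A (ι → A) (rp A φ' (U 7 2)) := by
    rw [← map_mul, ← hzi, trace_rp, trace_rp, map_inv]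
    congr 1
    have hm : φ' (U 7 2) ∈ P := by rw [← hrange]; exact ⟨_, rfl⟩
    exact hSD _ hm
  have h7 := trace_sub hω h3 hz3 htr
  have f1' : Module.finrank A (Ei (rp A φ' (U 7 2)) ω) = 3 * (a + c) := f1
  have f2' : Module.finrank A (Ei (rp A φ' (U 7 2)) (ω ^ 2)) = 3 * (b + c) := f2
  rw [f1', f2'] at h7
  have ht := T.tot
  rw [hfr] at ht
  -- in characteristic ≥ 5
  have h8 : (3 : A) * ((a : A) - b) = 0 := by
    have h7' : ((3 * (a + c) : ℕ) : A) = ((3 * (b + c) : ℕ) : A) := h7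
    rw [Nat.cast_mul, Nat.cast_mul, Nat.cast_add, Nat.cast_add, Nat.cast_ofNat] at h7'
    linear_combination h7'
  have h9 : (a : A) = b := sub_eq_zero.1 ((mul_eq_zero.1 h8).resolve_left h3)
  have hA : CharP A p := charP_of_injective_algebraMap hinj p
  have h10 : a ≡ b [MOD p] := (CharP.natCast_eq_natCast A p).1 h9
  have hp5 : 5 ≤ p := by
    have := hp.out.two_le
    by_contra hlt
    have h4 : p = 2 ∨ p = 3 ∨ p = 4 := by omega
    rcases h4 with h | h | h
    · exact hp2 h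
    · exact hp3 h
    · rw [h] at hp
      exact absurd hp.out (by norm_num)
  have h11 : a % p = b % p := h10
  rw [Nat.mod_eq_of_lt (by omega), Nat.mod_eq_of_lt (by omega)] at h11
  exact hab h11

/-- the same with `PSU₄(2)` -/
theorem sd_six' (hC : Core P) (p : ℕ) [hp : Fact p.Prime] [CharP F p] (hp2 : p ≠ 2) (hp3 : p ≠ 3)
    (hn : Fintype.card ι ≤ 12) {k : Type*} [Field k] [Fintype k] (hk : Fintype.card k = 4)
    (e : Soc P ≃* PSU 4 k 2) (hSD : SD P) : Fintype.card ι = 6 := by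
  obtain ⟨e4⟩ := Cfsg.Agent.S0822.result (F := k) (K := ZMod 3) hk rfl
  exact sd_six hC p hp2 hp3 hn (k := ZMod 3) rfl (e.trans e4) hSD

end main

end Cfsg.Agent.H659.Sp4
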