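import Cfsg.Agent.H278.Cov.ClDefs

/-!
# S2499, tasks OG-Sp, OG-SU, OG-O: the common core

`core` : an irreducible subgroup `H` of `GL ι F` which contains an element of the primitive part of `q ^ k - 1`
(`Num`) normalises a field of matrices of prime degree dividing `gcd (|ι|, k)`, or contains `SL`, or all isometries
of a symplectic form, or all isometries of determinant one of a unitary form, or `Ω` of a quadratic form.
The subfield groups are excluded by `Num.sub`. The overgroup theorem `S5948` enters as the hypothesis `S5948Stmt`,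
and the statement is transported from `Fin n` to an arbitrary index type.
-/

set_option autoImplicit false

namespace Cfsg.Agent.H659.CovCore

open Cfsg Cfsg.Geo Cfsg.Agent.H278.Cov
open scoped MatrixGroups Matrix

universe u

/-- the text of `S5948` (overgroups of elements of large primitive-prime-divisor order) -/
def S5948Stmt : Prop :=
  ∀ {F : Type u} [Field F] [Fintype F] {q : ℕ}
    (_hF : Fintype.card F = q) (n k : ℕ) (_hn : 10 ≤ n) (_hk : n < 2 * k) (g : GL (Fin n) F)
    (_hg1 : 2 * k + 1 < orderOf g) (_hg2 : orderOf g ∣ q ^ k - 1)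
    (_hg3 : ∀ i : ℕ, 1 ≤ i → i < k → Nat.Coprime (orderOf g) (q ^ i - 1))
    (H : Subgroup (GL (Fin n) F)) (_hgH : g ∈ H) (_hirr : Cfsg.Geo.ActsIrreducibly (Cfsg.Geo.matrixSet H)),
    (∃ (F₀ : Subfield F) (r : ℕ) (P : GL (Fin n) F), r.Prime ∧ Fintype.card F = Nat.card F₀ ^ r ∧ H ≤ Cfsg.Geo.subfieldSubgroup F₀ P) ∨
    (∃ (r : ℕ) (E : Subalgebra F (Matrix (Fin n) (Fin n) F)), r.Prime ∧ r ∣ Nat.gcd n k ∧ Cfsg.Geo.IsFieldSubalgebra r E ∧
        H ≤ Cfsg.Geo.subalgebraNormalizer E) ∨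
    Cfsg.Geo.specialLinear (Fin n) F ≤ H ∨
    (∃ f : (Fin n → F) → (Fin n → F) → F, Cfsg.Geo.IsSymplecticForm f ∧
        ∀ x : GL (Fin n) F, Cfsg.Geo.FixesForm {(x : Matrix (Fin n) (Fin n) F)} f → x ∈ H) ∨
    (∃ (τ : F ≃+* F) (f : (Fin n → F) → (Fin n → F) → F), Cfsg.Geo.IsUnitaryForm τ f ∧
        ∀ x : GL (Fin n) F, Cfsg.Geo.FixesForm {(x : Matrix (Fin n) (Fin n) F)} f → Matrix.GeneralLinearGroup.det x = 1 → x ∈ H) ∨
    (∃ Q : (Fin n → F) → F, Cfsg.Geo.IsNondegenerateQuadraticForm Q ∧ Cfsg.Geo.omegaGL Q ≤ H)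

/-! ### the subfield groups -/

theorem card_sup_dvd {G : Type*} [Group G] (A B : Subgroup G) [B.Normal] :
    Nat.card (A ⊔ B : Subgroup G) ∣ Nat.card A * Nat.card B := by
  have h1 : (⊥ : Subgroup G).relIndex B * B.relIndex (A ⊔ B) = (⊥ : Subgroup G).relIndex (A ⊔ B) :=
    Subgroup.relIndex_mul_relIndex _ _ _ bot_le le_sup_right
  rw [Subgroup.relIndex_bot_left, Subgroup.relIndex_bot_left, Subgroup.relIndex_sup_right] at h1
  rw [← h1, mul_comm]
  exact Nat.mul_dvd_mul_right (Subgroup.relIndex_dvd_card B A) _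

/-- a prime dividing the order of a subfield group divides `q - 1`, or `q₀`, or some `q₀ ^ j - 1` -/
theorem prime_dvd_subfield {F : Type u} [Field F] [Fintype F] {n : ℕ} (F₀ : Subfield F) (P : GL (Fin n) F)
    {l : ℕ} (hl : l.Prime) (hd : l ∣ Nat.card (subfieldSubgroup F₀ P)) :
    l ∣ Fintype.card F - 1 ∨ l ∣ Nat.card F₀ ∨ ∃ j : ℕ, 1 ≤ j ∧ j ≤ n ∧ l ∣ Nat.card F₀ ^ j - 1 := by
  classical
  have h1 : Nat.card (subfieldSubgroup F₀ P) ∣ Nat.card
      ((Matrix.GeneralLinearGroup.map (n := Fin n) (F₀.subtype : F₀ →+* F)).range ⊔ scalars (Fin n) F :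
        Subgroup (GL (Fin n) F)) := Subgroup.card_map_dvd _ _
  have h2 := (hd.trans h1).trans (card_sup_dvd _ _)
  rcases (hl.dvd_mul).1 h2 with h3 | h3
  · have h4 : Nat.card (Matrix.GeneralLinearGroup.map (n := Fin n) (F₀.subtype : F₀ →+* F)).range ∣
        Nat.card (GL (Fin n) F₀) := Subgroup.card_range_dvd _
    have h5 := h3.trans h4
    rw [Matrix.card_GL_field] at h5
    obtain ⟨i, -, hi⟩ := (Prime.dvd_finsetProd_iff (Nat.prime_iff.1 hl) _).1 h5
    have h6 : Fintype.card F₀ ^ n - Fintype.card F₀ ^ (i : ℕ) =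
        Fintype.card F₀ ^ (i : ℕ) * (Fintype.card F₀ ^ (n - i) - 1) := by
      rw [Nat.mul_sub, ← pow_add, mul_one, Nat.add_sub_cancel' i.2.le]
    rw [h6] at hi
    rw [Nat.card_eq_fintype_card]
    rcases (hl.dvd_mul).1 hi with h7 | h7
    · exact Or.inr (Or.inl (hl.dvd_of_dvd_pow h7))
    · exact Or.inr (Or.inr ⟨n - i, by have := i.2; omega, by omega, h7⟩)
  · have h4 : Nat.card (scalars (Fin n) F) ∣ Nat.card Fˣ := Subgroup.card_range_dvd _
    have h5 := h3.trans h4
    rw [Nat.card_units, Nat.card_eq_fintype_card] at h5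
    exact Or.inl h5

theorem not_subfield {F : Type u} [Field F] [Fintype F] {n k m : ℕ} (hnum : Num (Fintype.card F) n k m)
    {H : Subgroup (GL (Fin n) F)} {g : GL (Fin n) F} (hg : g ∈ H) (hm : orderOf g = m)
    {F₀ : Subfield F} {r : ℕ} {P : GL (Fin n) F} (hr : r.Prime) (hc : Fintype.card F = Nat.card F₀ ^ r)
    (hle : H ≤ subfieldSubgroup F₀ P) : False := by
  obtain ⟨l, hl, hlm, hl2⟩ := hnum.sub
  have hk1 : 1 < k := by have := hnum.ten; have := hnum.lt; omega
  have h1 : l ∣ Nat.card (subfieldSubgroup F₀ P) := by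
    refine hlm.trans ?_
    rw [← hm, ← Subgroup.orderOf_mk g (hle hg)]
    exact orderOf_dvd_natCard _
  have h0 : l ∣ Fintype.card F ^ k - 1 := hlm.trans hnum.dvd
  have hq1 : 1 ≤ Fintype.card F := Fintype.card_pos
  rcases prime_dvd_subfield F₀ P hl h1 with h2 | h2 | ⟨j, hj1, hj2, h2⟩
  · have h3 := hnum.prim 1 le_rfl hk1
    rw [pow_one] at h3
    exact hl.one_lt.ne' (Nat.dvd_one.1 (by rw [← h3]; exact Nat.dvd_gcd hlm h2))
  · have h3 : l ∣ Fintype.card F ^ k := by
      rw [hc, ← pow_mul]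
      exact dvd_pow h2 (by have := hr.pos; positivity)
    have h4 : 1 ≤ Fintype.card F ^ k := Nat.one_le_pow _ _ hq1
    have h5 := (Nat.dvd_sub h3 h0)
    rw [Nat.sub_sub_self h4] at h5
    exact hl.one_lt.ne' (Nat.dvd_one.1 h5)
  · exact hl2 _ r hr hc j hj1 hj2 h2

/-! ### transport to `Fin n` -/

section Transport

variable {ι κ : Type} [Fintype ι] [DecidableEq ι] [Fintype κ] [DecidableEq κ] {F : Type u} [Field F]

/-- reindexing of the vectors -/
def vecEquiv (F : Type u) [Field F] (e : ι ≃ κ) : (ι → F) ≃ₗ[F] (κ → F) := LinearEquiv.funCongrLeft F F e.symm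

theorem vecEquiv_mulVec (e : ι ≃ κ) (M : Matrix ι ι F) (v : ι → F) :
    vecEquiv F e (M *ᵥ v) = (Matrix.reindexAlgEquiv F F e M) *ᵥ vecEquiv F e v := by
  ext i
  simp only [vecEquiv, LinearEquiv.funCongrLeft_apply, LinearMap.funLeft_apply, Matrix.mulVec, dotProduct,
    Matrix.coe_reindexAlgEquiv, Matrix.reindex_apply, Matrix.submatrix_apply]
  exact (Equiv.sum_comp e.symm (fun j => M (e.symm i) j * v j)).symm

theorem glReindex_coe (e : ι ≃ κ) (x : GL ι F) :
    ((glReindex e x : GL κ F) : Matrix κ κ F) = Matrix.reindexAlgEquiv F F e (x : Matrix ι ι F) := rfl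

theorem vecEquiv_gl (e : ι ≃ κ) (x : GL ι F) (v : ι → F) :
    vecEquiv F e ((x : Matrix ι ι F) *ᵥ v) = ((glReindex e x : GL κ F) : Matrix κ κ F) *ᵥ vecEquiv F e v := by
  rw [glReindex_coe, vecEquiv_mulVec]

theorem det_glReindex (e : ι ≃ κ) (x : GL ι F) :
    Matrix.GeneralLinearGroup.det (glReindex e x : GL κ F) = Matrix.GeneralLinearGroup.det x := by
  apply Units.ext
  change Matrix.det (Matrix.reindexAlgEquiv F F e (x : Matrix ι ι F)) = Matrix.det (x : Matrix ι ι F)
  exact Matrix.det_reindexAlgEquiv F F e _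

theorem mem_of_map {e : ι ≃ κ} {H : Subgroup (GL ι F)} {x : GL ι F}
    (h : (glReindex e x : GL κ F) ∈ H.map (glReindex (F := F) e).toMonoidHom) : x ∈ H := by
  obtain ⟨y, hy, hyx⟩ := h
  have : y = x := (glReindex (F := F) e).injective hyx
  rwa [← this]

theorem irr_transport (e : ι ≃ κ) {H : Subgroup (GL ι F)} (hirr : ¬ Red H) :
    ActsIrreducibly (matrixSet (H.map (glReindex (F := F) e).toMonoidHom)) := by
  intro W hW
  by_contra hcon
  rw [not_or] at hcon
  apply hirr
  have key : ∀ h ∈ H, ∀ w ∈ W, ((glReindex e h : GL κ F) : Matrix κ κ F) *ᵥ w ∈ W := by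
    intro h hh w hw
    have := hW ((glReindex e h : GL κ F) : Matrix κ κ F) ⟨glReindex e h, ⟨h, hh, rfl⟩, rfl⟩
    have h2 := this (Submodule.mem_map_of_mem hw)
    rwa [Matrix.toLin'_apply] at h2
  refine ⟨W.comap (vecEquiv F e).toLinearMap, ?_, ?_, ?_⟩
  · intro h0
    apply hcon.1
    rw [eq_bot_iff]
    intro w hw
    have h1 : (vecEquiv F e).symm w ∈ W.comap (vecEquiv F e).toLinearMap := by
      change vecEquiv F e ((vecEquiv F e).symm w) ∈ W
      rwa [LinearEquiv.apply_symm_apply]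
    rw [h0, Submodule.mem_bot] at h1
    rw [Submodule.mem_bot]
    simpa using h1
  · intro h0
    apply hcon.2
    rw [eq_top_iff]
    intro w _
    have h1 : (vecEquiv F e).symm w ∈ W.comap (vecEquiv F e).toLinearMap := by rw [h0]; trivial
    have h2 : vecEquiv F e ((vecEquiv F e).symm w) ∈ W := h1
    rwa [LinearEquiv.apply_symm_apply] at h2
  · intro h hh v
    change vecEquiv F e v ∈ W ↔ vecEquiv F e ((h : Matrix ι ι F) *ᵥ v) ∈ W
    rw [vecEquiv_gl]
    refine ⟨fun h1 => key h hh _ h1, fun h1 => ?_⟩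
    have h2 := key h⁻¹ (H.inv_mem hh) _ h1
    rwa [Matrix.mulVec_mulVec, ← Units.val_mul, ← map_mul, inv_mul_cancel, map_one, Units.val_one,
      Matrix.one_mulVec] at h2

theorem ext_transport (e : ι ≃ κ) {H : Subgroup (GL ι F)} {r : ℕ} {E : Subalgebra F (Matrix κ κ F)}
    (hE : IsFieldSubalgebra r E) (hH : H.map (glReindex (F := F) e).toMonoidHom ≤ subalgebraNormalizer E) :
    ∃ E' : Subalgebra F (Matrix ι ι F), IsFieldSubalgebra r E' ∧ H ≤ subalgebraNormalizer E' := by
  set φ := Matrix.reindexAlgEquiv F F e with hφ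
  have hmem : ∀ x, x ∈ E.comap φ.toAlgHom ↔ φ x ∈ E := fun x => Iff.rfl
  refine ⟨E.comap φ.toAlgHom, ⟨?_, ?_, ?_⟩, ?_⟩
  · intro x hx y hy
    have := hE.comm _ ((hmem x).1 hx) _ ((hmem y).1 hy)
    rw [← map_mul, ← map_mul] at this
    exact φ.injective this
  · intro x hx hx0
    obtain ⟨y, hy, hxy⟩ := hE.inv _ ((hmem x).1 hx) (by simpa using hx0)
    refine ⟨φ.symm y, by rw [hmem, AlgEquiv.apply_symm_apply]; exact hy, ?_⟩
    apply φ.injective
    rw [map_mul, AlgEquiv.apply_symm_apply, hxy, map_one]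
  · rw [← hE.finrank_eq]
    have h2 := LinearEquiv.finrank_map_eq φ.toLinearEquiv (E.comap φ.toAlgHom).toSubmodule
    have h1 : Submodule.map (φ.toLinearEquiv : Matrix ι ι F →ₗ[F] Matrix κ κ F)
        (E.comap φ.toAlgHom).toSubmodule = E.toSubmodule := by
      ext x
      constructor
      · rintro ⟨y, hy, rfl⟩
        exact hy
      · intro hx
        exact ⟨φ.symm x, by change φ (φ.symm x) ∈ E; rw [AlgEquiv.apply_symm_apply]; exact hx,
          φ.apply_symm_apply x⟩
    rw [h1] at h2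
    exact h2.symm
  · intro h hh k
    have h1 := hH ⟨h, hh, rfl⟩ (φ k)
    rw [hmem, hmem]
    refine h1.trans ?_
    rw [map_mul, map_mul]
    rfl

theorem sl_transport (e : ι ≃ κ) {H : Subgroup (GL ι F)}
    (hH : specialLinear κ F ≤ H.map (glReindex (F := F) e).toMonoidHom) : specialLinear ι F ≤ H := by
  intro x hx
  apply mem_of_map (e := e)
  apply hH
  have hx' : Matrix.GeneralLinearGroup.det x = 1 := hx
  change Matrix.GeneralLinearGroup.det (glReindex e x : GL κ F) = 1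
  rw [det_glReindex, hx']

omit [Fintype ι] [DecidableEq ι] [Fintype κ] [DecidableEq κ] in
theorem nondeg_transport (e : ι ≃ κ) {f : (κ → F) → (κ → F) → F} (hf : IsNondegenerateForm f) :
    IsNondegenerateForm (fun u v : ι → F => f (vecEquiv F e u) (vecEquiv F e v)) := by
  intro v hv
  obtain ⟨⟨x, hx⟩, ⟨y, hy⟩⟩ := hf (vecEquiv F e v) (by simpa using hv)
  exact ⟨⟨(vecEquiv F e).symm x, by simpa using hx⟩, ⟨(vecEquiv F e).symm y, by simpa using hy⟩⟩

omit [Fintype ι] [DecidableEq ι] [Fintype κ] [DecidableEq κ] in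
theorem bilin_transport (e : ι ≃ κ) {f : (κ → F) → (κ → F) → F} (hf : IsBilinearForm f) :
    IsBilinearForm (fun u v : ι → F => f (vecEquiv F e u) (vecEquiv F e v)) := by
  refine ⟨fun x y v => ?_, fun c x v => ?_, fun v x y => ?_, fun c v x => ?_⟩
  · simp only [map_add, hf.add_left]
  · simp only [map_smul, hf.smul_left]
  · simp only [map_add, hf.add_right]
  · simp only [map_smul, hf.smul_right]

omit [Fintype ι] [DecidableEq ι] [Fintype κ] [DecidableEq κ] in
theorem symp_transport (e : ι ≃ κ) {f : (κ → F) → (κ → F) → F} (hf : IsSymplecticForm f) :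
    IsSymplecticForm (fun u v : ι → F => f (vecEquiv F e u) (vecEquiv F e v)) :=
  ⟨bilin_transport e hf.bilinear, fun _ _ => hf.skew _ _, fun _ => hf.alternating _,
    nondeg_transport e hf.nondegenerate⟩

omit [Fintype ι] [DecidableEq ι] [Fintype κ] [DecidableEq κ] in
theorem unitary_transport (e : ι ≃ κ) {τ : F ≃+* F} {f : (κ → F) → (κ → F) → F} (hf : IsUnitaryForm τ f) :
    IsUnitaryForm τ (fun u v : ι → F => f (vecEquiv F e u) (vecEquiv F e v)) := by
  refine ⟨hf.ne_refl, hf.involutive, fun x y v => ?_, fun c x v => ?_, fun _ _ => hf.herm _ _,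
    nondeg_transport e hf.nondegenerate⟩
  · simp only [map_add, hf.add_left]
  · simp only [map_smul, hf.smul_left]

theorem fixes_transport (e : ι ≃ κ) {f : (κ → F) → (κ → F) → F} {x : GL ι F}
    (hx : FixesForm {(x : Matrix ι ι F)} (fun u v : ι → F => f (vecEquiv F e u) (vecEquiv F e v))) :
    FixesForm {((glReindex e x : GL κ F) : Matrix κ κ F)} f := by
  rintro _ rfl u v
  have h := hx (x : Matrix ι ι F) rfl ((vecEquiv F e).symm u) ((vecEquiv F e).symm v)
  simpa only [vecEquiv_gl, LinearEquiv.apply_symm_apply] using h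

omit [Fintype ι] [DecidableEq ι] [Fintype κ] [DecidableEq κ] in
theorem quad_transport (e : ι ≃ κ) {Q : (κ → F) → F} (hQ : IsNondegenerateQuadraticForm Q) :
    IsNondegenerateQuadraticForm (fun v : ι → F => Q (vecEquiv F e v)) := by
  have hp : QuadraticMap.polar (fun v : ι → F => Q (vecEquiv F e v)) =
      fun u v : ι → F => QuadraticMap.polar Q (vecEquiv F e u) (vecEquiv F e v) := by
    funext u v
    simp only [QuadraticMap.polar, map_add]
  refine ⟨fun c v => ?_, ?_, ?_⟩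
  · simp only [map_smul, hQ.smul]
  · rw [hp]; exact bilin_transport e hQ.polar_bilinear
  · rw [hp]; exact nondeg_transport e hQ.nondegenerate

/-- `Ω` as a commutator subgroup in `GL` -/
theorem omegaGL_eq (Q : (ι → F) → F) : omegaGL Q = ⁅isometryGroup F Q, isometryGroup F Q⁆ := by
  unfold omegaGL Omega
  exact Subgroup.map_subtype_commutator _

theorem omega_transport (e : ι ≃ κ) {Q : (κ → F) → F} {H : Subgroup (GL ι F)}
    (hH : omegaGL Q ≤ H.map (glReindex (F := F) e).toMonoidHom) :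
    omegaGL (fun v : ι → F => Q (vecEquiv F e v)) ≤ H := by
  have h1 : (isometryGroup F (fun v : ι → F => Q (vecEquiv F e v))).map (glReindex (F := F) e).toMonoidHom ≤
      isometryGroup F Q := by
    rintro _ ⟨x, hx, rfl⟩ v w
    have h := hx ((vecEquiv F e).symm v) ((vecEquiv F e).symm w)
    change Q (vecEquiv F e ((x : Matrix ι ι F) *ᵥ (vecEquiv F e).symm v)) = Q (vecEquiv F e ((vecEquiv F e).symm v)) at h
    rw [vecEquiv_gl, LinearEquiv.apply_symm_apply] at h
    exact h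
  intro x hx
  apply mem_of_map (e := e)
  apply hH
  rw [omegaGL_eq] at hx ⊢
  have h2 := Subgroup.mem_map_of_mem (glReindex (F := F) e).toMonoidHom hx
  rw [Subgroup.map_commutator] at h2
  exact Subgroup.commutator_mono h1 h1 h2

end Transport

/-! ### the core -/

/-- **the common core of OG-Sp, OG-SU, OG-O** -/
theorem core (hP : S5948Stmt.{u}) {ι : Type} [Fintype ι] [DecidableEq ι] {F : Type u} [Field F] [Fintype F] {k : ℕ}
    {H : Subgroup (GL ι F)} {g : GL ι F} (hg : g ∈ H)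
    (hnum : Num (Fintype.card F) (Fintype.card ι) k (orderOf g)) (hirr : ¬ Red H) :
    Ext (Nat.gcd (Fintype.card ι) k) H ∨
    specialLinear ι F ≤ H ∨
    (∃ f : (ι → F) → (ι → F) → F, IsSymplecticForm f ∧
        ∀ x : GL ι F, FixesForm {(x : Matrix ι ι F)} f → x ∈ H) ∨
    (∃ (τ : F ≃+* F) (f : (ι → F) → (ι → F) → F), IsUnitaryForm τ f ∧
        ∀ x : GL ι F, FixesForm {(x : Matrix ι ι F)} f → Matrix.GeneralLinearGroup.det x = 1 → x ∈ H) ∨
    (∃ Q : (ι → F) → F, IsNondegenerateQuadraticForm Q ∧ omegaGL Q ≤ H) := by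
  set e : ι ≃ Fin (Fintype.card ι) := Fintype.equivFin ι with he
  set H' := H.map (glReindex (F := F) e).toMonoidHom with hH'
  have hg' : glReindex e g ∈ H' := ⟨g, hg, rfl⟩
  have ho : orderOf (glReindex e g : GL (Fin (Fintype.card ι)) F) = orderOf g := MulEquiv.orderOf_eq _ g
  rcases hP rfl (Fintype.card ι) k hnum.ten hnum.lt (glReindex e g) (by rw [ho]; exact hnum.big)
    (by rw [ho]; exact hnum.dvd) (by rw [ho]; exact hnum.prim) H' hg' (irr_transport e hirr) with
    ⟨F₀, r, P, hr, hc, hle⟩ | ⟨r, E, hr, hd, hE, hle⟩ | h | ⟨f, hf, h⟩ | ⟨τ, f, hf, h⟩ | ⟨Q, hQ, h⟩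
  · exact (not_subfield hnum hg' ho hr hc hle).elim
  · obtain ⟨E', hE', hle'⟩ := ext_transport e hE hle
    exact Or.inl ⟨r, E', hr, hd, hE', hle'⟩
  · exact Or.inr (Or.inl (sl_transport e h))
  · exact Or.inr (Or.inr (Or.inl ⟨_, symp_transport e hf, fun x hx => mem_of_map (e := e) (h _ (fixes_transport e hx))⟩))
  · exact Or.inr (Or.inr (Or.inr (Or.inl ⟨τ, _, unitary_transport e hf, fun x hx hd =>
      mem_of_map (e := e) (h _ (fixes_transport e hx) (by rw [det_glReindex]; exact hd))⟩)))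
  · exact Or.inr (Or.inr (Or.inr (Or.inr ⟨_, quad_transport e hQ, omega_transport e h⟩)))

end Cfsg.Agent.H659.CovCore
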