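import Mathlib

/-!
# Groups with bounded conjugacy classes

* `card_commutatorSet_le`, `exists_card_commutator_le` : (B. H. Neumann, Wiegold) if all conjugacy
  classes of a finite group have at most `B` elements, then the derived subgroup has order bounded
  by a function of `B`.
* `exists_bounded_by_abelian` : (P. M. Neumann) if at least `|G| / c` elements of `G` have at most
  `b` conjugates, then `G` has a normal subgroup `H` with `|G : H|` and `|H'|` bounded.
-/

set_option autoImplicit false

namespace Cfsg.Agent.H659.BFC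

open Subgroup
open scoped Pointwise commutatorElement

theorem ncard_conjugatesOf {G : Type*} [Group G] (g : G) :
    (conjugatesOf g).ncard = (centralizer ({g} : Set G)).index := by
  rw [Subgroup.centralizer_eq_comap_stabilizer]
  refine Eq.symm ((Subgroup.index_comap_of_surjective (MulAction.stabilizer (ConjAct G) g)
    (f := (ConjAct.toConjAct (G := G)).toMonoidHom) (MulEquiv.surjective _)).trans ?_)
  rw [MulAction.index_stabilizer, ConjAct.orbit_eq_carrier_conjClasses]
  rfl

section BFC

variable {H : Type*} [Group H] [Finite H]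

theorem card_commutatorSet_le (B : ℕ) (hB : ∀ h : H, (centralizer ({h} : Set H)).index ≤ B) :
    Nat.card (commutatorSet H) ≤ B ^ B * (B * B * B) := by
  classical
  have := Fintype.ofFinite H
  obtain ⟨a, ha⟩ := Finite.exists_max (fun a : H => (centralizer ({a} : Set H)).index)
  set b := (centralizer ({a} : Set H)).index with hb
  have hbB : b ≤ B := hB a
  have hBpos : 0 < B := by
    have : 0 < (centralizer ({a} : Set H)).index := Nat.pos_of_ne_zero Subgroup.index_ne_zero_of_finite
    omega
  have hcl : (conjugatesOf a).ncard = b := ncard_conjugatesOf a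
  have hex : ∀ w : conjugatesOf a, ∃ g : H, g * a * g⁻¹ = w := fun w => isConj_iff.1 w.2
  choose g hg using hex
  have : Fintype (conjugatesOf a) := Fintype.ofFinite _
  set C : Subgroup H := ⨅ w : conjugatesOf a, centralizer ({g w} : Set H) with hC
  have hCidx : C.index ≤ B ^ B := by
    refine (Subgroup.index_iInf_le _).trans ?_
    calc ∏ w : conjugatesOf a, (centralizer ({g w} : Set H)).index
        ≤ ∏ _w : conjugatesOf a, B := Finset.prod_le_prod' fun w _ => hB _
      _ = B ^ b := by
          rw [Finset.prod_const, Finset.card_univ, ← Nat.card_eq_fintype_card, ← hcl]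
          rfl
      _ ≤ B ^ B := Nat.pow_le_pow_right hBpos hbB
  set T : Set H := Set.image2 (fun w w' => w * w'⁻¹) (conjugatesOf a) (conjugatesOf a) with hT
  have hkey : ∀ c ∈ C, ∀ h : H, c⁻¹ * (h * c * h⁻¹) ∈ T := by
    intro c hc h
    have hcg : ∀ w, g w * c = c * g w := by
      intro w
      rw [hC, Subgroup.mem_iInf] at hc
      exact (mem_centralizer_singleton_iff.1 (hc w)).symm
    have hsub : (fun w => c * w) '' (conjugatesOf a) ⊆ conjugatesOf (c * a) := by
      rintro _ ⟨w, hw, rfl⟩
      refine isConj_iff.2 ⟨g ⟨w, hw⟩, ?_⟩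
      have h1 := hg ⟨w, hw⟩
      simp only at h1
      have h2 := hcg ⟨w, hw⟩
      calc g ⟨w, hw⟩ * (c * a) * (g ⟨w, hw⟩)⁻¹ = (g ⟨w, hw⟩ * c) * a * (g ⟨w, hw⟩)⁻¹ := by group
        _ = c * (g ⟨w, hw⟩ * a * (g ⟨w, hw⟩)⁻¹) := by rw [h2]; group
        _ = c * w := by rw [h1]
    have heq := Set.eq_of_subset_of_ncard_le hsub (by
      rw [Set.ncard_image_of_injective _ (mul_right_injective c), hcl, ncard_conjugatesOf]
      exact ha (c * a))
    have hmem : h * (c * a) * h⁻¹ ∈ conjugatesOf (c * a) := isConj_iff.2 ⟨h, rfl⟩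
    rw [← heq] at hmem
    obtain ⟨w, hw, hw'⟩ := hmem
    refine ⟨w, hw, h * a * h⁻¹, isConj_iff.2 ⟨h, rfl⟩, ?_⟩
    simp only at hw' ⊢
    have : w = c⁻¹ * (h * (c * a) * h⁻¹) := by rw [← hw']; group
    rw [this]
    group
  have hTcard : T.toFinset.card ≤ B * B := by
    have : T.toFinset = Finset.image₂ (fun w w' => w * w'⁻¹) (conjugatesOf a).toFinset
        (conjugatesOf a).toFinset := by
      ext x
      simp [hT]
    rw [this]
    refine (Finset.card_image₂_le _ _ _).trans ?_
    rw [← Set.ncard_eq_toFinset_card', hcl]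
    exact Nat.mul_le_mul hbB hbB
  have hcover : (commutatorSet H).toFinset ⊆ (Finset.univ : Finset (H ⧸ C)).biUnion
      (fun q => Finset.image₂ (fun t v => q.out * t * (q.out)⁻¹ * (q.out * v)) T.toFinset
        (conjugatesOf (q.out)⁻¹).toFinset) := by
    intro y hy
    rw [Set.mem_toFinset] at hy
    obtain ⟨x, z, rfl⟩ := hy
    rw [Finset.mem_biUnion]
    refine ⟨(x : H ⧸ C), Finset.mem_univ _, ?_⟩
    set s := (x : H ⧸ C).out with hs
    have hsx : s⁻¹ * x ∈ C := by
      rw [← QuotientGroup.eq, hs]
      exact Quotient.out_eq' _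
    rw [Finset.mem_image₂]
    refine ⟨((s⁻¹ * x)⁻¹)⁻¹ * (z * (s⁻¹ * x)⁻¹ * z⁻¹), ?_, z * s⁻¹ * z⁻¹, ?_, ?_⟩
    · rw [Set.mem_toFinset]
      exact hkey _ (C.inv_mem hsx) z
    · rw [Set.mem_toFinset]
      exact isConj_iff.2 ⟨z, rfl⟩
    · rw [commutatorElement_def]
      group
  have h1 := (Finset.card_le_card hcover).trans (Finset.card_biUnion_le_card_mul _ _ (B * B * B)
    (fun q _ => by
      refine (Finset.card_image₂_le _ _ _).trans ?_
      refine Nat.mul_le_mul hTcard ?_
      rw [← Set.ncard_eq_toFinset_card', ncard_conjugatesOf]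
      exact hB _))
  rw [Finset.card_univ, ← Nat.card_eq_fintype_card] at h1
  have h2 : Nat.card (commutatorSet H) = (commutatorSet H).toFinset.card := by
    rw [Nat.card_eq_fintype_card, Set.toFinset_card]
  rw [h2]
  exact h1.trans (Nat.mul_le_mul_right _ hCidx)

theorem exists_card_commutator_le (B : ℕ) : ∃ D : ℕ, ∀ (H : Type*) [Group H] [Finite H],
    (∀ h : H, (centralizer ({h} : Set H)).index ≤ B) → Nat.card (commutator H) ≤ D := by
  refine ⟨∑ j ∈ Finset.range (B ^ B * (B * B * B) + 1), cardCommutatorBound j,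
    fun H _ _ hB => ?_⟩
  refine (card_commutator_le_of_finite_commutatorSet H).trans ?_
  exact Finset.single_le_sum (f := cardCommutatorBound) (fun _ _ => Nat.zero_le _)
    (Finset.mem_range.2 (Nat.lt_succ_of_le (card_commutatorSet_le B hB)))

end BFC

section Pow

variable {G : Type*} [Group G] [Finite G]

omit [Finite G] in
/-- If the powers of a symmetric set containing `1` stabilise at `k ≥ 1`, then `X ^ k` is the
subgroup generated by `X`. -/
theorem closure_eq_of_stable (X : Set G) (h1 : (1 : G) ∈ X) (hinv : X⁻¹ = X) (k : ℕ) (hk : 1 ≤ k)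
    (hst : X ^ (k + 1) = X ^ k) : (closure X : Set G) = X ^ k := by
  have hall : ∀ j, X ^ (k + j) = X ^ k := by
    intro j
    induction j with
    | zero => rfl
    | succ j ih => rw [← add_assoc, pow_succ, ih, ← pow_succ, hst]
  apply Set.Subset.antisymm
  · intro x hx
    refine closure_induction (p := fun x _ => x ∈ X ^ k) ?_ ?_ ?_ ?_ hx
    · intro y hy
      exact Set.pow_subset_pow_right h1 hk (by rwa [pow_one])
    · exact Set.one_mem_pow h1
    · intro y z _ _ hy hz
      have : y * z ∈ X ^ (k + k) := by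
        rw [pow_add]
        exact Set.mul_mem_mul hy hz
      rwa [hall k] at this
    · intro y _ hy
      have : y⁻¹ ∈ (X ^ k)⁻¹ := Set.inv_mem_inv.2 hy
      rwa [← inv_pow, hinv] at this
  · have : ∀ j, X ^ j ⊆ (closure X : Set G) := by
      intro j
      induction j with
      | zero =>
        rw [pow_zero]
        intro x hx
        rw [Set.mem_one] at hx
        rw [hx]
        exact one_mem _
      | succ j ih =>
        rw [pow_succ]
        rintro _ ⟨y, hy, z, hz, rfl⟩
        exact mul_mem (ih hy) (subset_closure hz)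
    exact this k

/-- **Bounded generation**: a symmetric set `X` containing `1` with at least `|G| / c` elements
generates its subgroup in `3 c + 1` steps. -/
theorem closure_eq_pow (X : Set G) (h1 : (1 : G) ∈ X) (hinv : X⁻¹ = X) (c : ℕ)
    (hc : Nat.card G ≤ c * X.ncard) : (closure X : Set G) = X ^ (3 * c + 1) := by
  by_contra hne
  -- no stabilisation up to `3 c + 1`
  have hns : ∀ k, 1 ≤ k → k ≤ 3 * c + 1 → X ^ (k + 1) ≠ X ^ k := by
    intro k hk1 hk2 hst
    apply hne
    have h2 := closure_eq_of_stable X h1 hinv k hk1 hst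
    rw [h2]
    have hall : ∀ j, X ^ (k + j) = X ^ k := by
      intro j
      induction j with
      | zero => rfl
      | succ j ih => rw [← add_assoc, pow_succ, ih, ← pow_succ, hst]
    obtain ⟨j, hj⟩ := Nat.exists_eq_add_of_le hk2
    rw [hj, hall j]
  have hgrow : ∀ j, j ≤ c → (j + 1) * X.ncard ≤ (X ^ (3 * j + 1)).ncard := by
    intro j
    induction j with
    | zero =>
      intro _
      simp
    | succ j ih =>
      intro hj
      have h2 := ih (by omega)
      have h3 := hns (3 * j + 2) (by omega) (by omega)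
      have h4 : X ^ (3 * j + 2) ⊆ X ^ (3 * j + 2 + 1) := Set.pow_subset_pow_right h1 (by omega)
      obtain ⟨g, hg, hg'⟩ := Set.exists_of_ssubset (h4.ssubset_of_ne h3.symm)
      have hdisj : Disjoint (X ^ (3 * j + 1)) ((fun x => g * x) '' X) := by
        rw [Set.disjoint_left]
        rintro _ hy ⟨x, hx, rfl⟩
        apply hg'
        have hx' : x⁻¹ ∈ X := by
          rw [← hinv]
          exact Set.inv_mem_inv.2 hx
        have := Set.mul_mem_mul hy hx'
        rw [← pow_succ] at this
        simpa using this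
      have hsub : X ^ (3 * j + 1) ∪ (fun x => g * x) '' X ⊆ X ^ (3 * (j + 1) + 1) := by
        apply Set.union_subset
        · exact Set.pow_subset_pow_right h1 (by omega)
        · rintro _ ⟨x, hx, rfl⟩
          have := Set.mul_mem_mul hg hx
          rw [← pow_succ] at this
          exact this
      have h5 := Set.ncard_le_ncard hsub (Set.toFinite _)
      rw [Set.ncard_union_eq hdisj (Set.toFinite _) (Set.toFinite _),
        Set.ncard_image_of_injective _ (mul_right_injective g)] at h5
      calc (j + 1 + 1) * X.ncard = (j + 1) * X.ncard + X.ncard := by ring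
        _ ≤ _ := by omega
  have h2 := hgrow c le_rfl
  have h3 : (X ^ (3 * c + 1)).ncard ≤ Nat.card G := by
    rw [← Set.ncard_univ]
    exact Set.ncard_le_ncard (Set.subset_univ _) (Set.toFinite _)
  have h4 : 0 < X.ncard := (Set.ncard_pos (Set.toFinite _)).2 ⟨1, h1⟩
  have h5 : (c + 1) * X.ncard = c * X.ncard + X.ncard := by ring
  omega

theorem index_centralizer_le_of_mem_pow (b : ℕ) (k : ℕ) (g : G)
    (hg : g ∈ {x : G | (centralizer ({x} : Set G)).index ≤ b} ^ k) :
    (centralizer ({g} : Set G)).index ≤ b ^ k := by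
  induction k generalizing g with
  | zero =>
    rw [pow_zero, Set.mem_one] at hg
    rw [hg, pow_zero]
    have : centralizer ({(1 : G)} : Set G) = ⊤ := by
      rw [eq_top_iff]
      intro x _
      rw [mem_centralizer_singleton_iff]
      simp
    rw [this, index_top]
  | succ k ih =>
    rw [pow_succ] at hg
    obtain ⟨y, hy, z, hz, rfl⟩ := hg
    have h1 := ih y hy
    have h2 : centralizer ({y} : Set G) ⊓ centralizer ({z} : Set G) ≤ centralizer ({y * z} : Set G) := by
      intro x hx
      have hx1 := mem_centralizer_singleton_iff.1 hx.1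
      have hx2 := mem_centralizer_singleton_iff.1 hx.2
      rw [mem_centralizer_singleton_iff]
      calc x * (y * z) = (x * y) * z := by group
        _ = y * (x * z) := by rw [hx1]; group
        _ = y * z * x := by rw [hx2]; group
    calc (centralizer ({y * z} : Set G)).index
        ≤ (centralizer ({y} : Set G) ⊓ centralizer ({z} : Set G)).index :=
          Nat.le_of_dvd (Nat.pos_of_ne_zero Subgroup.index_ne_zero_of_finite)
            (Subgroup.index_dvd_of_le h2)
      _ ≤ (centralizer ({y} : Set G)).index * (centralizer ({z} : Set G)).index := index_inf_le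
      _ ≤ b ^ k * b := Nat.mul_le_mul h1 hz
      _ = b ^ (k + 1) := (pow_succ _ _).symm

end Pow

/-- (P. M. Neumann) If at least `|G| / c` elements of `G` have at most `b` conjugates, then `G` has
a normal subgroup `H` with `|G : H| ≤ c` and `|H'|` bounded in terms of `b` and `c`. -/
theorem exists_bounded_by_abelian (b c : ℕ) : ∃ D : ℕ, ∀ (G : Type*) [Group G] [Finite G],
    Nat.card G ≤ c * {x : G | (centralizer ({x} : Set G)).index ≤ b}.ncard →
    ∃ H : Subgroup G, H.Normal ∧ H.index ≤ c ∧ Nat.card (commutator H) ≤ D := by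
  obtain ⟨D, hD⟩ := exists_card_commutator_le (b ^ (3 * c + 1))
  refine ⟨D, fun G _ _ hc => ?_⟩
  set X := {x : G | (centralizer ({x} : Set G)).index ≤ b} with hX
  have hG : 0 < Nat.card G := Nat.card_pos
  have hXpos : 0 < X.ncard := by
    rcases Nat.eq_zero_or_pos X.ncard with h | h
    · rw [h, mul_zero] at hc
      omega
    · exact h
  have hb : 1 ≤ b := by
    obtain ⟨x, hx⟩ := (Set.ncard_pos (Set.toFinite _)).1 hXpos
    have : 0 < (centralizer ({x} : Set G)).index :=
      Nat.pos_of_ne_zero Subgroup.index_ne_zero_of_finite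
    have hx' : (centralizer ({x} : Set G)).index ≤ b := hx
    omega
  have hconj : ∀ x ∈ X, ∀ g : G, g * x * g⁻¹ ∈ X := by
    intro x hx g
    have h1 : (centralizer ({g * x * g⁻¹} : Set G)).index = (centralizer ({x} : Set G)).index := by
      rw [← ncard_conjugatesOf, ← ncard_conjugatesOf]
      congr 1
      exact ((isConj_iff.2 ⟨g, rfl⟩ : IsConj x (g * x * g⁻¹)).conjugatesOf_eq).symm
    change (centralizer ({g * x * g⁻¹} : Set G)).index ≤ b
    rw [h1]
    exact hx
  have h1X : (1 : G) ∈ X := by
    change (centralizer ({(1 : G)} : Set G)).index ≤ b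
    have : centralizer ({(1 : G)} : Set G) = ⊤ := by
      rw [eq_top_iff]
      intro x _
      rw [mem_centralizer_singleton_iff]
      simp
    rw [this, index_top]
    exact hb
  have hcinv : ∀ x : G, centralizer ({x⁻¹} : Set G) = centralizer ({x} : Set G) := by
    intro x
    ext y
    rw [mem_centralizer_singleton_iff, mem_centralizer_singleton_iff]
    constructor
    · intro h
      calc y * x = x * (x⁻¹ * y) * x := by group
        _ = x * (y * x⁻¹) * x := by rw [h]
        _ = x * y := by group
    · intro h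
      calc y * x⁻¹ = x⁻¹ * (x * y) * x⁻¹ := by group
        _ = x⁻¹ * (y * x) * x⁻¹ := by rw [h]
        _ = x⁻¹ * y := by group
  have hinv : X⁻¹ = X := by
    ext x
    rw [Set.mem_inv]
    change (centralizer ({x⁻¹} : Set G)).index ≤ b ↔ (centralizer ({x} : Set G)).index ≤ b
    rw [hcinv]
  have hcl := closure_eq_pow X h1X hinv c hc
  refine ⟨closure X, ?_, ?_, ?_⟩
  · refine ⟨fun n hn g => ?_⟩
    refine closure_induction (p := fun x _ => g * x * g⁻¹ ∈ closure X) ?_ ?_ ?_ ?_ hn
    · intro x hx
      exact subset_closure (hconj x hx g)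
    · simp
    · intro x y _ _ hx hy
      have : g * (x * y) * g⁻¹ = (g * x * g⁻¹) * (g * y * g⁻¹) := by group
      rw [this]
      exact mul_mem hx hy
    · intro x _ hx
      have : g * x⁻¹ * g⁻¹ = (g * x * g⁻¹)⁻¹ := by group
      rw [this]
      exact inv_mem hx
  · have h2 := (closure X).card_mul_index
    have h3 : X.ncard ≤ Nat.card (closure X) := Set.ncard_le_ncard subset_closure (Set.toFinite _)
    have h4 : 0 < Nat.card (closure X) := Nat.card_pos
    have h5 : Nat.card (closure X) * (closure X).index ≤ Nat.card (closure X) * c := by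
      rw [h2]
      calc Nat.card G ≤ c * X.ncard := hc
        _ ≤ c * Nat.card (closure X) := Nat.mul_le_mul_left _ h3
        _ = _ := mul_comm _ _
    exact Nat.le_of_mul_le_mul_left h5 h4
  · apply hD
    intro h
    have h2 : (h : G) ∈ X ^ (3 * c + 1) := by
      rw [← hcl]
      exact h.2
    refine le_trans ?_ (index_centralizer_le_of_mem_pow b (3 * c + 1) (h : G) h2)
    rw [← ncard_conjugatesOf, ← ncard_conjugatesOf,
      ← Set.ncard_image_of_injective (conjugatesOf h) Subtype.val_injective]
    refine Set.ncard_le_ncard ?_ (Set.toFinite _)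
    rintro _ ⟨y, hy, rfl⟩
    obtain ⟨g, hg⟩ := isConj_iff.1 hy
    refine isConj_iff.2 ⟨g, ?_⟩
    rw [← hg]
    rfl

section Four

variable {G : Type*} [Group G] [Finite G]

/-- An abelian normal subgroup acted on by a four-group. -/
theorem card_abelian_le (A : Subgroup G) [A.Normal] (hA : ∀ a ∈ A, ∀ b ∈ A, a * b = b * a)
    (x y : G) (hx : x * x = 1) (hy : y * y = 1) (hxy : x * y = y * x) (m : ℕ)
    (hmx : Nat.card (centralizer ({x} : Set G)) ≤ m)
    (hmy : Nat.card (centralizer ({y} : Set G)) ≤ m)
    (hmxy : Nat.card (centralizer ({x * y} : Set G)) ≤ m) :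
    Nat.card A ≤ m ^ 4 := by
  classical
  have hxx : (x * y) * (x * y) = 1 := by
    calc (x * y) * (x * y) = x * (y * x) * y := by group
      _ = (x * x) * (y * y) := by rw [← hxy]; group
      _ = 1 := by rw [hx, hy, one_mul]
  -- `a ↦ a * (z a z⁻¹)` maps `A` into the centralizer of the involution `z`
  have key : ∀ z : G, z * z = 1 → ∀ a ∈ A, a * (z * a * z⁻¹) ∈ centralizer ({z} : Set G) := by
    intro z hz a ha
    have hzi : z⁻¹ = z := inv_eq_of_mul_eq_one_left hz
    have h1 : a * (z * a * z⁻¹) = (z * a * z⁻¹) * a :=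
      hA a ha _ (Subgroup.Normal.conj_mem inferInstance a ha z)
    rw [mem_centralizer_singleton_iff]
    calc a * (z * a * z⁻¹) * z = a * z * a := by group
      _ = z * z * a * z * a := by rw [hz, one_mul]
      _ = z * ((z * a * z⁻¹) * a) := by rw [hzi]; group
      _ = z * (a * (z * a * z⁻¹)) := by rw [h1]
  have hom : ∀ z : G, ∀ a ∈ A, ∀ b ∈ A,
      (a * b) * (z * (a * b) * z⁻¹) = (a * (z * a * z⁻¹)) * (b * (z * b * z⁻¹)) := by
    intro z a ha b hb
    have h1 := hA b hb _ (Subgroup.Normal.conj_mem (H := A) inferInstance a ha z)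
    calc (a * b) * (z * (a * b) * z⁻¹) = a * (b * (z * a * z⁻¹)) * (z * b * z⁻¹) := by group
      _ = (a * (z * a * z⁻¹)) * (b * (z * b * z⁻¹)) := by rw [h1]; group
  let φ : A →* (centralizer ({x} : Set G)) × (centralizer ({y} : Set G)) ×
      (centralizer ({x * y} : Set G)) := MonoidHom.mk'
    (fun a => (⟨_, key x hx a a.2⟩, ⟨_, key y hy a a.2⟩, ⟨_, key (x * y) hxx a a.2⟩))
    (by
      intro a b
      refine Prod.ext (Subtype.ext ?_) (Prod.ext (Subtype.ext ?_) (Subtype.ext ?_))
      · exact hom x a a.2 b b.2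
      · exact hom y a a.2 b b.2
      · exact hom (x * y) a a.2 b b.2)
  have hker : Nat.card φ.ker ≤ m := by
    refine le_trans ?_ hmx
    have hmem : ∀ a : φ.ker, ((a : A) : G) ∈ centralizer ({x} : Set G) := by
      rintro ⟨a, ha⟩
      have h0 := MonoidHom.mem_ker.1 ha
      have h1 : (a : G) * (x * a * x⁻¹) = 1 := congrArg (fun t => ((t.1 : _) : G)) h0
      have h2 : (a : G) * (y * a * y⁻¹) = 1 := congrArg (fun t => ((t.2.1 : _) : G)) h0
      have h3 : (a : G) * ((x * y) * a * (x * y)⁻¹) = 1 := congrArg (fun t => ((t.2.2 : _) : G)) h0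
      have h4 : x * (a : G) * x⁻¹ = (a : G)⁻¹ := (inv_eq_of_mul_eq_one_right h1).symm
      have h5 : y * (a : G) * y⁻¹ = (a : G)⁻¹ := (inv_eq_of_mul_eq_one_right h2).symm
      have h6 : (x * y) * (a : G) * (x * y)⁻¹ = (a : G) := by
        calc (x * y) * (a : G) * (x * y)⁻¹ = x * (y * a * y⁻¹) * x⁻¹ := by group
          _ = (x * a * x⁻¹)⁻¹ := by rw [h5]; group
          _ = a := by rw [h4, inv_inv]
      rw [h6] at h3
      have h7 : (a : G)⁻¹ = a := inv_eq_of_mul_eq_one_right h3
      rw [h7] at h4
      change (a : G) ∈ centralizer ({x} : Set G)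
      rw [mem_centralizer_singleton_iff]
      calc (a : G) * x = (x * a * x⁻¹) * x := by rw [h4]
        _ = x * a := by group
    refine Nat.card_le_card_of_injective
      (fun a : φ.ker => (⟨((a : A) : G), hmem a⟩ : centralizer ({x} : Set G))) ?_
    intro a b hab
    have h := congrArg (fun t : centralizer ({x} : Set G) => (t : G)) hab
    exact Subtype.ext (Subtype.ext h)
  have hrange : Nat.card φ.range ≤ m * (m * m) := by
    refine (Nat.card_le_card_of_injective (Subtype.val : φ.range → _)
      Subtype.val_injective).trans ?_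
    rw [Nat.card_prod, Nat.card_prod]
    exact Nat.mul_le_mul hmx (Nat.mul_le_mul hmy hmxy)
  have h1 : Nat.card A = Nat.card φ.ker * Nat.card φ.range := by
    rw [← Subgroup.card_mul_index φ.ker, Subgroup.index_ker]
  rw [h1]
  calc _ ≤ m * (m * (m * m)) := Nat.mul_le_mul hker hrange
    _ = m ^ 4 := by ring

/-- The centralizer of the image of `x` modulo a normal subgroup `D` is not larger than the
centralizer of `x`. -/
theorem card_centralizer_quotient_le (D : Subgroup G) [D.Normal] (x : G) :
    Nat.card (centralizer ({(x : G ⧸ D)} : Set (G ⧸ D))) ≤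
      Nat.card (centralizer ({x} : Set G)) := by
  have h1 : (conjugatesOf x).ncard ≤ Nat.card D * (conjugatesOf (x : G ⧸ D)).ncard := by
    have h2 := QuotientGroup.card_preimage_mk D (conjugatesOf (x : G ⧸ D))
    have h3 : (conjugatesOf x).ncard ≤
        ((QuotientGroup.mk : G → G ⧸ D) ⁻¹' (conjugatesOf (x : G ⧸ D))).ncard := by
      refine Set.ncard_le_ncard ?_ (Set.toFinite _)
      intro y hy
      obtain ⟨g, hg⟩ := isConj_iff.1 hy
      refine isConj_iff.2 ⟨(g : G ⧸ D), ?_⟩
      rw [← hg]
      rfl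
    exact h3.trans h2.le
  rw [ncard_conjugatesOf, ncard_conjugatesOf] at h1
  have h2 := (centralizer ({x} : Set G)).card_mul_index
  have h3 := (centralizer ({(x : G ⧸ D)} : Set (G ⧸ D))).card_mul_index
  have h4 := D.card_mul_index
  set i := (centralizer ({x} : Set G)).index
  set j := (centralizer ({(x : G ⧸ D)} : Set (G ⧸ D))).index
  set c := Nat.card (centralizer ({x} : Set G))
  set d := Nat.card (centralizer ({(x : G ⧸ D)} : Set (G ⧸ D)))
  have h5 : Nat.card (G ⧸ D) = D.index := rfl
  rw [h5] at h3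
  have hpos : 0 < Nat.card D * j :=
    Nat.mul_pos Nat.card_pos (Nat.pos_of_ne_zero Subgroup.index_ne_zero_of_finite)
  have h6 : Nat.card D * j * d ≤ Nat.card D * j * c := by
    calc Nat.card D * j * d = Nat.card D * (d * j) := by ring
      _ = c * i := by rw [h3, h4, h2]
      _ ≤ c * (Nat.card D * j) := Nat.mul_le_mul_left _ h1
      _ = Nat.card D * j * c := by ring
  exact Nat.le_of_mul_le_mul_left h6 hpos

/-- **Brauer–Fowler counting**: if `t` is an involution with `|C(t)| ≤ m` then at least
`|G| / (2 m ^ 2)` elements of `G` have at most `2 m ^ 2` conjugates. -/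
theorem brauer_fowler_count (t : G) (ht : t * t = 1) (m : ℕ)
    (hm : Nat.card (centralizer ({t} : Set G)) ≤ m) :
    Nat.card G ≤ 2 * m ^ 2 *
      {x : G | (centralizer ({x} : Set G)).index ≤ 2 * m ^ 2}.ncard := by
  classical
  have := Fintype.ofFinite G
  set X := {x : G | (centralizer ({x} : Set G)).index ≤ 2 * m ^ 2} with hX
  set I : Set G := conjugatesOf t with hI
  have hIcard : Nat.card G ≤ m * I.ncard := by
    rw [hI, ncard_conjugatesOf, ← (centralizer ({t} : Set G)).card_mul_index]
    exact Nat.mul_le_mul_right _ hm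
  have hI2 : ∀ u ∈ I, u * u = 1 := by
    intro u hu
    obtain ⟨g, rfl⟩ := isConj_iff.1 hu
    calc g * t * g⁻¹ * (g * t * g⁻¹) = g * (t * t) * g⁻¹ := by group
      _ = 1 := by rw [ht]; group
  -- the number of `u` inverting `z`
  set i : G → ℕ := fun z => {u : G | u ∈ I ∧ u * z * u⁻¹ = z⁻¹}.ncard with hi
  have hi1 : ∀ z, i z ≤ Nat.card (centralizer ({z} : Set G)) := by
    intro z
    by_cases hne : {u : G | u ∈ I ∧ u * z * u⁻¹ = z⁻¹}.Nonempty
    · obtain ⟨u₀, hu₀, hu₀'⟩ := hne
      have hsub : {u : G | u ∈ I ∧ u * z * u⁻¹ = z⁻¹} ⊆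
          (fun c => u₀ * c) '' (centralizer ({z} : Set G) : Set G) := by
        rintro u ⟨_, hu⟩
        refine ⟨u₀⁻¹ * u, ?_, by group⟩
        rw [SetLike.mem_coe, mem_centralizer_singleton_iff]
        calc u₀⁻¹ * u * z = u₀⁻¹ * (u * z * u⁻¹) * u := by group
          _ = u₀⁻¹ * (u₀ * z * u₀⁻¹) * u := by rw [hu, hu₀']
          _ = z * (u₀⁻¹ * u) := by group
      refine (Set.ncard_le_ncard hsub (Set.toFinite _)).trans ?_
      rw [Set.ncard_image_of_injective _ (mul_right_injective u₀)]
      rfl
    · rw [Set.not_nonempty_iff_eq_empty] at hne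
      simp only [hi]
      rw [hne, Set.ncard_empty]
      exact Nat.zero_le _
  have hi2 : ∀ z, i z ≤ Nat.card G := by
    intro z
    rw [← Set.ncard_univ]
    exact Set.ncard_le_ncard (Set.subset_univ _) (Set.toFinite _)
  -- the pairs
  have hpairs : I.ncard * I.ncard ≤ ∑ z : G, i z := by
    have h1 : I.ncard * I.ncard = (I ×ˢ I).ncard := (Set.ncard_prod).symm
    have h2 : (∑ z : G, i z) = Nat.card (Σ z : G, {u : G | u ∈ I ∧ u * z * u⁻¹ = z⁻¹}) := by
      rw [Nat.card_sigma]
      rfl
    rw [h1, h2]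
    refine Nat.card_le_card_of_injective
      (fun w : ↑(I ×ˢ I) => (⟨w.1.1 * w.1.2, ⟨w.1.1, w.2.1, ?_⟩⟩ :
        Σ z : G, {u : G | u ∈ I ∧ u * z * u⁻¹ = z⁻¹})) ?_
    · have h3 := hI2 _ w.2.1
      have h4 := hI2 _ w.2.2
      have h5 : (w.1.1)⁻¹ = w.1.1 := inv_eq_of_mul_eq_one_left h3
      have h6 : (w.1.2)⁻¹ = w.1.2 := inv_eq_of_mul_eq_one_left h4
      rw [mul_inv_rev, h5, h6]
      calc w.1.1 * (w.1.1 * w.1.2) * w.1.1 = (w.1.1 * w.1.1) * w.1.2 * w.1.1 := by group
        _ = w.1.2 * w.1.1 := by rw [h3, one_mul]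
    · intro w w' hww
      have h3 : w.1.1 * w.1.2 = w'.1.1 * w'.1.2 := congrArg (fun s => s.1) hww
      have h4 : w.1.1 = w'.1.1 := congrArg (fun s => ((s.2 : _) : G)) hww
      apply Subtype.ext
      apply Prod.ext h4
      rw [h4] at h3
      exact mul_left_cancel h3
  -- split the sum
  have hsplit : 2 * m ^ 2 * ∑ z : G, i z ≤
      2 * m ^ 2 * X.ncard * Nat.card G + Nat.card G * Nat.card G := by
    rw [Finset.mul_sum, ← Finset.sum_filter_add_sum_filter_not Finset.univ (fun z => z ∈ X)]
    refine Nat.add_le_add ?_ ?_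
    · calc ∑ z ∈ Finset.univ.filter (fun z => z ∈ X), 2 * m ^ 2 * i z
          ≤ ∑ z ∈ Finset.univ.filter (fun z => z ∈ X), 2 * m ^ 2 * Nat.card G :=
            Finset.sum_le_sum fun z _ => Nat.mul_le_mul_left _ (hi2 z)
        _ = 2 * m ^ 2 * X.ncard * Nat.card G := by
            rw [Finset.sum_const, smul_eq_mul]
            have : (Finset.univ.filter (fun z => z ∈ X)).card = X.ncard := by
              rw [Set.ncard_eq_toFinset_card']
              congr 1
              ext z
              simp
            rw [this]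
            ring
    · calc ∑ z ∈ Finset.univ.filter (fun z => ¬ z ∈ X), 2 * m ^ 2 * i z
          ≤ ∑ z ∈ Finset.univ.filter (fun z => ¬ z ∈ X), Nat.card G := by
            refine Finset.sum_le_sum fun z hz => ?_
            have hz' : ¬ (centralizer ({z} : Set G)).index ≤ 2 * m ^ 2 :=
              (Finset.mem_filter.1 hz).2
            push Not at hz'
            calc 2 * m ^ 2 * i z ≤ (centralizer ({z} : Set G)).index *
                  Nat.card (centralizer ({z} : Set G)) := Nat.mul_le_mul hz'.le (hi1 z)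
              _ = Nat.card G := by rw [mul_comm]; exact card_mul_index _
        _ ≤ Nat.card G * Nat.card G := by
            rw [Finset.sum_const, smul_eq_mul]
            refine Nat.mul_le_mul_right _ ?_
            refine (Finset.card_filter_le _ _).trans ?_
            rw [Finset.card_univ, Nat.card_eq_fintype_card]
  have hG : 0 < Nat.card G := Nat.card_pos
  have h1 : 2 * (Nat.card G * Nat.card G) ≤ 2 * m ^ 2 * ∑ z : G, i z := by
    calc 2 * (Nat.card G * Nat.card G) ≤ 2 * ((m * I.ncard) * (m * I.ncard)) :=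
          Nat.mul_le_mul_left _ (Nat.mul_le_mul hIcard hIcard)
      _ = 2 * m ^ 2 * (I.ncard * I.ncard) := by ring
      _ ≤ 2 * m ^ 2 * ∑ z : G, i z := Nat.mul_le_mul_left _ hpairs
  have h2 : Nat.card G * Nat.card G ≤ 2 * m ^ 2 * X.ncard * Nat.card G := by
    have := h1.trans hsplit
    omega
  exact Nat.le_of_mul_le_mul_right h2 hG

end Four

/-- **Bound for the group order**: `x`, `y` commuting distinct involutions such that the
centralizers of `x`, `y` and `x y` have order at most `m`; then `|G|` is bounded in terms of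
`m`. -/
theorem exists_order_bound (m : ℕ) : ∃ N : ℕ, ∀ (G : Type*) [Group G] [Finite G] (x y : G),
    x * x = 1 → y * y = 1 → x * y = y * x →
    Nat.card (centralizer ({x} : Set G)) ≤ m → Nat.card (centralizer ({y} : Set G)) ≤ m →
    Nat.card (centralizer ({x * y} : Set G)) ≤ m → Nat.card G ≤ N := by
  obtain ⟨D, hD⟩ := exists_bounded_by_abelian (2 * m ^ 2) (2 * m ^ 2)
  refine ⟨m ^ 4 * D * (2 * m ^ 2), fun G _ _ x y hx hy hxy hmx hmy hmxy => ?_⟩
  obtain ⟨H, hHn, hHi, hHc⟩ := hD G (brauer_fowler_count x hx m hmx)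
  have hcomm : (commutator H).map H.subtype = ⁅H, H⁆ := H.map_subtype_commutator
  set K : Subgroup G := ⁅H, H⁆ with hK
  have hKn : K.Normal := Subgroup.commutator_normal H H
  have hKH : K ≤ H := by
    rw [hK]
    exact Subgroup.commutator_le_right H H
  have hKcard : Nat.card K ≤ D := by
    rw [← hcomm, Nat.card_congr (((commutator H).equivMapOfInjective H.subtype
      H.subtype_injective).toEquiv).symm]
    exact hHc
  set A : Subgroup (G ⧸ K) := H.map (QuotientGroup.mk' K) with hA
  have hAn : A.Normal := hHn.map _ (QuotientGroup.mk'_surjective K)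
  have hAcomm : ∀ a ∈ A, ∀ b ∈ A, a * b = b * a := by
    rintro _ ⟨a, ha, rfl⟩ _ ⟨b, hb, rfl⟩
    rw [← map_mul, ← map_mul, QuotientGroup.mk'_apply, QuotientGroup.mk'_apply, QuotientGroup.eq]
    have : (a * b)⁻¹ * (b * a) = ⁅b⁻¹, a⁻¹⁆ := by
      rw [commutatorElement_def]
      group
    rw [this, hK]
    exact Subgroup.commutator_mem_commutator (H.inv_mem hb) (H.inv_mem ha)
  have hq : ∀ z : G, Nat.card (centralizer ({z} : Set G)) ≤ m →
      Nat.card (centralizer ({(z : G ⧸ K)} : Set (G ⧸ K))) ≤ m :=
    fun z hz => (card_centralizer_quotient_le K z).trans hz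
  have hAcard : Nat.card A ≤ m ^ 4 := by
    refine card_abelian_le A hAcomm (x : G ⧸ K) (y : G ⧸ K) ?_ ?_ ?_ m (hq x hmx) (hq y hmy) ?_
    · rw [← QuotientGroup.mk_mul, hx]; rfl
    · rw [← QuotientGroup.mk_mul, hy]; rfl
    · rw [← QuotientGroup.mk_mul, ← QuotientGroup.mk_mul, hxy]
    · rw [← QuotientGroup.mk_mul]
      exact hq _ hmxy
  have hHcard : Nat.card H = Nat.card A * Nat.card K := by
    have h1 : A = Subgroup.map (QuotientGroup.mk' K) H := rfl
    have h2 : K.relIndex H = Nat.card A := by
      have h3 := Subgroup.relIndex_ker (K := H) (QuotientGroup.mk' K)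
      rwa [QuotientGroup.ker_mk'] at h3
    have h4 := Subgroup.relIndex_mul_relIndex (⊥ : Subgroup G) K H bot_le hKH
    rw [Subgroup.relIndex_bot_left, Subgroup.relIndex_bot_left] at h4
    rw [← h2, mul_comm]
    exact h4.symm
  have hG := H.card_mul_index
  rw [← hG, hHcard]
  exact Nat.mul_le_mul (Nat.mul_le_mul hAcard hKcard) hHi

end Cfsg.Agent.H659.BFC
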