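import Cfsg.Agent.H235.AA.He
import Cfsg.Agent.H70.HeCoat
import Cfsg.Agent.H162.CC.Bridge
import Cfsg.Agent.H659.GenReps
import Cfsg.Agent.H659.CommCert

/-!
# S3828: the row of the Held group (helper659)

For `p = 3, 5, 7, 17` and each representative `x` of the elements of order `p` an element `g` such that the commutator of
`x` and `g x g⁻¹` is not 1 and has order prime to `p`; for `p = 2` the maximal subgroup of `C` would contain `C(z)` and
`2⁶:3.S₆`.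
-/

set_option autoImplicit false
set_option maxRecDepth 100000

namespace Cfsg.Agent.H659.CcHe

open Subgroup Cfsg Cfsg.Agent.H859
open Cfsg.Spor.He (Gen)
open Cfsg.Agent.SporadicB.HePerm (act wd phi phi_wd_apply)
open Cfsg.Agent.FixBN.HeStab Cfsg.Agent.KFacts.He.Lv Cfsg.Agent.CpAutHe.Cnt
open Cfsg.Agent.H587.NR.He Cfsg.Agent.H235.AA.He Cfsg.Agent.H659.CommCert Cfsg.Agent.H659.GenReps

/-- the word of the commutator of `x` and `g x g⁻¹` -/
def cw (X g : List Gen) : List Gen :=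
  X.reverse ++ ((g ++ (X.reverse ++ g.reverse)) ++ (X ++ (g ++ (X ++ g.reverse))))

theorem wd_cw (X g : List Gen) : wd (cw X g) =
    (wd X)⁻¹ * (wd g * wd X * (wd g)⁻¹)⁻¹ * wd X * (wd g * wd X * (wd g)⁻¹) := by
  simp only [cw, wd_append, wd_reverse]
  group

/-- the certificate -/
def certC (p : ℕ) (X g : List Gen) (n : ℕ) : Bool :=
  and (chkB (pw (cw X g) n) []) (and (Nat.beq (Nat.gcd p n) 1) (not (chkB (cw X g) [])))

theorem not_kc_of_cert {p n : ℕ} {X g : List Gen} (h : certC p X g n = true) : ¬ KC p (wd X) := by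
  unfold certC at h
  simp only [Bool.and_eq_true] at h
  obtain ⟨h1, h2, h3⟩ := h
  have e1 := eq_of_chkB h1
  rw [wd_pw, wd_nil, wd_cw] at e1
  have e3 : wd (cw X g) ≠ 1 := by
    rw [← wd_nil]
    refine ne_of_chkB ?_
    simpa using h3
  rw [wd_cw] at e3
  exact not_kc (g := wd g) e1 e3 (Nat.eq_of_beq_eq_true h2)

/-- an element of order 17 -/
def X17 : List Gen := [.c, .d, .g, .b]

theorem kc3_w1 : ¬ KC 3 (wd (pw W3 1)) :=
  not_kc_of_cert (g := [.c]) (n := 2) (by decide +kernel)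

theorem kc3_b1 : ¬ KC 3 (wd (pw B3 1)) :=
  not_kc_of_cert (g := [.b]) (n := 2) (by decide +kernel)

theorem kc3_1_0 : ¬ KC 3 (wd (pw A3 1 ++ pw B3 0)) :=
  not_kc_of_cert (g := [.a]) (n := 4) (by decide +kernel)

theorem kc3_1_1 : ¬ KC 3 (wd (pw A3 1 ++ pw B3 1)) :=
  not_kc_of_cert (g := [.b]) (n := 5) (by decide +kernel)

theorem kc3_1_2 : ¬ KC 3 (wd (pw A3 1 ++ pw B3 2)) :=
  not_kc_of_cert (g := [.b]) (n := 2) (by decide +kernel)

theorem kc5_b1 : ¬ KC 5 (wd (pw B5 1)) :=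
  not_kc_of_cert (g := [.b]) (n := 3) (by decide +kernel)

theorem kc5_b2 : ¬ KC 5 (wd (pw B5 2)) :=
  not_kc_of_cert (g := [.b]) (n := 3) (by decide +kernel)

theorem kc5_1_0 : ¬ KC 5 (wd (pw A5 1 ++ pw B5 0)) :=
  not_kc_of_cert (g := [.b]) (n := 2) (by decide +kernel)

theorem kc5_1_1 : ¬ KC 5 (wd (pw A5 1 ++ pw B5 1)) :=
  not_kc_of_cert (g := [.a, .f]) (n := 2) (by decide +kernel)

theorem kc5_1_2 : ¬ KC 5 (wd (pw A5 1 ++ pw B5 2)) :=
  not_kc_of_cert (g := [.b]) (n := 6) (by decide +kernel)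

theorem kc5_1_3 : ¬ KC 5 (wd (pw A5 1 ++ pw B5 3)) :=
  not_kc_of_cert (g := [.a, .f]) (n := 2) (by decide +kernel)

theorem kc5_1_4 : ¬ KC 5 (wd (pw A5 1 ++ pw B5 4)) :=
  not_kc_of_cert (g := [.f]) (n := 2) (by decide +kernel)

theorem kc5_2_0 : ¬ KC 5 (wd (pw A5 2 ++ pw B5 0)) :=
  not_kc_of_cert (g := [.b]) (n := 6) (by decide +kernel)

theorem kc5_2_1 : ¬ KC 5 (wd (pw A5 2 ++ pw B5 1)) :=
  not_kc_of_cert (g := [.a, .f]) (n := 2) (by decide +kernel)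

theorem kc5_2_2 : ¬ KC 5 (wd (pw A5 2 ++ pw B5 2)) :=
  not_kc_of_cert (g := [.a, .f]) (n := 2) (by decide +kernel)

theorem kc5_2_3 : ¬ KC 5 (wd (pw A5 2 ++ pw B5 3)) :=
  not_kc_of_cert (g := [.b]) (n := 2) (by decide +kernel)

theorem kc5_2_4 : ¬ KC 5 (wd (pw A5 2 ++ pw B5 4)) :=
  not_kc_of_cert (g := [.b]) (n := 6) (by decide +kernel)

theorem kc7_w1 : ¬ KC 7 (wd (pw W7 1)) :=
  not_kc_of_cert (g := [.a]) (n := 3) (by decide +kernel)

theorem kc7_w2 : ¬ KC 7 (wd (pw W7 2)) :=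
  not_kc_of_cert (g := [.a]) (n := 2) (by decide +kernel)

theorem kc7_w3 : ¬ KC 7 (wd (pw W7 3)) :=
  not_kc_of_cert (g := [.a]) (n := 3) (by decide +kernel)

theorem kc7_b1 : ¬ KC 7 (wd (pw B7 1)) :=
  not_kc_of_cert (g := [.b]) (n := 3) (by decide +kernel)

theorem kc7_b2 : ¬ KC 7 (wd (pw B7 2)) :=
  not_kc_of_cert (g := [.b]) (n := 2) (by decide +kernel)

theorem kc7_b3 : ¬ KC 7 (wd (pw B7 3)) :=
  not_kc_of_cert (g := [.a]) (n := 4) (by decide +kernel)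

theorem kc7_1_0 : ¬ KC 7 (wd (pw A7 1 ++ pw B7 0)) :=
  not_kc_of_cert (g := [.a]) (n := 4) (by decide +kernel)

theorem kc7_1_1 : ¬ KC 7 (wd (pw A7 1 ++ pw B7 1)) :=
  not_kc_of_cert (g := [.a]) (n := 4) (by decide +kernel)

theorem kc7_1_2 : ¬ KC 7 (wd (pw A7 1 ++ pw B7 2)) :=
  not_kc_of_cert (g := [.a]) (n := 6) (by decide +kernel)

theorem kc7_1_3 : ¬ KC 7 (wd (pw A7 1 ++ pw B7 3)) :=
  not_kc_of_cert (g := [.a]) (n := 4) (by decide +kernel)

theorem kc7_1_4 : ¬ KC 7 (wd (pw A7 1 ++ pw B7 4)) :=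
  not_kc_of_cert (g := [.b]) (n := 4) (by decide +kernel)

theorem kc7_1_5 : ¬ KC 7 (wd (pw A7 1 ++ pw B7 5)) :=
  not_kc_of_cert (g := [.b]) (n := 3) (by decide +kernel)

theorem kc7_1_6 : ¬ KC 7 (wd (pw A7 1 ++ pw B7 6)) :=
  not_kc_of_cert (g := [.a]) (n := 3) (by decide +kernel)

theorem kc7_2_0 : ¬ KC 7 (wd (pw A7 2 ++ pw B7 0)) :=
  not_kc_of_cert (g := [.a]) (n := 3) (by decide +kernel)

theorem kc7_2_1 : ¬ KC 7 (wd (pw A7 2 ++ pw B7 1)) :=
  not_kc_of_cert (g := [.b]) (n := 4) (by decide +kernel)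

theorem kc7_2_2 : ¬ KC 7 (wd (pw A7 2 ++ pw B7 2)) :=
  not_kc_of_cert (g := [.c]) (n := 3) (by decide +kernel)

theorem kc7_2_3 : ¬ KC 7 (wd (pw A7 2 ++ pw B7 3)) :=
  not_kc_of_cert (g := [.b]) (n := 4) (by decide +kernel)

theorem kc7_2_4 : ¬ KC 7 (wd (pw A7 2 ++ pw B7 4)) :=
  not_kc_of_cert (g := [.b]) (n := 3) (by decide +kernel)

theorem kc7_2_5 : ¬ KC 7 (wd (pw A7 2 ++ pw B7 5)) :=
  not_kc_of_cert (g := [.a]) (n := 3) (by decide +kernel)

theorem kc7_2_6 : ¬ KC 7 (wd (pw A7 2 ++ pw B7 6)) :=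
  not_kc_of_cert (g := [.g]) (n := 3) (by decide +kernel)

theorem kc7_3_0 : ¬ KC 7 (wd (pw A7 3 ++ pw B7 0)) :=
  not_kc_of_cert (g := [.a]) (n := 4) (by decide +kernel)

theorem kc7_3_1 : ¬ KC 7 (wd (pw A7 3 ++ pw B7 1)) :=
  not_kc_of_cert (g := [.b]) (n := 4) (by decide +kernel)

theorem kc7_3_2 : ¬ KC 7 (wd (pw A7 3 ++ pw B7 2)) :=
  not_kc_of_cert (g := [.a]) (n := 4) (by decide +kernel)

theorem kc7_3_3 : ¬ KC 7 (wd (pw A7 3 ++ pw B7 3)) :=
  not_kc_of_cert (g := [.c]) (n := 3) (by decide +kernel)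

theorem kc7_3_4 : ¬ KC 7 (wd (pw A7 3 ++ pw B7 4)) :=
  not_kc_of_cert (g := [.a]) (n := 3) (by decide +kernel)

theorem kc7_3_5 : ¬ KC 7 (wd (pw A7 3 ++ pw B7 5)) :=
  not_kc_of_cert (g := [.b]) (n := 4) (by decide +kernel)

theorem kc7_3_6 : ¬ KC 7 (wd (pw A7 3 ++ pw B7 6)) :=
  not_kc_of_cert (g := [.a]) (n := 6) (by decide +kernel)

theorem kc17_a1 : ¬ KC 17 (wd (pw X17 1)) :=
  not_kc_of_cert (g := [.a]) (n := 2) (by decide +kernel)

theorem kc17_a2 : ¬ KC 17 (wd (pw X17 2)) :=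
  not_kc_of_cert (g := [.b]) (n := 3) (by decide +kernel)

theorem kc17_a3 : ¬ KC 17 (wd (pw X17 3)) :=
  not_kc_of_cert (g := [.a]) (n := 3) (by decide +kernel)

theorem kc17_a4 : ¬ KC 17 (wd (pw X17 4)) :=
  not_kc_of_cert (g := [.b]) (n := 2) (by decide +kernel)

theorem kc17_a5 : ¬ KC 17 (wd (pw X17 5)) :=
  not_kc_of_cert (g := [.c]) (n := 2) (by decide +kernel)

theorem kc17_a6 : ¬ KC 17 (wd (pw X17 6)) :=
  not_kc_of_cert (g := [.a]) (n := 5) (by decide +kernel)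

theorem kc17_a7 : ¬ KC 17 (wd (pw X17 7)) :=
  not_kc_of_cert (g := [.f]) (n := 4) (by decide +kernel)

theorem kc17_a8 : ¬ KC 17 (wd (pw X17 8)) :=
  not_kc_of_cert (g := [.a]) (n := 6) (by decide +kernel)

theorem three {x : Cfsg.Spor.He} {n : ℕ} (hx : orderOf x = 3 ^ n) (hx1 : x ≠ 1) : ¬ KC 3 x := by
  have hp : Fact (Nat.Prime 3) := ⟨by norm_num⟩
  refine heis_reps KC.conj KC.inv rel3 (by norm_num) (by rw [card_he]; norm_num) ?_ ?_ ?_ hx hx1
  · intro k h1 h2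
    have : k ≤ 1 := by omega
    rw [← wd_pw]
    interval_cases k
    exacts [kc3_w1]
  · intro k h1 h2
    have : k ≤ 1 := by omega
    rw [← wd_pw]
    interval_cases k
    exacts [kc3_b1]
  · intro i j h1 h2 h3
    have : i ≤ 1 := by omega
    rw [← wd_pw, ← wd_pw, ← wd_append]
    interval_cases i <;> interval_cases j
    exacts [kc3_1_0, kc3_1_1, kc3_1_2]

theorem seven {x : Cfsg.Spor.He} {n : ℕ} (hx : orderOf x = 7 ^ n) (hx1 : x ≠ 1) : ¬ KC 7 x := by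
  have hp : Fact (Nat.Prime 7) := ⟨by norm_num⟩
  refine heis_reps KC.conj KC.inv rel7 (by norm_num) (by rw [card_he]; norm_num) ?_ ?_ ?_ hx hx1
  · intro k h1 h2
    have : k ≤ 3 := by omega
    rw [← wd_pw]
    interval_cases k
    exacts [kc7_w1, kc7_w2, kc7_w3]
  · intro k h1 h2
    have : k ≤ 3 := by omega
    rw [← wd_pw]
    interval_cases k
    exacts [kc7_b1, kc7_b2, kc7_b3]
  · intro i j h1 h2 h3
    have : i ≤ 3 := by omega
    rw [← wd_pw, ← wd_pw, ← wd_append]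
    interval_cases i <;> interval_cases j
    exacts [kc7_1_0, kc7_1_1, kc7_1_2, kc7_1_3, kc7_1_4, kc7_1_5, kc7_1_6, kc7_2_0, kc7_2_1, kc7_2_2, kc7_2_3, kc7_2_4, kc7_2_5, kc7_2_6, kc7_3_0, kc7_3_1, kc7_3_2, kc7_3_3, kc7_3_4, kc7_3_5, kc7_3_6]

theorem five {x : Cfsg.Spor.He} {n : ℕ} (hx : orderOf x = 5 ^ n) (hx1 : x ≠ 1) : ¬ KC 5 x := by
  have hp : Fact (Nat.Prime 5) := ⟨by norm_num⟩
  have r4 : wd A5 ^ 5 = 1 := by
    have h1 := eq_of_chkB (show chkB (pw A5 5) [] = true by decide +kernel)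
    rwa [wd_pw, wd_nil] at h1
  refine abel_reps KC.conj KC.inv (a := wd A5) (b := wd B5) ?_ r4 ?_ ?_ ?_ (by norm_num) (by rw [card_he]; norm_num)
    ?_ ?_ hx hx1
  · have h1 := eq_of_chkB (show chkB (B5 ++ A5) (A5 ++ B5) = true by decide +kernel)
    rwa [wd_append, wd_append] at h1
  · have h1 := eq_of_chkB (show chkB (pw B5 5) [] = true by decide +kernel)
    rwa [wd_pw, wd_nil] at h1
  · rw [← wd_nil]
    exact ne_of_chkB (by decide +kernel)
  · intro h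
    rw [← mem_powers_iff_mem_zpowers] at h
    obtain ⟨k, hk⟩ := h
    have hk' : wd A5 ^ k = wd B5 := hk
    rw [Heis.pow_red r4] at hk'
    have hk5 : k % 5 < 5 := Nat.mod_lt _ (by norm_num)
    generalize k % 5 = j at hk' hk5
    revert hk'
    rw [← wd_pw]
    apply ne_of_chkB
    interval_cases j <;> decide +kernel
  · intro k h1 h2
    have : k ≤ 2 := by omega
    rw [← wd_pw]
    interval_cases k
    exacts [kc5_b1, kc5_b2]
  · intro i j h1 h2 h3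
    have : i ≤ 2 := by omega
    rw [← wd_pw, ← wd_pw, ← wd_append]
    interval_cases i <;> interval_cases j
    exacts [kc5_1_0, kc5_1_1, kc5_1_2, kc5_1_3, kc5_1_4, kc5_2_0, kc5_2_1, kc5_2_2, kc5_2_3, kc5_2_4]

theorem seventeen {x : Cfsg.Spor.He} {n : ℕ} (hx : orderOf x = 17 ^ n) (hx1 : x ≠ 1) : ¬ KC 17 x := by
  have hp : Fact (Nat.Prime 17) := ⟨by norm_num⟩
  refine cyc_reps KC.conj KC.inv (a := wd X17) ?_ ?_ (by norm_num) (by rw [card_he]; norm_num) ?_ hx hx1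
  · have h1 := eq_of_chkB (show chkB (pw X17 17) [] = true by decide +kernel)
    rwa [wd_pw, wd_nil] at h1
  · rw [← wd_nil]
    exact ne_of_chkB (by decide +kernel)
  · intro k h1 h2
    have : k ≤ 8 := by omega
    rw [← wd_pw]
    interval_cases k
    exacts [kc17_a1, kc17_a2, kc17_a3, kc17_a4, kc17_a5, kc17_a6, kc17_a7, kc17_a8]

/-- `p = 2` -/
theorem two : Cfsg.Agent.H162.CCR.CRow 2 Cfsg.Spor.He := by
  have hfin := H70.HeCoat.finG
  have hs : IsSimpleGroup Cfsg.Spor.He := Cfsg.Agent.H235.AA.He.simple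
  apply Cfsg.Agent.H162.CCR.CRow.of_comm
  intro C hC
  have hna : ¬ IsMulCommutative Cfsg.Spor.He := Cfsg.Agent.QTUnique.He.noncomm
  obtain ⟨T, hT⟩ := H70.HeCoat.exists_T
  obtain ⟨c, hc, hc1, hcT⟩ := hC.exists_mem_sylow T
  have hM := hC.maxl_ne_top hna hc hc1 hcT
  have hTM := hC.sylow_le_maxl T
  have key : ∀ H : Subgroup Cfsg.Spor.He, H ≠ ⊤ → (T : Subgroup Cfsg.Spor.He) ≤ H →
      H ≤ Cfsg.Agent.H533.Comm.maxl C T := fun H hH hTH => hC.le_maxl hna hc hc1 hcT hH (hTH hcT)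
  set M := Cfsg.Agent.H533.Comm.maxl C T with hMdef
  have hcore : Cfsg.pCore 2 M ≠ ⊥ := by
    intro h0
    have h1 := hC.core M hM c (hTM hcT) hc
    rw [h0, Subgroup.mem_bot] at h1
    exact hc1 (congrArg Subtype.val h1)
  have hle := H70.HeCoat.over_le hT M hTM hcore
  have hne : ∀ H : Subgroup Cfsg.Spor.He, Nat.card H < 4030387200 → H ≠ ⊤ := by
    rintro H hH rfl
    rw [Subgroup.card_top, card_he] at hH
    exact absurd hH (lt_irrefl _)
  have d1 : 21504 ∣ Nat.card M := by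
    rw [← KFacts.He.Cent.card_cent]
    refine card_dvd_of_le (key _ (hne _ (by rw [KFacts.He.Cent.card_cent]; norm_num)) ?_)
    rw [hT, ← KFacts.He.Hyp.hyp.range]
    rintro _ ⟨y, -, rfl⟩
    exact ⟨y, rfl⟩
  have d2 : 138240 ∣ Nat.card M := by
    rw [← H70.HeCoat.card1]
    exact card_dvd_of_le (key _ (hne _ (by rw [H70.HeCoat.card1]; norm_num)) (H70.HeCoat.dat1 hT).T_le)
  have d3 : Nat.lcm 21504 138240 ∣ Nat.card M := Nat.lcm_dvd d1 d2
  have d4 := Nat.le_of_dvd Nat.card_pos d3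
  have d5 : 138240 < Nat.lcm 21504 138240 := by decide +kernel
  exact absurd (d4.trans hle) (not_le.2 d5)

/-- **the row of the Held group** -/
theorem crow_he {G : Type*} [Group G] [Finite G] [IsSimpleGroup G] (h : Spor.IsoHe G) (p : ℕ) [hp : Fact p.Prime] :
    Cfsg.Agent.H162.CCR.CRow p G := by
  obtain ⟨e⟩ := h
  refine Cfsg.Agent.H162.CCR.CRow.of_equiv e ?_
  by_cases hd : p ∣ Nat.card Cfsg.Spor.He
  · rw [card_he, show 4030387200 = 2 ^ 10 * 3 ^ 3 * 5 ^ 2 * 7 ^ 3 * 17 by norm_num] at hd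
    rcases (Nat.Prime.dvd_mul hp.out).1 hd with h1 | h1
    · rcases (Nat.Prime.dvd_mul hp.out).1 h1 with h2 | h2
      · rcases (Nat.Prime.dvd_mul hp.out).1 h2 with h3 | h3
        · rcases (Nat.Prime.dvd_mul hp.out).1 h3 with h4 | h4
          · obtain rfl := (Nat.prime_dvd_prime_iff_eq hp.out Nat.prime_two).1 (hp.out.dvd_of_dvd_pow h4)
            exact two
          · obtain rfl := (Nat.prime_dvd_prime_iff_eq hp.out Nat.prime_three).1 (hp.out.dvd_of_dvd_pow h4)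
            exact crow_of_kc fun x n hx hx1 => three hx hx1
        · obtain rfl := (Nat.prime_dvd_prime_iff_eq hp.out (by norm_num : Nat.Prime 5)).1 (hp.out.dvd_of_dvd_pow h3)
          exact crow_of_kc fun x n hx hx1 => five hx hx1
      · obtain rfl := (Nat.prime_dvd_prime_iff_eq hp.out (by norm_num : Nat.Prime 7)).1 (hp.out.dvd_of_dvd_pow h2)
        exact crow_of_kc fun x n hx hx1 => seven hx hx1
    · obtain rfl := (Nat.prime_dvd_prime_iff_eq hp.out (by norm_num : Nat.Prime 17)).1 h1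
      exact crow_of_kc fun x n hx hx1 => seventeen hx hx1
  · exact crow_of_not_dvd hd

end Cfsg.Agent.H659.CcHe
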