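import Cfsg.Agent.H659.CovForms

/-!
# S2499, task OG-Sp: irreducible overgroups of large primitive elements inside a symplectic group, `q` odd
-/

set_option autoImplicit false

namespace Cfsg.Agent.H659.CovSp

open Cfsg Cfsg.Geo Cfsg.Agent.H278.Cov Cfsg.Agent.H659.CovCore Cfsg.Agent.H659.CovForms
open scoped MatrixGroups Matrix

universe u

/-- **OG-Sp** -/
theorem og_sp (hP : S5948Stmt.{u}) {ι : Type} [Fintype ι] [DecidableEq ι] {F : Type u} [Field F] [Fintype F] {k : ℕ}
    (hodd : Odd (Fintype.card F)) {f : (ι → F) → (ι → F) → F} (hf : IsSymplecticForm f)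
    {H : Subgroup (GL ι F)} (hfix : FixesForm (matrixSet H) f)
    (hne : ∃ x : GL ι F, FixesForm {(x : Matrix ι ι F)} f ∧ x ∉ H)
    {g : GL ι F} (hg : g ∈ H) (hnum : Num (Fintype.card F) (Fintype.card ι) k (orderOf g)) :
    Red H ∨ Ext (Nat.gcd (Fintype.card ι) k) H := by
  by_cases hirr : Red H
  · exact Or.inl hirr
  right
  have hn : 10 ≤ Fintype.card ι := hnum.ten
  have hl : LL f := ⟨hf.bilinear.add_left, hf.bilinear.smul_left⟩
  have hr := hf.bilinear.add_right
  -- an anisotropic vector of another form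
  have fin : ∀ (σ : F ≃+* F) (B : (ι → F) → (ι → F) → F), Hm σ B →
      (∀ a w, B a a ≠ 0 → B w a = 0 → f a w = 0) → False := by
    intro σ B hB h
    obtain ⟨a, ha, -⟩ := hB.exists_orth (m := 0) (by omega) ![] (fun i => i.elim0) (fun i => i.elim0)
    have ha0 : a ≠ 0 := by
      rintro rfl
      exact ha (hB.ll.zero 0)
    obtain ⟨w, hw⟩ := (hf.nondegenerate a ha0).2
    obtain ⟨c, hc⟩ := hB.split ha w
    apply hw
    have e : w = (w - c • a) + c • a := by abel
    rw [e, hr, h a _ ha hc, hf.bilinear.smul_right, hf.alternating, mul_zero, add_zero]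
  obtain ⟨i₀⟩ : Nonempty ι := Fintype.card_pos_iff.1 (by omega)
  have hz : (Pi.single i₀ 1 : ι → F) ≠ 0 := by
    intro h
    have := congrFun h i₀
    rw [Pi.single_eq_same, Pi.zero_apply] at this
    exact one_ne_zero this
  rcases core hP hg hnum hirr with h | h | ⟨f₂, hf₂, h⟩ | ⟨τ, B, hB, h⟩ | ⟨Q, hQ, h⟩
  · exact h
  · obtain ⟨w, hw⟩ := (hf.nondegenerate _ hz).1
    exact absurd (sl_alternating h (by omega) hf.bilinear hf.alternating hfix _ _) hw
  · obtain ⟨κ, hκ⟩ := symp_prop hf hf₂ hfix h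
    have hκ0 : κ ≠ 0 := by
      rintro rfl
      obtain ⟨w, hw⟩ := (hf.nondegenerate _ hz).1
      exact hw (by rw [hκ, zero_mul])
    obtain ⟨x, hx, hxH⟩ := hne
    refine absurd (h x ?_) hxH
    rintro _ rfl u v
    have h1 := hx _ rfl u v
    rw [hκ, hκ] at h1
    exact mul_left_cancel₀ hκ0 h1
  · exact (fin τ B (hm_of_unitary hB) fun a w ha hw => su_perp hB (by omega) h hl hr hfix ha hw).elim
  · refine (fin _ _ (hm_of_quad hQ (two_ne_zero_of_odd hodd)) fun a w ha hw =>
      om_perp hodd hQ (by omega) h hl hr hfix (fun h0 => ha ?_) hw).elim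
    rw [polar_self hQ, h0, mul_zero]

end Cfsg.Agent.H659.CovSp
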