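import Cfsg.Agent.H659.TwF4Adj
import Cfsg.Agent.H378.RegFin
import Cfsg.Agent.S2378

/-!
# Orders of semisimple elements of `²F₄(q)` (helper659)

`q = 2 ^ (2 m + 1)`, `S = ²F₄(q) ≤ F₄(q)`:
* `dvd_phi` : an element of order `s ^ j`, `q` of order `4` or `12` modulo `s` : `s ^ j ∣ Φ_d(q)`;
* `dvd_four` : all prime divisors of the order divide `q² + 1`: the order divides `q² + 1`;
* `dvd_twelve` : a prime divisor `ℓ` of the order divides `q⁴ - q² + 1`: the order divides `q⁴ - q² + 1`;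
* `exists_sq` : `s² ∣ |S|`, `s ∣ q⁴ - q² + 1`: an element of order `s²`.
-/

set_option autoImplicit false
set_option linter.unusedSectionVars false

namespace Cfsg.Agent.H659.TwF4Ord

open Cfsg Cfsg.Lie Cfsg.Lie.ChevalleyDatum
open Cfsg.Agent.ChevalleyStructure Cfsg.Agent.ChevalleyStructure.Elts Cfsg.Agent.BpExc.RowsUntw
  Cfsg.Agent.BpExc.FamInst Cfsg.Agent.H378.ExcAdj

universe u

theorem inList_F4 : InList chevF4 := by simp [InList]

/-- subgroups generated by words in root elements -/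
theorem genSubgroup_le_group {D : ChevalleyDatum} (hD : InList D) {K : Type*} [Field K] (S : Set (List (ℕ × K))) :
    D.genSubgroup K S ≤ D.group K := by
  unfold ChevalleyDatum.genSubgroup
  rw [Subgroup.closure_le]
  rintro g ⟨w, -, hg⟩
  rw [← eq_wordG_iff hD] at hg
  rw [SetLike.mem_coe, hg]
  clear hg
  induction w with
  | nil => exact one_mem _
  | cons p w ih => rw [wordG_cons]; exact mul_mem (xG_mem_group hD _ _) ih

variable {K : Type u} [Field K] [Fintype K]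

/-- the embedding in `F₄(K)` -/
def inc (K : Type u) [Field K] (e : ℕ) : ↥(twistedF4 K e) →* ↥(chevF4.group K) :=
  Subgroup.inclusion (genSubgroup_le_group inList_F4 _)

theorem inc_injective (e : ℕ) : Function.Injective (inc K e) := Subgroup.inclusion_injective _

/-! ### arithmetic -/

theorem eval_cyc12 (q : ℤ) : (Polynomial.cyclotomic 12 ℤ).eval q = q ^ 4 - q ^ 2 + 1 := by
  have h := Polynomial.cyclotomic_expand_eq_cyclotomic Nat.prime_two (show 2 ∣ 6 by norm_num) ℤ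
  rw [show 6 * 2 = 12 from rfl, Polynomial.cyclotomic_six] at h
  rw [← h, Polynomial.expand_eval]
  simp
  ring

theorem eval_cyc4 (q : ℤ) : (Polynomial.cyclotomic 4 ℤ).eval q = q ^ 2 + 1 := by
  have h := Polynomial.cyclotomic_prime_pow_eq_geom_sum (R := ℤ) (p := 2) (n := 1) Nat.prime_two
  rw [show (4 : ℕ) = 2 ^ (1 + 1) by norm_num, h]
  simp [Finset.sum_range_succ]
  ring

theorem zmod_eq_zero {q s : ℕ} {z : ℤ} (h : (s : ℤ) ∣ z) (hz : z = (q : ℤ) ^ 2 + 1) : (q : ZMod s) ^ 2 = -1 := by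
  have h1 : ((z : ℤ) : ZMod s) = 0 := (ZMod.intCast_zmod_eq_zero_iff_dvd _ _).2 (by exact_mod_cast h)
  rw [hz] at h1
  push_cast at h1
  linear_combination h1

/-- the order of `q` modulo a prime divisor of `q² + 1` -/
theorem od_four {q s : ℕ} (hs : s.Prime) (h2 : s ≠ 2) (h : (s : ℤ) ∣ (q : ℤ) ^ 2 + 1) : od q s = 4 := by
  have := Fact.mk hs
  have h1 := zmod_eq_zero h rfl
  have : orderOf ((q : ℕ) : ZMod s) = 2 ^ (1 + 1) := by
    apply orderOf_eq_prime_pow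
    · rw [pow_one, h1]
      intro h3
      have h4 : ((2 : ℕ) : ZMod s) = 0 := by push_cast; linear_combination -h3
      rw [ZMod.natCast_eq_zero_iff] at h4
      exact h2 ((Nat.prime_dvd_prime_iff_eq hs Nat.prime_two).1 h4)
    · rw [show (2 : ℕ) ^ (1 + 1) = 2 * 2 by norm_num, pow_mul, h1]; ring
  rw [od, this]; norm_num

/-- the order of `q` modulo a prime divisor of `q⁴ - q² + 1` -/
theorem od_twelve {q s : ℕ} (hs : s.Prime) (h2 : s ≠ 2) (h3 : s ≠ 3) (h : (s : ℤ) ∣ (q : ℤ) ^ 4 - (q : ℤ) ^ 2 + 1) :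
    od q s = 12 := by
  have := Fact.mk hs
  have h1 : ((q : ZMod s)) ^ 4 - (q : ZMod s) ^ 2 + 1 = 0 := by
    have h1 : ((((q : ℤ) ^ 4 - (q : ℤ) ^ 2 + 1 : ℤ)) : ZMod s) = 0 :=
      (ZMod.intCast_zmod_eq_zero_iff_dvd _ _).2 (by exact_mod_cast h)
    push_cast at h1
    exact h1
  have h6 : (q : ZMod s) ^ 6 = -1 := by linear_combination ((q : ZMod s) ^ 2 + 1) * h1
  have h12 : (q : ZMod s) ^ 12 = 1 := by
    rw [show 12 = 6 * 2 by norm_num, pow_mul, h6]; ring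
  have hd : od q s ∣ 12 := orderOf_dvd_of_pow_eq_one h12
  have hz : ∀ n : ℕ, ((n : ℕ) : ZMod s) = 0 → n.Prime → s = n := by
    intro n h4 hn
    rw [ZMod.natCast_eq_zero_iff] at h4
    exact (Nat.prime_dvd_prime_iff_eq hs hn).1 h4
  have hn6 : ¬ od q s ∣ 6 := by
    intro h4
    have h5 := orderOf_dvd_iff_pow_eq_one.1 h4
    rw [h6] at h5
    exact h2 (hz 2 (by push_cast; linear_combination -h5) Nat.prime_two)
  have hn4 : ¬ od q s ∣ 4 := by
    intro h4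
    have h5 := orderOf_dvd_iff_pow_eq_one.1 h4
    rw [h5] at h1
    have h7 : (q : ZMod s) ^ 2 = 2 := by linear_combination -h1
    have h8 : (q : ZMod s) ^ 4 = 4 := by
      rw [show 4 = 2 * 2 by norm_num, pow_mul, h7]; ring
    rw [h5] at h8
    exact h3 (hz 3 (by push_cast; linear_combination -h8) Nat.prime_three)
  have hmem : od q s ∈ Nat.divisors 12 := Nat.mem_divisors.2 ⟨hd, by norm_num⟩
  rw [show Nat.divisors 12 = {1, 2, 3, 4, 6, 12} by decide] at hmem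
  simp only [Finset.mem_insert, Finset.mem_singleton] at hmem
  rcases hmem with h | h | h | h | h | h
  · exact absurd (by rw [h]; norm_num) hn6
  · exact absurd (by rw [h]; norm_num) hn6
  · exact absurd (by rw [h]; norm_num) hn6
  · exact absurd (by rw [h]) hn4
  · exact absurd (by rw [h]) hn6
  · exact h

theorem not_dvd_of {q s : ℕ} (hs : s.Prime) {z : ℤ} (h : (s : ℤ) ∣ (q : ℤ) * z + 1) : ¬ s ∣ q := by
  intro h1
  have h2 : (s : ℤ) ∣ (q : ℤ) * z := (Int.natCast_dvd_natCast.2 h1).mul_right z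
  have h3 : (s : ℤ) ∣ 1 := (Int.dvd_add_right h2).1 h
  have h4 := Int.natCast_dvd_natCast.mp (by simpa using h3 : (s : ℤ) ∣ ((1 : ℕ) : ℤ))
  exact hs.one_lt.ne' (Nat.dvd_one.mp h4)

/-! ### elements of prime power order -/

theorem dvd_phi {s : ℕ} (hs : s.Prime) (h2 : s ≠ 2) (h3 : s ≠ 3) (hsq : ¬ s ∣ Fintype.card K) {x : ↥(chevF4.group K)}
    {j : ℕ} (hx : orderOf x = s ^ j) :
    s ^ j ∣ ((Polynomial.cyclotomic (od (Fintype.card K) s) ℤ).eval ((Fintype.card K : ℕ) : ℤ)).natAbs := by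
  have := Fact.mk hs
  rcases Nat.eq_zero_or_pos j with h0 | h0
  · rw [h0, pow_zero]; exact one_dvd _
  have hsG : s ∣ Nat.card ↥(chevF4.group K) := by
    refine dvd_trans ?_ (orderOf_dvd_natCard x)
    rw [hx]; exact dvd_pow_self s (by omega)
  have hX : IsPGroup s (Subgroup.zpowers x) := IsPGroup.of_card (by rw [Nat.card_zpowers, hx])
  obtain ⟨P, hP⟩ := hX.exists_le_sylow
  obtain ⟨e⟩ := S2378.result (F := K) rfl (chevF4, [2, 6, 8, 12]) (by simp) s hsq (by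
    intro h
    have h4 : s ∣ 2 ^ 7 * 3 ^ 2 := by simpa using h
    rcases hs.dvd_mul.1 h4 with h5 | h5
    · exact h2 ((Nat.prime_dvd_prime_iff_eq hs Nat.prime_two).1 (hs.dvd_of_dvd_pow h5))
    · exact h3 ((Nat.prime_dvd_prime_iff_eq hs Nat.prime_three).1 (hs.dvd_of_dvd_pow h5))) hsG P
  refine dvd_trans ?_ (pow_padicValNat_dvd (p := s))
  rw [← hx]
  have hxP : x ∈ (P : Subgroup ↥(chevF4.group K)) := hP (Subgroup.mem_zpowers x)
  have h4 : orderOf (⟨x, hxP⟩ : ↥(P : Subgroup ↥(chevF4.group K))) = orderOf x := Subgroup.orderOf_mk _ _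
  rw [← h4]
  apply orderOf_dvd_of_pow_eq_one
  apply e.injective
  rw [map_pow, map_one]
  funext i
  rw [Pi.pow_apply, Pi.one_apply]
  apply Multiplicative.toAdd.injective
  rw [toAdd_pow, toAdd_one, nsmul_eq_mul, ZMod.natCast_self, zero_mul]

variable {m : ℕ} (hK : Fintype.card K = 2 ^ (2 * m + 1))

include hK

theorem three_not_dvd : ¬ (3 : ℤ) ∣ ((Fintype.card K : ℕ) : ℤ) := by
  rw [hK]
  push_cast
  intro h
  have := Int.prime_three.dvd_of_dvd_pow h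
  norm_num at this

theorem sq_mod : ∃ z : ℤ, ((Fintype.card K : ℕ) : ℤ) ^ 2 = 3 * z + 1 := by
  have h := three_not_dvd hK
  have h1 : ((Fintype.card K : ℕ) : ℤ) % 3 = 1 ∨ ((Fintype.card K : ℕ) : ℤ) % 3 = 2 := by omega
  rcases h1 with h1 | h1
  · have h2 : ((Fintype.card K : ℕ) : ℤ) ^ 2 % 3 = 1 := by rw [pow_two, Int.mul_emod, h1]; rfl
    exact ⟨((Fintype.card K : ℕ) : ℤ) ^ 2 / 3, by omega⟩
  · have h2 : ((Fintype.card K : ℕ) : ℤ) ^ 2 % 3 = 1 := by rw [pow_two, Int.mul_emod, h1]; rfl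
    exact ⟨((Fintype.card K : ℕ) : ℤ) ^ 2 / 3, by omega⟩

theorem ne_of_four {s : ℕ} (hs : s.Prime) (h : (s : ℤ) ∣ ((Fintype.card K : ℕ) : ℤ) ^ 2 + 1) : s ≠ 2 ∧ s ≠ 3 := by
  constructor
  · rintro rfl
    rw [hK] at h
    push_cast at h
    have h1 : (2 : ℤ) ∣ (2 ^ (2 * m + 1)) ^ 2 := dvd_pow (dvd_pow_self 2 (by omega)) (by norm_num)
    have := (Int.dvd_add_right h1).1 h
    norm_num at this
  · rintro rfl
    obtain ⟨z, hz⟩ := sq_mod hK
    rw [hz] at h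
    push_cast at h
    omega

theorem ne_of_twelve {s : ℕ} (hs : s.Prime)
    (h : (s : ℤ) ∣ ((Fintype.card K : ℕ) : ℤ) ^ 4 - ((Fintype.card K : ℕ) : ℤ) ^ 2 + 1) : s ≠ 2 ∧ s ≠ 3 := by
  constructor
  · rintro rfl
    rw [hK] at h
    push_cast at h
    have h1 : (2 : ℤ) ∣ (2 ^ (2 * m + 1)) ^ 4 - (2 ^ (2 * m + 1)) ^ 2 :=
      dvd_sub (dvd_pow (dvd_pow_self 2 (by omega)) (by norm_num)) (dvd_pow (dvd_pow_self 2 (by omega)) (by norm_num))
    have := (Int.dvd_add_right h1).1 h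
    norm_num at this
  · rintro rfl
    obtain ⟨z, hz⟩ := sq_mod hK
    have e : ((Fintype.card K : ℕ) : ℤ) ^ 4 = (((Fintype.card K : ℕ) : ℤ) ^ 2) ^ 2 := by ring
    rw [e, hz] at h
    push_cast at h
    have e2 : (3 * z + 1) ^ 2 - (3 * z + 1) + 1 = 3 * (3 * z ^ 2 + z) + 1 := by ring
    rw [e2] at h
    omega

/-- **Elements all of whose primes divide `q² + 1`.** -/
theorem dvd_four {x : ↥(twistedF4 K (2 ^ m))}
    (h : ∀ s : ℕ, s.Prime → s ∣ orderOf x → (s : ℤ) ∣ ((Fintype.card K : ℕ) : ℤ) ^ 2 + 1) :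
    orderOf x ∣ Fintype.card K ^ 2 + 1 := by
  rw [Nat.dvd_iff_prime_pow_dvd_dvd]
  intro s j hs hsj
  rcases Nat.eq_zero_or_pos j with h0 | h0
  · rw [h0, pow_zero]; exact one_dvd _
  have hsd := h s hs ((dvd_pow_self s (by omega)).trans hsj)
  obtain ⟨h2, h3⟩ := ne_of_four hK hs hsd
  have hsq : ¬ s ∣ Fintype.card K := not_dvd_of hs (z := ((Fintype.card K : ℕ) : ℤ)) (by rw [← pow_two]; exact hsd)
  obtain ⟨c, hc⟩ := hsj
  have hc0 : c ≠ 0 := by
    rintro rfl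
    rw [mul_zero] at hc
    exact (orderOf_pos x).ne' hc
  have h4 : orderOf (inc K (2 ^ m) (x ^ c)) = s ^ j := by
    rw [orderOf_injective _ (inc_injective _), orderOf_pow_of_dvd hc0 (by rw [hc]; exact Dvd.intro_left _ rfl), hc,
      Nat.mul_div_cancel _ (Nat.pos_of_ne_zero hc0)]
  have h5 := dvd_phi hs h2 h3 hsq h4
  rw [od_four hs h2 hsd, eval_cyc4] at h5
  have e : (((Fintype.card K : ℕ) : ℤ) ^ 2 + 1).natAbs = Fintype.card K ^ 2 + 1 := by
    have : ((Fintype.card K : ℕ) : ℤ) ^ 2 + 1 = ((Fintype.card K ^ 2 + 1 : ℕ) : ℤ) := by push_cast; ring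
    rw [this, Int.natAbs_natCast]
  rwa [e] at h5

/-- **Elements with a prime dividing `q⁴ - q² + 1`.** -/
theorem dvd_twelve {x : ↥(twistedF4 K (2 ^ m))} {s : ℕ} (hs : s.Prime) (hsx : s ∣ orderOf x)
    (h : (s : ℤ) ∣ ((Fintype.card K : ℕ) : ℤ) ^ 4 - ((Fintype.card K : ℕ) : ℤ) ^ 2 + 1) :
    ((orderOf x : ℕ) : ℤ) ∣ ((Fintype.card K : ℕ) : ℤ) ^ 4 - ((Fintype.card K : ℕ) : ℤ) ^ 2 + 1 := by
  obtain ⟨h2, h3⟩ := ne_of_twelve hK hs h
  obtain ⟨c, hc⟩ := hsx
  have hc0 : c ≠ 0 := by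
    rintro rfl
    rw [mul_zero] at hc
    exact (orderOf_pos x).ne' hc
  have h4 : orderOf (inc K (2 ^ m) (x ^ c)) = s := by
    rw [orderOf_injective _ (inc_injective _), orderOf_pow_of_dvd hc0 (by rw [hc]; exact Dvd.intro_left _ rfl), hc,
      Nat.mul_div_cancel _ (Nat.pos_of_ne_zero hc0)]
  have hod : od (Nat.card K) s = 12 := by rw [Nat.card_eq_fintype_card]; exact od_twelve hs h2 h3 h
  have h5 := (H378.RegFin.cent_od f4T inv_F4 one_ne_zero hs h4 hod (by decide) (by norm_num)).2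
  have h6 : inc K (2 ^ m) x ∈ Subgroup.centralizer ({inc K (2 ^ m) (x ^ c)} : Set ↥(chevF4.group K)) := by
    rw [Subgroup.mem_centralizer_singleton_iff, ← map_mul, ← map_mul, ← pow_succ, ← pow_succ']
  have h7 : orderOf x ∣ Nat.card ↥(Subgroup.centralizer ({inc K (2 ^ m) (x ^ c)} : Set ↥(chevF4.group K))) := by
    rw [← orderOf_injective _ (inc_injective (K := K) (2 ^ m)) x]
    have := orderOf_dvd_natCard (⟨_, h6⟩ : ↥(Subgroup.centralizer ({inc K (2 ^ m) (x ^ c)} : Set ↥(chevF4.group K))))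
    rwa [Subgroup.orderOf_mk] at this
  have h8 := h7.trans h5
  rw [eval_cyc12, Nat.card_eq_fintype_card] at h8
  rw [← Int.dvd_natAbs]
  exact Int.natCast_dvd_natCast.2 h8

/-- **Cyclic Sylow subgroups.** -/
theorem exists_sq {s : ℕ} (hs : s.Prime)
    (h : (s : ℤ) ∣ ((Fintype.card K : ℕ) : ℤ) ^ 4 - ((Fintype.card K : ℕ) : ℤ) ^ 2 + 1)
    (hd : s ^ 2 ∣ Nat.card ↥(twistedF4 K (2 ^ m))) : ∃ x : ↥(twistedF4 K (2 ^ m)), orderOf x = s ^ 2 := by
  have := Fact.mk hs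
  obtain ⟨h2, h3⟩ := ne_of_twelve hK hs h
  obtain ⟨Q, hQ⟩ := Sylow.exists_subgroup_card_pow_prime s hd
  have hQ' : Nat.card (Q.map (inc K (2 ^ m))) = s ^ 2 := by
    rw [Subgroup.card_map_of_injective (inc_injective _), hQ]
  obtain ⟨P, hP⟩ := (IsPGroup.of_card hQ').exists_le_sylow
  have hsG : s ∣ Nat.card ↥(chevF4.group K) :=
    ((dvd_pow_self s (by norm_num : (2 : ℕ) ≠ 0)).trans (by rw [hQ'])).trans
      (Subgroup.card_subgroup_dvd_card (Q.map (inc K (2 ^ m))))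
  have hsq : ¬ s ∣ Fintype.card K := not_dvd_of hs
    (z := ((Fintype.card K : ℕ) : ℤ) ^ 3 - ((Fintype.card K : ℕ) : ℤ)) (by
      have e : ((Fintype.card K : ℕ) : ℤ) * (((Fintype.card K : ℕ) : ℤ) ^ 3 - ((Fintype.card K : ℕ) : ℤ)) + 1 =
        ((Fintype.card K : ℕ) : ℤ) ^ 4 - ((Fintype.card K : ℕ) : ℤ) ^ 2 + 1 := by ring
      rw [e]; exact h)
  obtain ⟨e⟩ := S2378.result (F := K) rfl (chevF4, [2, 6, 8, 12]) (by simp) s hsq (by
    intro h
    have h4 : s ∣ 2 ^ 7 * 3 ^ 2 := by simpa using h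
    rcases hs.dvd_mul.1 h4 with h5 | h5
    · exact h2 ((Nat.prime_dvd_prime_iff_eq hs Nat.prime_two).1 (hs.dvd_of_dvd_pow h5))
    · exact h3 ((Nat.prime_dvd_prime_iff_eq hs Nat.prime_three).1 (hs.dvd_of_dvd_pow h5))) hsG P
  have hod : orderOf ((Fintype.card K : ℕ) : ZMod s) = 12 := od_twelve hs h2 h3 h
  have hlen : (([2, 6, 8, 12] : List ℕ).filter
      (fun e => orderOf ((Fintype.card K : ℕ) : ZMod s) ∣ e)).length = 1 := by
    rw [hod]; decide
  have hPc : IsCyclic P := by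
    dsimp only at e
    rw [hlen] at e
    let e' := (e.trans (MulEquiv.funUnique (Fin 1) _)).symm
    exact isCyclic_of_surjective e' e'.surjective
  have hQc : IsCyclic (Q.map (inc K (2 ^ m))) :=
    isCyclic_of_injective (Subgroup.inclusion hP) (Subgroup.inclusion_injective hP)
  obtain ⟨g, hg⟩ := hQc.exists_generator
  have h1 : orderOf g = s ^ 2 := by rw [orderOf_eq_card_of_forall_mem_zpowers hg, hQ']
  obtain ⟨x, hx, hxg⟩ := g.2
  refine ⟨x, ?_⟩
  rw [← orderOf_injective _ (inc_injective (K := K) (2 ^ m)) x, hxg, Subgroup.orderOf_coe, h1]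

end Cfsg.Agent.H659.TwF4Ord
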