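import Cfsg.Agent.H659.TwF4Ord
import Cfsg.Agent.H369.PglSit
import Cfsg.Agent.H436.Names
import Cfsg.Agent.S2128

/-!
# Recognition of `PGL_2(q)` by spectrum: the row `²F₄(u)` (task 589 of helper369, helper659)
-/

set_option autoImplicit false
set_option linter.unusedSectionVars false

namespace Cfsg.Agent.H659.PglTwF4

open Cfsg Cfsg.Lie Cfsg.Agent.H659.TwF4Adj Cfsg.Agent.H659.TwF4Ord Cfsg.Agent.H369.Pgl Cfsg.Agent.H493.PGF4T
  Cfsg.Agent.OrdDiv

universe u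

/-- a number all of whose primes are `p` and not divisible by `p²` -/
theorem eq_of_primes {A p : ℕ} (h : p ∣ A) (h1 : ∀ t : ℕ, t.Prime → t ∣ A → t = p) (h2 : ¬ p ^ 2 ∣ A) :
    A = p := by
  obtain ⟨c, hc⟩ := h
  by_cases hc1 : c = 1
  · rw [hc, hc1, mul_one]
  · exfalso
    obtain ⟨t, ht, htc⟩ := Nat.exists_prime_and_dvd hc1
    have h3 := h1 t ht (by rw [hc]; exact htc.mul_left p)
    apply h2
    rw [hc, pow_two]
    exact Nat.mul_dvd_mul_left p (h3 ▸ htc)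

theorem two_m_le (m : ℕ) (hm : 1 ≤ m) : 2 * m + 1 + 1 ≤ 2 * 2 ^ m := by
  induction m, hm using Nat.le_induction with
  | base => norm_num
  | succ n hn ih => rw [pow_succ]; omega

variable {K : Type u} [Field K] [Fintype K] {m : ℕ} (hm : 1 ≤ m) (hK : Fintype.card K = 2 ^ (2 * m + 1))

include hK

theorem card_eq : ((Fintype.card K : ℕ) : ℤ) = 2 * (2 ^ m) ^ 2 := by
  rw [hK]; push_cast; rw [← pow_mul]; ring

theorem four_eq : ((Fintype.card K : ℕ) : ℤ) ^ 2 + 1 = fp (2 ^ m) * fm (2 ^ m) := by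
  rw [card_eq hK]; unfold fp fm; ring

theorem twelve_eq : ((Fintype.card K : ℕ) : ℤ) ^ 4 - ((Fintype.card K : ℕ) : ℤ) ^ 2 + 1 = fP (2 ^ m) * fM (2 ^ m) := by
  rw [card_eq hK]; unfold fP fM; ring

theorem prod_dvd : (fP (2 ^ m) * fM (2 ^ m)) ∣ ((Nat.card ↥(twistedF4 K (2 ^ m)) : ℕ) : ℤ) := by
  rw [S1068.result hK]
  have h1 : 1 ≤ 2 ^ (2 * m + 1) := Nat.one_le_two_pow
  have h4 : 1 ≤ (2 ^ (2 * m + 1)) ^ 4 := Nat.one_le_pow _ _ h1
  rw [Nat.cast_mul]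
  refine Dvd.dvd.mul_left ?_ _
  push_cast
  have hb : (2 : ℤ) ^ (2 * m + 1) = 2 * (2 ^ m) ^ 2 := by rw [← pow_mul]; ring
  rw [hb]
  refine ⟨fp (2 ^ m) * fm (2 ^ m), ?_⟩
  unfold fP fM fp fm; ring

theorem cover' {r : ℕ} (hr : r.Prime) (h : r ∣ Nat.card ↥(twistedF4 K (2 ^ m))) :
    (r = 2 ∨ (r : ℤ) ∣ f1 (2 ^ m) ∨ (r : ℤ) ∣ f2 (2 ^ m) ∨ (r : ℤ) ∣ fp (2 ^ m) ∨ (r : ℤ) ∣ fm (2 ^ m) ∨
      (r : ℤ) ∣ f6 (2 ^ m)) ∨ (r : ℤ) ∣ fP (2 ^ m) ∨ (r : ℤ) ∣ fM (2 ^ m) := by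
  rw [S1068.result hK] at h
  exact cover hr h

theorem sub_eq : ((Nat.card K - 1 : ℕ) : ℤ) = f1 (2 ^ m) := by
  rw [Nat.card_eq_fintype_card, Nat.cast_sub (by rw [hK]; exact Nat.one_le_two_pow), card_eq hK]
  unfold f1; push_cast; ring

/-- the `(2m+1)`-th power of an automorphism is inner -/
theorem pow_inner (hm : 1 ≤ m) (x : MulAut ↥(twistedF4 K (2 ^ m))) :
    ∃ g : ↥(twistedF4 K (2 ^ m)), x ^ (2 * m + 1) = MulAut.conj g := by
  have h := S2128.result hm hK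
  have h1 : (QuotientGroup.mk x : Cfsg.Out ↥(twistedF4 K (2 ^ m))) ^ (2 * m + 1) = 1 := by
    rw [← h]; exact pow_card_eq_one'
  rw [← QuotientGroup.mk_pow, QuotientGroup.eq_one_iff] at h1
  obtain ⟨g, hg⟩ := h1
  exact ⟨g, hg.symm⟩

include hm

/-- **Row `²F₄(u)`**, the group itself. -/
theorem row [IsSimpleGroup ↥(twistedF4 K (2 ^ m))] (hna : ¬ IsMulCommutative ↥(twistedF4 K (2 ^ m))) {p M : ℕ}
    {X : Subgroup (MulAut ↥(twistedF4 K (2 ^ m)))} (H : Sit ↥(twistedF4 K (2 ^ m)) p M X) : False := by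
  have hb2 : (2 : ℤ) ≤ 2 ^ m := by
    calc (2 : ℤ) = 2 ^ 1 := by norm_num
      _ ≤ 2 ^ m := pow_le_pow_right₀ (by norm_num) hm
  obtain ⟨t3f2, t3f6⟩ := three_dvd m
  have h3f1 : ¬ (3 : ℤ) ∣ f1 (2 ^ m) := by
    intro h
    have h1 := dvd_sub t3f2 h
    have e : f2 (2 ^ m) - f1 (2 ^ m) = 2 := by unfold f1 f2; ring
    rw [e] at h1
    norm_num at h1
  obtain ⟨u, hu, hu1⟩ := exists_u hm
  have hu3 : u ≠ 3 := by
    rintro rfl
    exact h3f1 (by exact_mod_cast hu1)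
  have huN : u ∣ Nat.card K - 1 := by
    apply Int.natCast_dvd_natCast.1
    rw [sub_eq hK]; exact hu1
  obtain ⟨x3, hx3⟩ := adj_three hK hu hu3 (Or.inl hu1)
  obtain ⟨x4, hx4⟩ := adj_four hK hu huN
  have hpp := H.hp
  have hp3 := H.three_le
  have hq1 : 1 ≤ p ^ M := Nat.one_le_pow _ _ hpp.pos
  have hodd := nn_odd H.odd
  have hu2 : u ≠ 2 := by
    rintro rfl
    have h1 : 1 ≤ 2 ^ (2 * m + 1) := Nat.one_le_two_pow
    rw [Nat.card_eq_fintype_card, hK, pow_succ] at huN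
    omega
  -- `p ≠ u`
  have hpu : p ≠ u := by
    rintro rfl
    exact H.not_adj hna (r := 3) (by norm_num) hx3
  -- `p` divides one of the two factors
  have hpPM : (p : ℤ) ∣ fP (2 ^ m) ∨ (p : ℤ) ∣ fM (2 ^ m) := by
    rcases cover' hK hpp H.dvd with (h | h | h | h | h | h) | h
    · exact absurd h H.hp2
    · exfalso
      have hp3' : p ≠ 3 := by
        rintro rfl
        exact h3f1 (by exact_mod_cast h)
      obtain ⟨x, hx⟩ := adj_three hK hpp hp3' (Or.inl h)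
      exact H.not_adj hna (r := 3) (by norm_num) hx
    · exfalso
      obtain ⟨x, hx⟩ := adj_f2 hK hpp hu hpu h hu1
      exact H.not_adj hna hu.two_le hx
    · exfalso
      obtain ⟨x, hx⟩ := adj_fp hK hpp hu hpu h hu1
      exact H.not_adj hna hu.two_le hx
    · exfalso
      obtain ⟨x, hx⟩ := adj_fm hK hpp hu hpu h hu1
      exact H.not_adj hna hu.two_le hx
    · exfalso
      by_cases hp3' : p = 3
      · have h3 : (p : ℤ) ∣ f2 (2 ^ m) := by rw [hp3']; exact_mod_cast t3f2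
        obtain ⟨x, hx⟩ := adj_f2 hK hpp hu hpu h3 hu1
        exact H.not_adj hna hu.two_le hx
      · obtain ⟨x, hx⟩ := adj_three hK hpp hp3' (Or.inr (Or.inr h))
        exact H.not_adj hna (r := 3) (by norm_num) hx
    · exact h
  -- `u` and `3` divide `mm`
  have hu_nn : ¬ u ∣ nn (p ^ M) := fun h =>
    H.not_mul hu h (by norm_num) (by norm_num) (four_dvd_mm H.odd) (H.inn x4) (by rwa [Sit.orderOf_conj hna])
  have hu3mm : u * 3 ∣ mm (p ^ M) := by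
    have h := H.orderX (H.inn x3)
    rw [Sit.orderOf_conj hna x3] at h
    rcases h with h | h | h
    · exfalso
      have h1 : u ∣ p := (Dvd.intro 3 rfl).trans (hx3.trans h)
      exact hpu ((Nat.prime_dvd_prime_iff_eq hu hpp).1 h1).symm
    · exact hx3.trans h
    · exfalso
      have h1 : u ∣ 2 * nn (p ^ M) := (Dvd.intro 3 rfl).trans (hx3.trans h)
      rcases hu.dvd_mul.1 h1 with h2 | h2
      · exact hu2 ((Nat.prime_dvd_prime_iff_eq hu Nat.prime_two).1 h2)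
      · exact hu_nn h2
  have humm : u ∣ mm (p ^ M) := (Dvd.intro 3 rfl).trans hu3mm
  have h3mm : 3 ∣ mm (p ^ M) := (Dvd.intro_left u rfl).trans hu3mm
  -- the element of order `nn`
  obtain ⟨x, hx, hxo⟩ : ∃ x ∈ X, orderOf x = nn (p ^ M) := by
    rcases H.two_cases with h | h
    · exact h
    · exfalso
      have := Fact.mk hu
      exact not_cyclic hK hu huN default (h u hu hu2 humm default)
  obtain ⟨g, hg⟩ := pow_inner hK hm x
  have hN : nn (p ^ M) ∣ (2 * m + 1) * orderOf g := by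
    rw [← hxo]
    apply orderOf_dvd_of_pow_eq_one
    rw [pow_mul, hg, ← map_pow, pow_orderOf_eq_one, map_one]
  have hgn : orderOf g ∣ nn (p ^ M) := by
    rw [← Sit.orderOf_conj hna g, ← hg, ← hxo]
    exact orderOf_pow_dvd _
  have hcop := coprime_nn_mm H.odd
  -- the primes of the order of `g`
  have hpr : ∀ s : ℕ, s.Prime → s ∣ orderOf g → s ≠ p ∧ ((s : ℤ) ∣ ((Fintype.card K : ℕ) : ℤ) ^ 2 + 1 ∨
      (s : ℤ) ∣ fP (2 ^ m) ∨ (s : ℤ) ∣ fM (2 ^ m)) := by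
    intro s hs hsg
    have hsn := hsg.trans hgn
    have hs2 : s ≠ 2 := by rintro rfl; omega
    have hs3 : s ≠ 3 := by
      rintro rfl
      have := Nat.eq_one_of_dvd_coprimes hcop hsn h3mm
      omega
    have hsp : s ≠ p := by
      rintro rfl
      exact H.not_dvd_nn hsn
    have key : ¬ ((s : ℤ) ∣ f1 (2 ^ m) ∨ (s : ℤ) ∣ f2 (2 ^ m) ∨ (s : ℤ) ∣ f6 (2 ^ m)) := by
      intro h
      obtain ⟨y, hy⟩ := adj_three hK hs hs3 h
      exact H.not_mul hs hsn (by norm_num) (by norm_num) h3mm (H.inn y) (by rwa [Sit.orderOf_conj hna])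
    refine ⟨hsp, ?_⟩
    rcases cover' hK hs (hsg.trans (orderOf_dvd_natCard g)) with (h | h | h | h | h | h) | h
    · exact absurd h hs2
    · exact absurd (Or.inl h) key
    · exact absurd (Or.inr (Or.inl h)) key
    · left; rw [four_eq hK]; exact h.mul_right _
    · left; rw [four_eq hK]; exact h.mul_left _
    · exact absurd (Or.inr (Or.inr h)) key
    · exact Or.inr h
  have hle : ((p : ℤ)) ^ 2 - 1 ≤ 2 * ((2 * m + 1 : ℕ) : ℤ) * ((orderOf g : ℕ) : ℤ) := by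
    have h1 := H.sq_le
    have h2 := le_two_nn H.odd
    have h3 := Nat.le_of_dvd (Nat.mul_pos (by omega) (orderOf_pos g)) hN
    have h4 : p ^ 2 ≤ 2 * ((2 * m + 1) * orderOf g) + 1 := by omega
    have h5 : ((p ^ 2 : ℕ) : ℤ) ≤ ((2 * ((2 * m + 1) * orderOf g) + 1 : ℕ) : ℤ) := by exact_mod_cast h4
    push_cast at h5 ⊢
    nlinarith
  have hfm : ((2 * m + 1 : ℕ) : ℤ) ≤ 2 * 2 ^ m - 1 := by
    have h1 := two_m_le m hm
    have h2 : ((2 * m + 1 + 1 : ℕ) : ℤ) ≤ ((2 * 2 ^ m : ℕ) : ℤ) := by exact_mod_cast h1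
    push_cast at h2 ⊢
    linarith
  have hgpos : (0 : ℤ) < ((orderOf g : ℕ) : ℤ) := by exact_mod_cast orderOf_pos g
  -- the exact value of `p`
  have hprod := prod_dvd (m := m) hK
  have hexact : ∀ A : ℤ, 0 ≤ A → (A = fP (2 ^ m) ∨ A = fM (2 ^ m)) → (p : ℤ) ∣ A → A = p := by
    intro A hA0 hA hpA
    obtain ⟨a, rfl⟩ := Int.eq_ofNat_of_zero_le hA0
    have hdvd : (a : ℤ) ∣ fP (2 ^ m) * fM (2 ^ m) := by
      rcases hA with h | h <;> rw [h]
      · exact dvd_mul_right _ _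
      · exact dvd_mul_left _ _
    have haS : a ∣ Nat.card ↥(twistedF4 K (2 ^ m)) := Int.natCast_dvd_natCast.1 (hdvd.trans hprod)
    congr 1
    refine eq_of_primes (Int.natCast_dvd_natCast.1 hpA) ?_ ?_
    · intro t ht hta
      by_contra hne
      have hta' : (t : ℤ) ∣ (a : ℤ) := Int.natCast_dvd_natCast.2 hta
      rcases hA with h | h
      · obtain ⟨y, hy⟩ := adj_fP hK hpp ht (Ne.symm hne) (h ▸ hpA) (h ▸ hta')
        exact H.not_adj hna ht.two_le hy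
      · obtain ⟨y, hy⟩ := adj_fM hK hpp ht (Ne.symm hne) (h ▸ hpA) (h ▸ hta')
        exact H.not_adj hna ht.two_le hy
    · intro h2
      obtain ⟨y, hy⟩ := exists_sq hK hpp (by rw [twelve_eq hK]; exact hpA.trans hdvd) (h2.trans haS)
      have h3 := H.iso hna (g := y) (by rw [hy]; exact dvd_pow_self p (by norm_num))
      rw [hy] at h3
      nlinarith
  have hP0 : 0 < fP (2 ^ m) := by unfold fP; positivity
  have hM0 : 0 < fM (2 ^ m) := by
    unfold fM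
    generalize ((2 : ℤ) ^ m) = b at *
    nlinarith [sq_nonneg (b ^ 2 - b)]
  -- the order of `g`
  have hgo : ((orderOf g : ℕ) : ℤ) ≤ ((Fintype.card K : ℕ) : ℤ) ^ 2 + 1 ∨
      ((orderOf g : ℕ) : ℤ) ∣ fP (2 ^ m) * fM (2 ^ m) := by
    by_cases hc : ∃ s : ℕ, s.Prime ∧ s ∣ orderOf g ∧ ((s : ℤ) ∣ fP (2 ^ m) ∨ (s : ℤ) ∣ fM (2 ^ m))
    · obtain ⟨s, hs, hsg, h⟩ := hc
      right
      rw [← twelve_eq hK]
      refine dvd_twelve hK hs hsg ?_
      rw [twelve_eq hK]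
      rcases h with h | h
      · exact h.mul_right _
      · exact h.mul_left _
    · left
      push Not at hc
      have h1 : orderOf g ∣ Fintype.card K ^ 2 + 1 := by
        refine dvd_four hK ?_
        intro s hs hsg
        rcases (hpr s hs hsg).2 with h | h | h
        · exact h
        · exact absurd h (hc s hs hsg).1
        · exact absurd h (hc s hs hsg).2
      have h2 := Nat.le_of_dvd (by omega) h1
      exact_mod_cast h2
  have hcp : IsCoprime ((orderOf g : ℕ) : ℤ) (p : ℤ) := by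
    rw [Nat.isCoprime_iff_coprime]
    rw [Nat.coprime_comm, Nat.Prime.coprime_iff_not_dvd hpp]
    intro h
    exact (hpr p hpp h).1 rfl
  have hcard := card_eq (m := m) hK
  rcases hpPM with h | h
  · -- `p = fP`
    have hpe := hexact _ hP0.le (Or.inl rfl) h
    have hb : ((orderOf g : ℕ) : ℤ) ≤ ((Fintype.card K : ℕ) : ℤ) ^ 2 + 1 := by
      rcases hgo with h1 | h1
      · exact h1
      · rw [hpe] at h1
        have h2 : ((orderOf g : ℕ) : ℤ) ∣ fM (2 ^ m) := hcp.dvd_of_dvd_mul_left h1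
        refine (Int.le_of_dvd hM0 h2).trans ?_
        rw [hcard]
        unfold fM
        generalize ((2 : ℤ) ^ m) = b at *
        nlinarith
    rw [hcard] at hb
    rw [← hpe] at hle
    unfold fP at hle
    generalize ((2 : ℤ) ^ m) = b at *
    have h1 : 2 * ((2 * m + 1 : ℕ) : ℤ) * ((orderOf g : ℕ) : ℤ) ≤ 2 * (2 * b - 1) * ((2 * b ^ 2) ^ 2 + 1) := by
      have hf0 : (0 : ℤ) ≤ ((2 * m + 1 : ℕ) : ℤ) := by positivity
      have h2 : 2 * ((2 * m + 1 : ℕ) : ℤ) * ((orderOf g : ℕ) : ℤ) ≤ 2 * (2 * b - 1) * ((orderOf g : ℕ) : ℤ) := by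
        have : 2 * ((2 * m + 1 : ℕ) : ℤ) ≤ 2 * (2 * b - 1) := by linarith
        exact mul_le_mul_of_nonneg_right this hgpos.le
      refine h2.trans (mul_le_mul_of_nonneg_left hb (by linarith))
    have h2 := hle.trans h1
    have hb0 : (0 : ℤ) < b := by linarith
    have h3 : 2 * (2 * b - 1) * ((2 * b ^ 2) ^ 2 + 1) < (4 * b ^ 4 + 4 * b ^ 3 + 2 * b ^ 2 + 2 * b + 1) ^ 2 - 1 := by
      have e : (4 * b ^ 4 + 4 * b ^ 3 + 2 * b ^ 2 + 2 * b + 1) ^ 2 - 1 - 2 * (2 * b - 1) * ((2 * b ^ 2) ^ 2 + 1) =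
        16 * b ^ 8 + 32 * b ^ 7 + 32 * b ^ 6 + 16 * b ^ 5 + 36 * b ^ 4 + 16 * b ^ 3 + 8 * b ^ 2 + 2 := by ring
      have : 0 < 16 * b ^ 8 + 32 * b ^ 7 + 32 * b ^ 6 + 16 * b ^ 5 + 36 * b ^ 4 + 16 * b ^ 3 + 8 * b ^ 2 + 2 := by
        positivity
      linarith
    linarith
  · -- `p = fM`
    have hpe := hexact _ hM0.le (Or.inr rfl) h
    have hb : ((orderOf g : ℕ) : ℤ) ≤ fP (2 ^ m) := by
      rcases hgo with h1 | h1
      · refine h1.trans ?_
        rw [hcard]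
        unfold fP
        generalize ((2 : ℤ) ^ m) = b at *
        nlinarith
      · rw [hpe, mul_comm] at h1
        have h2 : ((orderOf g : ℕ) : ℤ) ∣ fP (2 ^ m) := hcp.dvd_of_dvd_mul_left h1
        exact Int.le_of_dvd hP0 h2
    rw [← hpe] at hle
    unfold fM at hle
    unfold fP at hb
    generalize ((2 : ℤ) ^ m) = b at *
    have h1 : 2 * ((2 * m + 1 : ℕ) : ℤ) * ((orderOf g : ℕ) : ℤ) ≤
        2 * (2 * b - 1) * (4 * b ^ 4 + 4 * b ^ 3 + 2 * b ^ 2 + 2 * b + 1) := by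
      have h2 : 2 * ((2 * m + 1 : ℕ) : ℤ) * ((orderOf g : ℕ) : ℤ) ≤ 2 * (2 * b - 1) * ((orderOf g : ℕ) : ℤ) := by
        have : 2 * ((2 * m + 1 : ℕ) : ℤ) ≤ 2 * (2 * b - 1) := by linarith
        exact mul_le_mul_of_nonneg_right this hgpos.le
      refine h2.trans (mul_le_mul_of_nonneg_left hb (by linarith))
    have h2 := hle.trans h1
    obtain ⟨c, hc, rfl⟩ : ∃ c : ℤ, 0 ≤ c ∧ b = c + 2 := ⟨b - 2, by linarith, by ring⟩
    have h3 : 2 * (2 * (c + 2) - 1) * (4 * (c + 2) ^ 4 + 4 * (c + 2) ^ 3 + 2 * (c + 2) ^ 2 + 2 * (c + 2) + 1) <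
        (4 * (c + 2) ^ 4 - 4 * (c + 2) ^ 3 + 2 * (c + 2) ^ 2 - 2 * (c + 2) + 1) ^ 2 - 1 := by
      have : 0 < (4 * (c + 2) ^ 4 - 4 * (c + 2) ^ 3 + 2 * (c + 2) ^ 2 - 2 * (c + 2) + 1) ^ 2 - 1 -
        2 * (2 * (c + 2) - 1) * (4 * (c + 2) ^ 4 + 4 * (c + 2) ^ 3 + 2 * (c + 2) ^ 2 + 2 * (c + 2) + 1) := by
        ring_nf
        positivity
      linarith
    linarith

omit [Field K] [Fintype K] hm hK in
/-- **Row `²F₄(u)`.** -/
theorem row_tf4 {S : Type*} [Group S] [Finite S] [IsSimpleGroup S] (hna : ¬ IsMulCommutative S) {p m u : ℕ}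
    {X : Subgroup (MulAut S)} (H : Sit S p m X) (h : H436.IsNamed (.tf4 u) S) : False := by
  obtain ⟨K, _, _, n, hn, hK, hu, ⟨e⟩⟩ := h.real
  have hs : IsSimpleGroup ↥(twistedF4 K (2 ^ n)) := e.symm.isSimpleGroup
  have hna' : ¬ IsMulCommutative ↥(twistedF4 K (2 ^ n)) := by
    intro h1
    apply hna
    refine ⟨⟨fun a b => ?_⟩⟩
    apply e.injective
    rw [map_mul, map_mul]
    exact h1.1.1 _ _
  exact row hn (hK.trans hu) hna' (H.congr e)

end Cfsg.Agent.H659.PglTwF4
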