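import Cfsg.Agent.H493.PGF4T
import Cfsg.Agent.KFacts.TwF4.Torus
import Cfsg.Agent.KFacts.TwF4.Sys

/-!
# Adjacency in the prime graph of `²F₄(q)`, `q = 2 b²`, `b = 2 ^ m` (helper659)

* `exists_pair` : commuting elements of prime orders `r`, `s` from two functionals adapted to the same `w`;
* `adj_three` : `s ≠ 3` dividing `q - 1`, `q + 1`, `q² - q + 1`: an element of order divisible by `3 s`;
* `adj_fp`, `adj_fm` : primes of `q ± √(2q) + 1` are adjacent to the primes of `q - 1`;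
* `adj_fP`, `adj_fM` : two different primes dividing one of the factors of `q⁴ - q² + 1` are adjacent;
* `adj_four` : `s ∣ q - 1`: an element of order divisible by `4 s`;
* `not_cyclic` : `s ∣ q - 1`: noncyclic Sylow `s`-subgroups.
-/

set_option autoImplicit false
set_option linter.unusedSectionVars false

namespace Cfsg.Agent.H659.TwF4Adj

open CoxeterSystem Cfsg Cfsg.Lie Cfsg.Lie.ChevalleyDatum
open Cfsg.Agent.ChevalleyStructure Cfsg.Agent.ChevalleyStructure.Elts Cfsg.Agent.ChevalleyStructure.CoxeterGeom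
  Cfsg.Agent.ChevalleyStructure.CoxeterGeomTypes Cfsg.Agent.ChevalleyStructure.NPerm
open Cfsg.Agent.Tits.Roots Cfsg.Agent.Tits.Core Cfsg.Agent.Nodes Cfsg.Agent.Nodes.Reps Cfsg.Agent.Nodes.BNOf
  Cfsg.Agent.Nodes.RGDChev
open Cfsg.Agent.KFacts.RgdField Cfsg.Agent.KFacts.RgdChevCoord Cfsg.Agent.BpExc.TorCent Cfsg.Agent.BpExc.TorChev
open Cfsg.Agent.GpExc.Field Cfsg.Agent.BpExc.Tow Cfsg.Agent.BpExc.TowChev
  Cfsg.Agent.BpExc.LangFr Cfsg.Agent.BpExc Cfsg.Agent.H129.TorusChar Cfsg.Agent.H129.TorusUntw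
open Cfsg.Agent.ChevalleyStructure.TwF4.Fix (isLong)
open Cfsg.Agent.H493.F4End Cfsg.Agent.H493.F4Tor Cfsg.Agent.H493.PGF4T Cfsg.Agent.H493

universe u

section Main

variable {K : Type u} [Field K] [Fintype K] {m : ℕ} (hK : Fintype.card K = 2 ^ (2 * m + 1))

include hK

/-- **Two primes.** -/
theorem exists_pair {C : List (Fin 4 × H129.WData.Mat 4)} {Am : H129.WData.Mat 4}
    (hA : ∀ i j, Am i j = cartanOf chevF4 4 i j) (hC : H129.WData.ChainOK Am C) {Th : Fin 4 → Fin 4 → ℤ}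
    (hTh : ∀ j, H129.WData.hd C (rv j) = Th j)
    {r s : ℕ} (hr : r.Prime) (hs : s.Prime) (hr2 : r ≠ 2) (hs2 : s ≠ 2)
    {L U L' U' : Fin 4 → ℤ} (hL : ∀ j, (r : ℤ) ∣ ∑ i, Th j i * L i - (eN j * 2 ^ m : ℕ) * L j)
    (hU : ¬ (r : ℤ) ∣ ∑ i, U i * L i) (hL' : ∀ j, (s : ℤ) ∣ ∑ i, Th j i * L' i - (eN j * 2 ^ m : ℕ) * L' j)
    (hU' : ¬ (s : ℤ) ∣ ∑ i, U' i * L' i) :
    ∃ x y : ↥(twistedF4 K (2 ^ m)), x * y = y * x ∧ orderOf x = r ∧ orderOf y = s := by
  classical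
  have : Fact (Nat.Prime 2) := ⟨Nat.prime_two⟩
  have hc2 : CharP K 2 := F4Fixed.charP_two hK
  obtain ⟨p, e, hpF, hpc, hpk, he, hpe, hk⟩ := exists_closure hK
  have hp2 : p = 2 := CharP.eq K hpc hc2
  subst hp2
  let k := AlgebraicClosure K
  let f : K →+* k := algebraMap K k
  let cs := CoxeterMatrix.F₄.toCoxeterSystem
  have hN : NSys CoxeterMatrix.F₄ (TT chevF4 k) (nc hp k) := nsys_of_locFin hp cs hk 2
  obtain ⟨n, hn⟩ := exists_rp cs hN (cs.wordProd (C.map Prod.fst))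
  obtain ⟨z, hz⟩ := F4Lang.lang_ste m n
  have hw : ∀ j, rep cs hp.isCartan (cs.wordProd (C.map Prod.fst)) (sr (rv j)) = Th j := fun j => by
    rw [H129.WData.chain_rep hp cs hA hC, hTh]
  obtain ⟨t, ht, h3, h4⟩ := exists_t cs hk hn hw m hr hr2 hL hU
  obtain ⟨t', ht', h3', h4'⟩ := exists_t cs hk hn hw m hs hs2 hL' hU'
  have hfix : ∀ y : ↥(chevF4.group k), n * ste k m y * n⁻¹ = y → ste k m (z * y * z⁻¹) = z * y * z⁻¹ := by
    intro y h1
    have h2 : ste k m z = z * n := by rw [hz]; group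
    rw [map_mul, map_mul, map_inv, h2]
    calc z * n * ste k m y * (z * n)⁻¹ = z * (n * ste k m y * n⁻¹) * z⁻¹ := by group
      _ = _ := by rw [h1]
  obtain ⟨g, hg, hgm⟩ := exists_fin f hK (hfix t h3)
  obtain ⟨g', hg', hgm'⟩ := exists_fin f hK (hfix t' h3')
  have ho : ∀ y : ↥(chevF4.group k), orderOf (z * y * z⁻¹) = orderOf y := fun y =>
    orderOf_injective (MulAut.conj z).toMonoidHom (MulAut.conj z).injective y
  have hcomm : t * t' = t' * t := TT_comm hp t ht t' ht'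
  have hgo : orderOf (g : GL chevF4.Idx K) = r := by
    rw [Subgroup.orderOf_coe, ← orderOf_injective (emb hD f) (emb_injective hD f) g, hg, ho, h4]
  have hgo' : orderOf (g' : GL chevF4.Idx K) = s := by
    rw [Subgroup.orderOf_coe, ← orderOf_injective (emb hD f) (emb_injective hD f) g', hg', ho, h4']
  have hgg : g * g' = g' * g := by
    apply emb_injective hD f
    rw [map_mul, map_mul, hg, hg']
    calc z * t * z⁻¹ * (z * t' * z⁻¹) = z * (t * t') * z⁻¹ := by group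
      _ = z * (t' * t) * z⁻¹ := by rw [hcomm]
      _ = _ := by group
  refine ⟨(⟨g, hgm⟩ : ↥(twistedF4 K (2 ^ m))), ⟨g', hgm'⟩, ?_, ?_, ?_⟩
  · apply Subtype.ext
    exact congrArg (fun x : ↥(chevF4.group K) => (x : GL chevF4.Idx K)) hgg
  · rw [Subgroup.orderOf_mk, hgo]
  · rw [Subgroup.orderOf_mk, hgo']

theorem adj_cert {C : List (Fin 4 × H129.WData.Mat 4)} (hC : H129.WData.ChainOK Am C) {Th : H129.WData.Mat 4}
    (hTh : ∀ j, H129.WData.hd C (rv j) = Th j)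
    {F : ℤ → ℤ} {L : ℤ → Fin 4 → ℤ} {U : Fin 4 → ℤ} {G : ℤ → Fin 4 → ℤ} {c : ℤ} {H : ℤ → ℤ}
    (h : Cert Th F L U G c H)
    {F' : ℤ → ℤ} {L' : ℤ → Fin 4 → ℤ} {U' : Fin 4 → ℤ} {G' : ℤ → Fin 4 → ℤ} {c' : ℤ} {H' : ℤ → ℤ}
    (h' : Cert Th F' L' U' G' c' H') {r s : ℕ} (hr : r.Prime) (hs : s.Prime) (hrs : r ≠ s) (h1 : (r : ℤ) ∣ F (2 ^ m))
    (h2 : (s : ℤ) ∣ F' (2 ^ m)) : ∃ x : ↥(twistedF4 K (2 ^ m)), r * s ∣ orderOf x := by
  obtain ⟨x, y, hxy, hx, hy⟩ := exists_pair hK hA hC hTh hr hs (h.ne_two hr h1) (h'.ne_two hs h2) (h.hL h1)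
    (h.hU hr h1) (h'.hL h2) (h'.hU hs h2)
  refine ⟨x * y, ?_⟩
  have hc : Commute x y := hxy
  rw [hc.orderOf_mul_eq_mul_orderOf_of_coprime (by rw [hx, hy]; exact (Nat.coprime_primes hr hs).2 hrs), hx, hy]

/-- adjacency to `3` -/
theorem adj_three {s : ℕ} (hs : s.Prime) (h3 : s ≠ 3)
    (h : (s : ℤ) ∣ f1 (2 ^ m) ∨ (s : ℤ) ∣ f2 (2 ^ m) ∨ (s : ℤ) ∣ f6 (2 ^ m)) :
    ∃ x : ↥(twistedF4 K (2 ^ m)), s * 3 ∣ orderOf x := by
  have ht := three_dvd m
  rcases h with h | h | h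
  · exact adj_cert hK chainA_ok hThA certA_f1 certA_f2 hs Nat.prime_three h3 h ht.1
  · exact adj_cert hK chainA_ok hThA certA_f2 certA_f2 hs Nat.prime_three h3 h ht.1
  · exact adj_cert hK chainD_ok hThD certD_f6 certD_f6 hs Nat.prime_three h3 h ht.2

theorem adj_f2 {r s : ℕ} (hr : r.Prime) (hs : s.Prime) (hrs : r ≠ s) (h1 : (r : ℤ) ∣ f2 (2 ^ m))
    (h2 : (s : ℤ) ∣ f1 (2 ^ m)) : ∃ x : ↥(twistedF4 K (2 ^ m)), r * s ∣ orderOf x :=
  adj_cert hK chainA_ok hThA certA_f2 certA_f1 hr hs hrs h1 h2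

theorem adj_fp {r s : ℕ} (hr : r.Prime) (hs : s.Prime) (hrs : r ≠ s) (h1 : (r : ℤ) ∣ fp (2 ^ m))
    (h2 : (s : ℤ) ∣ f1 (2 ^ m)) : ∃ x : ↥(twistedF4 K (2 ^ m)), r * s ∣ orderOf x :=
  adj_cert hK chainB_ok hThB certB_fp certB_f1 hr hs hrs h1 h2

theorem adj_fm {r s : ℕ} (hr : r.Prime) (hs : s.Prime) (hrs : r ≠ s) (h1 : (r : ℤ) ∣ fm (2 ^ m))
    (h2 : (s : ℤ) ∣ f1 (2 ^ m)) : ∃ x : ↥(twistedF4 K (2 ^ m)), r * s ∣ orderOf x :=
  adj_cert hK chainC_ok hThC certC_fm certC_f1 hr hs hrs h1 h2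

theorem adj_fP {r s : ℕ} (hr : r.Prime) (hs : s.Prime) (hrs : r ≠ s) (h1 : (r : ℤ) ∣ fP (2 ^ m))
    (h2 : (s : ℤ) ∣ fP (2 ^ m)) : ∃ x : ↥(twistedF4 K (2 ^ m)), r * s ∣ orderOf x :=
  adj_cert hK chainEp_ok hThEp certEp_fP certEp_fP hr hs hrs h1 h2

theorem adj_fM {r s : ℕ} (hr : r.Prime) (hs : s.Prime) (hrs : r ≠ s) (h1 : (r : ℤ) ∣ fM (2 ^ m))
    (h2 : (s : ℤ) ∣ fM (2 ^ m)) : ∃ x : ↥(twistedF4 K (2 ^ m)), r * s ∣ orderOf x :=
  adj_cert hK chainEm_ok hThEm certEm_fM certEm_fM hr hs hrs h1 h2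

end Main

section Tor

open Cfsg.Agent.ChevalleyStructure.TwF4.TwGen Cfsg.Agent.ChevalleyStructure.TwF4.Torus
  Cfsg.Agent.ChevalleyStructure.TwF4.TwistedFix Cfsg.Agent.KFacts.TwF4.Inst Cfsg.Agent.KFacts.TwF4

variable {K : Type u} [Field K] [Fintype K] {m : ℕ} (hK : Fintype.card K = 2 ^ (2 * m + 1))

omit [Fintype K] in
/-- a prime divisor `s` of `|Kˣ|`: an element of order `s` -/
theorem exists_unit [Finite K] {s : ℕ} (hs : s.Prime) (h : s ∣ Nat.card K - 1) : ∃ d : Kˣ, orderOf d = s := by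
  have := Fact.mk hs
  rw [← Nat.card_units] at h
  exact exists_prime_orderOf_dvd_card' s h

include hK

/-- **Elements of order `4 s`, `s ∣ q - 1`.** -/
theorem adj_four {s : ℕ} (hs : s.Prime) (h : s ∣ Nat.card K - 1) :
    ∃ x : ↥(twistedF4 K (2 ^ m)), s * 4 ∣ orderOf x := by
  classical
  have hc2 : CharP K 2 := F4Fixed.charP_two hK
  obtain ⟨φ, hφ⟩ := exists_rln hK
  obtain ⟨d, hd⟩ := exists_unit hs h
  obtain ⟨t, -, -, ht⟩ := exists_torus hφ 1 d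
  let Sy := sys hφ
  have hSe : ∀ a p u, Sy.e a p u = re hφ a p u := fun a p u => rfl
  -- the element of order four
  have hz : re hφ 0 0 0 = 1 := by
    have h1 := Sy.e_mul 0 0 0 0 0
    rw [hSe, map_zero] at h1
    simp only [add_zero, mul_zero] at h1
    exact mul_eq_left.1 h1
  have hsq : re hφ 0 1 0 * re hφ 0 1 0 = re hφ 0 0 1 := by
    have h1 := Sy.e_mul 0 1 0 1 0
    rw [hSe, map_one] at h1
    rw [h1]
    change Sy.e 0 (1 + 1) (0 + 0 + 1 * 1) = Sy.e 0 0 1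
    rw [CharTwo.add_self_eq_zero, add_zero, zero_add, mul_one]
  have hsq2 : re hφ 0 0 1 * re hφ 0 0 1 = 1 := by
    have h1 := Sy.e_mul 0 0 1 0 1
    rw [hSe, map_zero] at h1
    rw [h1, ← hz]
    change Sy.e 0 (0 + 0) (1 + 1 + 0 * 0) = Sy.e 0 0 0
    rw [zero_mul, add_zero, add_zero, CharTwo.add_self_eq_zero]
  have h4 : orderOf (re hφ 0 1 0) = 4 := by
    have : orderOf (re hφ 0 1 0) = 2 ^ (1 + 1) := by
      apply orderOf_eq_prime_pow
      · rw [pow_one, pow_two, hsq]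
        intro h0
        have := (Sy.injE 0 0 1 0 0 (h0.trans hz.symm)).2
        exact one_ne_zero this
      · rw [show (2 : ℕ) ^ (1 + 1) = 2 * 2 by norm_num, pow_mul, pow_two (re hφ 0 1 0), hsq, pow_two, hsq2]
    rw [this]; norm_num
  have hct : t * re hφ 0 1 0 * t⁻¹ = re hφ 0 1 0 := by
    rw [ht, chE_zero, Units.val_one, map_one]
    congr 1 <;> ring
  -- the order of `t`
  have hpow : ∀ n : ℕ, ∀ p u : K, ∃ u', t ^ n * re hφ 1 p u * (t ^ n)⁻¹ = re hφ 1 (((d ^ n : Kˣ) : K) * p) u' := by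
    intro n
    induction n with
    | zero => intro p u; exact ⟨u, by simp⟩
    | succ n ih =>
      intro p u
      obtain ⟨u', hu'⟩ := ih ((d : K) * p) ((d : K) * φ (d : K) * u)
      refine ⟨u', ?_⟩
      have h1 := ht 1 p u
      rw [chE_one] at h1
      rw [pow_succ, show t ^ n * t * re hφ 1 p u * (t ^ n * t)⁻¹ = t ^ n * (t * re hφ 1 p u * t⁻¹) * (t ^ n)⁻¹ by group,
        h1, hu', pow_succ]
      congr 1
      push_cast
      ring
  have hst : s ∣ orderOf t := by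
    obtain ⟨u', hu'⟩ := hpow (orderOf t) 1 0
    rw [pow_orderOf_eq_one, one_mul, inv_one, mul_one, mul_one] at hu'
    have h1 := (Sy.injE 1 _ _ _ _ hu').1
    rw [← hd]
    apply orderOf_dvd_of_pow_eq_one
    exact Units.ext h1.symm
  obtain ⟨k, hk⟩ := hst
  have hk0 : k ≠ 0 := by
    rintro rfl
    rw [mul_zero] at hk
    exact (orderOf_pos t).ne' hk
  have hto : orderOf (t ^ k) = s := by
    rw [orderOf_pow_of_dvd hk0 (by rw [hk]; exact Dvd.intro_left _ rfl), hk, Nat.mul_div_cancel _ (Nat.pos_of_ne_zero hk0)]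
  have hc : Commute (t ^ k) (re hφ 0 1 0) := by
    apply Commute.pow_left
    exact (mul_inv_eq_iff_eq_mul.1 hct)
  have hodd : s ≠ 2 := by
    rintro rfl
    have h1 : 1 ≤ 2 ^ (2 * m + 1) := Nat.one_le_two_pow
    rw [Nat.card_eq_fintype_card, hK, pow_succ] at h
    omega
  have hcop : Nat.Coprime s 4 := by
    rw [show (4 : ℕ) = 2 ^ 2 by norm_num]
    exact Nat.Coprime.pow_right _ ((Nat.coprime_primes hs Nat.prime_two).2 hodd)
  refine ⟨t ^ k * re hφ 0 1 0, ?_⟩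
  rw [hc.orderOf_mul_eq_mul_orderOf_of_coprime (by rw [hto, h4]; exact hcop), hto, h4]

/-- **The Sylow `s`-subgroups for `s ∣ q - 1` are not cyclic.** -/
theorem not_cyclic {s : ℕ} (hs : s.Prime) (h : s ∣ Nat.card K - 1) (P : Sylow s ↥(twistedF4 K (2 ^ m))) :
    ¬ IsCyclic P := by
  classical
  have := Fact.mk hs
  have hc2 : CharP K 2 := F4Fixed.charP_two hK
  obtain ⟨d, hd⟩ := exists_unit hs h
  let τ : Kˣ × Kˣ →* ↥(twistedF4 K (2 ^ m)) :=
    { toFun := fun a => ⟨T (tc (2 ^ m) a.1 a.2), (TwF4.TorusFix.T_mem_iff hK _).2 ⟨_, _, rfl⟩⟩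
      map_one' := by
        apply Subtype.ext
        change T (tc (2 ^ m) 1 1) = (1 : GL chevF4.Idx K)
        have : tc (2 ^ m) (1 : Kˣ) 1 = 1 := by
          have h1 := tc_mul (2 ^ m) (1 : Kˣ) 1 1 1
          rw [one_mul] at h1
          exact mul_eq_left.1 h1
        rw [this, map_one]
      map_mul' := by
        intro a b
        apply Subtype.ext
        change T (tc (2 ^ m) (a.1 * b.1) (a.2 * b.2)) = T (tc (2 ^ m) a.1 a.2) * T (tc (2 ^ m) b.1 b.2)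
        rw [← map_mul, tc_mul] }
  have hτ : Function.Injective τ := by
    intro a b hab
    have h1 : T (tc (2 ^ m) a.1 a.2) = (T (tc (2 ^ m) b.1 b.2) : GL chevF4.Idx K) := congrArg Subtype.val hab
    have h2 := T_injective h1
    exact Prod.ext (congrFun h2 2) (congrFun h2 3)
  intro hP
  -- the subgroup generated by the two elements
  let E : Subgroup (Kˣ × Kˣ) := (Subgroup.zpowers d).prod (Subgroup.zpowers d)
  have hE : Nat.card (E.map τ) = s ^ 2 := by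
    rw [Subgroup.card_map_of_injective hτ, Nat.card_congr (Subgroup.prodEquiv _ _).toEquiv, Nat.card_prod,
      Nat.card_zpowers, hd, pow_two]
  have hEp : IsPGroup s (E.map τ) := IsPGroup.of_card hE
  obtain ⟨Q, hQ⟩ := hEp.exists_le_sylow
  have hQc : IsCyclic Q := by
    have e := Sylow.equiv P Q
    exact isCyclic_of_surjective e e.surjective
  have hEc : IsCyclic (E.map τ) :=
    isCyclic_of_injective (Subgroup.inclusion hQ) (Subgroup.inclusion_injective hQ)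
  obtain ⟨g, hg⟩ := hEc.exists_generator
  have h1 : orderOf g = Nat.card (E.map τ) := orderOf_eq_card_of_forall_mem_zpowers hg
  have h2 : g ^ s = 1 := by
    obtain ⟨y, hy, hyg⟩ := g.2
    apply Subtype.ext
    rw [Subgroup.coe_pow, ← hyg, ← map_pow]
    have : y ^ s = 1 := by
      obtain ⟨h5, h6⟩ := Subgroup.mem_prod.1 hy
      obtain ⟨i, hi⟩ := h5
      obtain ⟨j, hj⟩ := h6
      have hds : d ^ s = 1 := by rw [← hd]; exact pow_orderOf_eq_one d
      apply Prod.ext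
      · rw [Prod.pow_fst, ← hi]
        change (d ^ i) ^ s = 1
        rw [← zpow_natCast, ← zpow_mul, mul_comm, zpow_mul, zpow_natCast, hds, one_zpow]
      · rw [Prod.pow_snd, ← hj]
        change (d ^ j) ^ s = 1
        rw [← zpow_natCast, ← zpow_mul, mul_comm, zpow_mul, zpow_natCast, hds, one_zpow]
    rw [this, map_one, Subgroup.coe_one]
  have h3 := Nat.le_of_dvd hs.pos (orderOf_dvd_of_pow_eq_one h2)
  rw [h1, hE] at h3
  have := hs.two_le
  nlinarith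

end Tor

end Cfsg.Agent.H659.TwF4Adj
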