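import Cfsg.Agent.H659.CovCore

/-!
# S2499, tasks OG: comparison of forms

Let `H ≤ GL ι F` fix a form `f`.

* `sl_perp`   : if `SL ≤ H`, then `f a w = 0` for independent `a`, `w` (matrix version: distinct basis vectors);
* `symp_prop` : if `H` contains all isometries of the symplectic form `f₂`, and `f` is symplectic, then `f = κ f₂`;
* `su_perp`   : if `H` contains all isometries of determinant one of the unitary form `B`, then `f a w = 0` for `a`
  anisotropic (for `B`) and `w ⊥ a`;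
* `om_perp`   : the same for `Ω(Q)`, `q` odd.
-/

set_option autoImplicit false

namespace Cfsg.Agent.H659.CovForms

open Cfsg Cfsg.Geo Cfsg.Agent.H278.Cov Cfsg.Agent.H659.CovCore
open scoped MatrixGroups Matrix

universe u

section Dil

variable {ι : Type} [Fintype ι] [DecidableEq ι] {F : Type u} [Field F]

/-- the matrix of `v ↦ v + φ v • a` -/
noncomputable def dil (φ : (ι → F) →ₗ[F] F) (a : ι → F) (h : 1 + φ a ≠ 0) : GL ι F :=
  Matrix.GeneralLinearGroup.mkOfDetNeZero (LinearMap.toMatrix' (LinearMap.transvection φ a)) (by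
    rw [LinearMap.det_toMatrix', LinearMap.transvection.det]; exact h)

theorem dil_mulVec (φ : (ι → F) →ₗ[F] F) (a : ι → F) (h : 1 + φ a ≠ 0) (v : ι → F) :
    ((dil φ a h : GL ι F) : Matrix ι ι F) *ᵥ v = v + φ v • a := by
  change (LinearMap.toMatrix' (LinearMap.transvection φ a)) *ᵥ v = _
  rw [← Matrix.toLin'_apply, Matrix.toLin'_toMatrix', LinearMap.transvection.apply]

theorem dil_det (φ : (ι → F) →ₗ[F] F) (a : ι → F) (h : 1 + φ a ≠ 0) :
    ((Matrix.GeneralLinearGroup.det (dil φ a h) : Fˣ) : F) = 1 + φ a := by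
  change Matrix.det (LinearMap.toMatrix' (LinearMap.transvection φ a)) = _
  rw [LinearMap.det_toMatrix', LinearMap.transvection.det]

/-- left linear functions of two arguments -/
structure LL (f : (ι → F) → (ι → F) → F) : Prop where
  add : ∀ x y v, f (x + y) v = f x v + f y v
  smul : ∀ (c : F) (x v : ι → F), f (c • x) v = c * f x v

omit [Fintype ι] [DecidableEq ι] in
theorem LL.zero {f : (ι → F) → (ι → F) → F} (hf : LL f) (v : ι → F) : f 0 v = 0 := by
  have := hf.smul 0 0 v
  rwa [zero_smul, zero_mul] at this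

omit [Fintype ι] [DecidableEq ι] in
theorem LL.neg {f : (ι → F) → (ι → F) → F} (hf : LL f) (x v : ι → F) : f (-x) v = - f x v := by
  have := hf.smul (-1) x v
  rwa [neg_one_smul, neg_one_mul] at this

omit [Fintype ι] [DecidableEq ι] in
theorem LL.sub {f : (ι → F) → (ι → F) → F} (hf : LL f) (x y v : ι → F) : f (x - y) v = f x v - f y v := by
  rw [sub_eq_add_neg, hf.add, hf.neg, sub_eq_add_neg]

/-- the functional `f(·, a)` -/
def fn {f : (ι → F) → (ι → F) → F} (hf : LL f) (a : ι → F) : (ι → F) →ₗ[F] F where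
  toFun v := f v a
  map_add' x y := hf.add x y a
  map_smul' c x := by simp only [hf.smul, smul_eq_mul, RingHom.id_apply]

omit [Fintype ι] [DecidableEq ι] in
@[simp] theorem fn_apply {f : (ι → F) → (ι → F) → F} (hf : LL f) (a v : ι → F) : fn hf a v = f v a := rfl

theorem fixes_of_mem {H : Subgroup (GL ι F)} {f : (ι → F) → (ι → F) → F} (hfix : FixesForm (matrixSet H) f)
    {g : GL ι F} (hg : g ∈ H) (u v : ι → F) :
    f ((g : Matrix ι ι F) *ᵥ u) ((g : Matrix ι ι F) *ᵥ v) = f u v :=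
  hfix _ ⟨g, hg, rfl⟩ u v

end Dil

/-! ### `SL` -/

section SL

variable {ι : Type} [Fintype ι] [DecidableEq ι] {F : Type u} [Field F]

theorem sl_perp {H : Subgroup (GL ι F)} (hSL : specialLinear ι F ≤ H) {f : (ι → F) → (ι → F) → F}
    (hf : LL f) (hfix : FixesForm (matrixSet H) f) (φ : (ι → F) →ₗ[F] F) {a w u : ι → F}
    (ha : φ a = 0) (hw : φ w = 0) (hu : φ u = 1) : f a w = 0 := by
  have h : 1 + φ a ≠ 0 := by rw [ha, add_zero]; exact one_ne_zero
  have hmem : dil φ a h ∈ H := by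
    apply hSL
    apply Units.ext
    rw [dil_det, ha, add_zero]; rfl
  have h1 := fixes_of_mem hfix hmem u w
  rw [dil_mulVec, dil_mulVec, hu, hw, one_smul, zero_smul, add_zero, hf.add] at h1
  simpa using h1

/-- `SL` fixes no non-zero alternating form (dimension at least 3) -/
theorem sl_alternating {H : Subgroup (GL ι F)} (hSL : specialLinear ι F ≤ H) (hn : 3 ≤ Fintype.card ι)
    {f : (ι → F) → (ι → F) → F} (hf : IsBilinearForm f) (halt : ∀ v, f v v = 0)
    (hfix : FixesForm (matrixSet H) f) (u v : ι → F) : f u v = 0 := by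
  have hl : LL f := ⟨hf.add_left, hf.smul_left⟩
  have hr : LL (fun x y => f y x) := ⟨fun x y v => hf.add_right v x y, fun c x v => hf.smul_right c v x⟩
  have key : ∀ i j : ι, f (Pi.single i 1) (Pi.single j 1) = 0 := by
    intro i j
    by_cases hij : i = j
    · rw [hij]; exact halt _
    · obtain ⟨k, hk⟩ : ∃ k, k ∉ ({i, j} : Finset ι) := by
        by_contra hcon
        push Not at hcon
        have h1 : (Finset.univ : Finset ι) ⊆ {i, j} := fun x _ => hcon x
        have h2 := Finset.card_le_card h1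
        have h3 : ({i, j} : Finset ι).card ≤ 2 := Finset.card_le_two
        rw [Finset.card_univ] at h2
        omega
      simp only [Finset.mem_insert, Finset.mem_singleton, not_or] at hk
      refine sl_perp hSL hl hfix (LinearMap.proj k) (u := Pi.single k 1) ?_ ?_ ?_
      · simp [hk.1]
      · simp [hk.2]
      · simp
  have h1 : ∀ j : ι, fn hl (Pi.single j 1) = 0 := by
    intro j
    apply (Pi.basisFun F ι).ext
    intro i
    rw [Pi.basisFun_apply, fn_apply, LinearMap.zero_apply]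
    exact key i j
  have h2 : fn hr u = 0 := by
    apply (Pi.basisFun F ι).ext
    intro j
    rw [Pi.basisFun_apply, fn_apply, LinearMap.zero_apply]
    have := LinearMap.congr_fun (h1 j) u
    exact this
  exact LinearMap.congr_fun h2 v

end SL

/-! ### symplectic forms -/

section Symp

variable {ι : Type} [Fintype ι] [DecidableEq ι] {F : Type u} [Field F]

omit [Fintype ι] [DecidableEq ι] in
/-- a vector outside two hyperplanes -/
theorem exists_both {f : (ι → F) → (ι → F) → F} (hl : LL f) {a b : ι → F} (ha : ∃ x, f x a ≠ 0) (hb : ∃ x, f x b ≠ 0) :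
    ∃ x, f x a ≠ 0 ∧ f x b ≠ 0 := by
  obtain ⟨x, hx⟩ := ha
  obtain ⟨y, hy⟩ := hb
  by_cases h1 : f x b = 0
  · by_cases h2 : f y a = 0
    · exact ⟨x + y, by rw [hl.add, h2, add_zero]; exact hx, by rw [hl.add, h1, zero_add]; exact hy⟩
    · exact ⟨y, h2, hy⟩
  · exact ⟨x, hx, h1⟩

/-- if all isometries of the symplectic form `f₂` lie in `H` and `H` fixes the symplectic form `f`, then `f = κ f₂` -/
theorem symp_prop {H : Subgroup (GL ι F)} {f f₂ : (ι → F) → (ι → F) → F} (hf : IsSymplecticForm f)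
    (hf₂ : IsSymplecticForm f₂) (hfix : FixesForm (matrixSet H) f)
    (hH : ∀ x : GL ι F, FixesForm {(x : Matrix ι ι F)} f₂ → x ∈ H) :
    ∃ κ : F, ∀ u v, f u v = κ * f₂ u v := by
  have hl : LL f := ⟨hf.bilinear.add_left, hf.bilinear.smul_left⟩
  have hl₂ : LL f₂ := ⟨hf₂.bilinear.add_left, hf₂.bilinear.smul_left⟩
  have key : ∀ a v w, f₂ w a * f v a = f₂ v a * f w a := by
    intro a v w
    have h0 : 1 + fn hl₂ a a ≠ 0 := by rw [fn_apply, hf₂.alternating, add_zero]; exact one_ne_zero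
    have hmem : dil (fn hl₂ a) a h0 ∈ H := by
      apply hH
      rintro _ rfl x y
      simp only [dil_mulVec, fn_apply]
      rw [hl₂.add, hl₂.smul, hf₂.bilinear.add_right, hf₂.bilinear.add_right, hf₂.bilinear.smul_right,
        hf₂.bilinear.smul_right, hf₂.alternating, hf₂.skew a y]
      ring
    have h1 := fixes_of_mem hfix hmem v w
    simp only [dil_mulVec, fn_apply] at h1
    rw [hl.add, hl.smul, hf.bilinear.add_right, hf.bilinear.add_right, hf.bilinear.smul_right,
      hf.bilinear.smul_right, hf.alternating, hf.skew a w] at h1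
    linear_combination h1
  -- the constant
  have hk : ∀ a, a ≠ 0 → ∃ κ : F, ∀ v, f v a = κ * f₂ v a := by
    intro a ha
    obtain ⟨w, hw⟩ := (hf₂.nondegenerate a ha).1
    refine ⟨f w a / f₂ w a, fun v => ?_⟩
    rw [div_mul_eq_mul_div, eq_div_iff hw]
    linear_combination key a v w
  by_cases hz : ∃ a : ι → F, a ≠ 0
  · obtain ⟨a, ha⟩ := hz
    obtain ⟨κ, hκ⟩ := hk a ha
    refine ⟨κ, fun u v => ?_⟩
    by_cases hv : v = 0
    · have h1 : f u v = 0 := by
        rw [hv]; have := hf.bilinear.smul_right 0 u 0; rwa [zero_smul, zero_mul] at this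
      have h2 : f₂ u v = 0 := by
        rw [hv]; have := hf₂.bilinear.smul_right 0 u 0; rwa [zero_smul, zero_mul] at this
      rw [h1, h2, mul_zero]
    · obtain ⟨κ', hκ'⟩ := hk v hv
      obtain ⟨x, hxa, hxv⟩ := exists_both hl₂ (hf₂.nondegenerate a ha).1 (hf₂.nondegenerate v hv).1
      have hx0 : x ≠ 0 := by
        rintro rfl
        exact hxa (hl₂.zero a)
      obtain ⟨μ, hμ⟩ := hk x hx0
      have h1 : κ = μ := by
        have e1 := hκ x
        have e2 := hμ a
        rw [hf.skew a x, hf₂.skew a x, e1] at e2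
        have e3 : (κ - μ) * f₂ x a = 0 := by linear_combination -e2
        exact sub_eq_zero.1 ((mul_eq_zero.1 e3).resolve_right hxa)
      have h2 : κ' = μ := by
        have e1 := hκ' x
        have e2 := hμ v
        rw [hf.skew v x, hf₂.skew v x, e1] at e2
        have e3 : (κ' - μ) * f₂ x v = 0 := by linear_combination -e2
        exact sub_eq_zero.1 ((mul_eq_zero.1 e3).resolve_right hxv)
      rw [hκ' u, h2, h1]
  · push Not at hz
    refine ⟨0, fun u v => ?_⟩
    rw [hz u, hl.zero, zero_mul]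

end Symp

/-! ### hermitian and symmetric forms -/

section Herm

variable {ι : Type} [Fintype ι] [DecidableEq ι] {F : Type u} [Field F]

/-- a non-degenerate `σ`-hermitian form with enough anisotropic vectors -/
structure Hm (σ : F ≃+* F) (B : (ι → F) → (ι → F) → F) : Prop where
  ll : LL B
  herm : ∀ v w, B v w = σ (B w v)
  nd : ∀ u, u ≠ 0 → ∃ v, B u v ≠ 0
  aniso : ∀ u v, B u v ≠ 0 → ∃ c d : F, B (c • u + d • v) (c • u + d • v) ≠ 0

variable {σ : F ≃+* F} {B : (ι → F) → (ι → F) → F}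

omit [Fintype ι] [DecidableEq ι] in
theorem Hm.symm (hB : Hm σ B) {v w : ι → F} (h : B v w = 0) : B w v = 0 := by rw [hB.herm, h, map_zero]

omit [DecidableEq ι] in
/-- an anisotropic vector orthogonal to a given orthogonal family of anisotropic vectors -/
theorem Hm.exists_orth (hB : Hm σ B) {m : ℕ} (hm : m < Fintype.card ι) (a : Fin m → (ι → F))
    (ha : ∀ i, B (a i) (a i) ≠ 0) (hao : ∀ i j, i ≠ j → B (a i) (a j) = 0) :
    ∃ w, B w w ≠ 0 ∧ ∀ i, B w (a i) = 0 := by
  have h1 : LinearMap.ker (LinearMap.pi (fun i => fn hB.ll (a i))) ≠ ⊥ := by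
    apply LinearMap.ker_ne_bot_of_finrank_lt
    rw [Module.finrank_fin_fun, Module.finrank_fintype_fun_eq_card]
    exact hm
  obtain ⟨u, hu, hu0⟩ := Submodule.exists_mem_ne_zero_of_ne_bot h1
  have hu1 : ∀ i, B u (a i) = 0 := by
    intro i
    have := congrFun (LinearMap.mem_ker.1 hu) i
    exact this
  obtain ⟨v, hv⟩ := hB.nd u hu0
  set v' := v - ∑ i, (B v (a i) / B (a i) (a i)) • a i with hv'
  have e1 : ∀ j, B v' (a j) = 0 := by
    intro j
    have : B v' (a j) = fn hB.ll (a j) v' := rfl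
    rw [this, hv', map_sub, map_sum, Finset.sum_eq_single j]
    · rw [map_smul, fn_apply, fn_apply, smul_eq_mul, div_mul_cancel₀ _ (ha j), sub_self]
    · intro i _ hij
      rw [map_smul, fn_apply, hao i j hij, smul_zero]
    · intro h; exact absurd (Finset.mem_univ j) h
  have e2 : B u v' ≠ 0 := by
    have h2 : B v' u = B v u := by
      have : B v' u = fn hB.ll u v' := rfl
      rw [this, hv', map_sub, map_sum, Finset.sum_eq_zero, sub_zero, fn_apply]
      intro i _
      rw [map_smul, fn_apply, hB.symm (hu1 i), smul_zero]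
    rw [hB.herm, h2, ← hB.herm]
    exact hv
  obtain ⟨c, d, hcd⟩ := hB.aniso u v' e2
  exact ⟨_, hcd, fun i => by rw [hB.ll.add, hB.ll.smul, hB.ll.smul, hu1, e1, mul_zero, mul_zero, add_zero]⟩

omit [Fintype ι] [DecidableEq ι] in
/-- `w = w₁ + w₂` with `w₁ ⊥ b` and `w₂` a multiple of `b` -/
theorem Hm.split (hB : Hm σ B) {b : ι → F} (hb : B b b ≠ 0) (w : ι → F) :
    ∃ c : F, B (w - c • b) b = 0 :=
  ⟨B w b / B b b, by rw [hB.ll.sub, hB.ll.smul, div_mul_cancel₀ _ hb, sub_self]⟩

end Herm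

/-! ### unitary forms -/

section Unitary

variable {ι : Type} [Fintype ι] [DecidableEq ι] {F : Type u} [Field F]
  {σ : F ≃+* F} {B : (ι → F) → (ι → F) → F}

omit [Fintype ι] [DecidableEq ι] in
theorem uadd (hB : IsUnitaryForm σ B) (u x y : ι → F) : B u (x + y) = B u x + B u y := by
  rw [hB.herm u (x + y), hB.add_left, map_add, ← hB.herm, ← hB.herm]

omit [Fintype ι] [DecidableEq ι] in
theorem usmul (hB : IsUnitaryForm σ B) (u : ι → F) (c : F) (x : ι → F) : B u (c • x) = σ c * B u x := by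
  rw [hB.herm u (c • x), hB.smul_left, map_mul, ← hB.herm]

omit [Fintype ι] [DecidableEq ι] in
theorem hm_of_unitary (hB : IsUnitaryForm σ B) : Hm σ B := by
  have hl : LL B := ⟨hB.add_left, hB.smul_left⟩
  refine ⟨hl, hB.herm, fun u hu => (hB.nondegenerate u hu).2, fun u v huv => ?_⟩
  by_contra hcon
  push Not at hcon
  have h1 : B u u = 0 := by simpa using hcon 1 0
  have h2 : B v v = 0 := by simpa using hcon 0 1
  have h3 : ∀ x : F, x + σ x = 0 := by
    intro x
    have h := hcon (x / B u v) 1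
    rw [one_smul] at h
    rw [hl.add, hl.smul, uadd hB, uadd hB, usmul hB, usmul hB, h1, h2, mul_zero, zero_add,
      add_zero, hB.herm v u, ← map_mul, div_mul_cancel₀ _ huv] at h
    exact h
  have h4 : (1 : F) + 1 = 0 := by simpa using h3 1
  apply hB.ne_refl
  ext x
  have h5 := h3 x
  have h6 : x + x = 0 := by
    have : x + x = x * (1 + 1) := by ring
    rw [this, h4, mul_zero]
  rw [RingEquiv.refl_apply]
  exact add_left_cancel (h5.trans h6.symm)

/-- the quasi-reflection `v ↦ v + (ω - 1) B(v, a) / B(a, a) a` -/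
noncomputable def qref (hl : LL B) (a : ι → F) (ω : F) (ha : B a a ≠ 0) (hω : ω ≠ 0) : GL ι F :=
  dil (((ω - 1) / B a a) • fn hl a) a (by
    rw [LinearMap.smul_apply, fn_apply, smul_eq_mul, div_mul_cancel₀ _ ha, add_sub_cancel]; exact hω)

theorem qref_mulVec (hl : LL B) (a : ι → F) (ω : F) (ha : B a a ≠ 0) (hω : ω ≠ 0) (v : ι → F) :
    ((qref hl a ω ha hω : GL ι F) : Matrix ι ι F) *ᵥ v = v + ((ω - 1) / B a a * B v a) • a := by
  unfold qref
  rw [dil_mulVec, LinearMap.smul_apply, fn_apply, smul_eq_mul]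

theorem qref_det (hl : LL B) (a : ι → F) (ω : F) (ha : B a a ≠ 0) (hω : ω ≠ 0) :
    ((Matrix.GeneralLinearGroup.det (qref hl a ω ha hω) : Fˣ) : F) = ω := by
  unfold qref
  rw [dil_det, LinearMap.smul_apply, fn_apply, smul_eq_mul, div_mul_cancel₀ _ ha, add_sub_cancel]

theorem qref_self (hl : LL B) (a : ι → F) (ω : F) (ha : B a a ≠ 0) (hω : ω ≠ 0) :
    ((qref hl a ω ha hω : GL ι F) : Matrix ι ι F) *ᵥ a = ω • a := by
  rw [qref_mulVec, div_mul_cancel₀ _ ha]
  module

theorem qref_perp (hl : LL B) (a : ι → F) (ω : F) (ha : B a a ≠ 0) (hω : ω ≠ 0) {v : ι → F} (hv : B v a = 0) :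
    ((qref hl a ω ha hω : GL ι F) : Matrix ι ι F) *ᵥ v = v := by
  rw [qref_mulVec, hv, mul_zero, zero_smul, add_zero]

theorem qref_isom (hB : IsUnitaryForm σ B) (a : ι → F) (ω : F) (ha : B a a ≠ 0) (hω : ω ≠ 0) (h1 : ω * σ ω = 1)
    (u v : ι → F) :
    B (((qref ⟨hB.add_left, hB.smul_left⟩ a ω ha hω : GL ι F) : Matrix ι ι F) *ᵥ u)
      (((qref ⟨hB.add_left, hB.smul_left⟩ a ω ha hω : GL ι F) : Matrix ι ι F) *ᵥ v) = B u v := by
  have hN : σ (B a a) = B a a := (hB.herm a a).symm
  rw [qref_mulVec, qref_mulVec, hB.add_left, hB.smul_left, uadd hB, uadd hB, usmul hB, usmul hB]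
  simp only [map_mul, map_sub, map_one, map_div₀, hN]
  rw [← hB.herm a v]
  field_simp
  linear_combination (B u a * B a v) * h1

omit [Fintype ι] [DecidableEq ι] in
/-- an element `ω ≠ 1` of norm one -/
theorem exists_norm_one (hB : IsUnitaryForm σ B) : ∃ ω : F, ω ≠ 0 ∧ ω ≠ 1 ∧ ω * σ ω = 1 := by
  obtain ⟨x, hx⟩ : ∃ x, σ x ≠ x := by
    by_contra hcon
    push Not at hcon
    exact hB.ne_refl (RingEquiv.ext hcon)
  have hx0 : x ≠ 0 := by rintro rfl; exact hx (map_zero σ)
  have hs0 : σ x ≠ 0 := (map_ne_zero σ).2 hx0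
  refine ⟨x / σ x, div_ne_zero hx0 hs0, fun h => hx ?_, ?_⟩
  · rw [div_eq_one_iff_eq hs0] at h; exact h.symm
  · rw [map_div₀, hB.involutive]; field_simp

/-- **unitary comparison** -/
theorem su_perp (hB : IsUnitaryForm σ B) (hn : 3 ≤ Fintype.card ι) {H : Subgroup (GL ι F)}
    (hH : ∀ x : GL ι F, FixesForm {(x : Matrix ι ι F)} B → Matrix.GeneralLinearGroup.det x = 1 → x ∈ H)
    {f : (ι → F) → (ι → F) → F} (hl : LL f) (hr : ∀ v x y, f v (x + y) = f v x + f v y)
    (hfix : FixesForm (matrixSet H) f) {a w : ι → F} (ha : B a a ≠ 0) (hw : B w a = 0) : f a w = 0 := by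
  have hm := hm_of_unitary hB
  have hlB : LL B := ⟨hB.add_left, hB.smul_left⟩
  obtain ⟨ω, hω0, hω1, hω⟩ := exists_norm_one hB
  have hω' : ω⁻¹ * σ ω⁻¹ = 1 := by
    rw [map_inv₀, ← mul_inv, hω, inv_one]
  -- the main step
  have key : ∀ b, B b b ≠ 0 → B b a = 0 → ∀ x, B x a = 0 → B x b = 0 → f a x = 0 := by
    intro b hb hba x hxa hxb
    have hmem : qref hlB a ω ha hω0 * qref hlB b ω⁻¹ hb (inv_ne_zero hω0) ∈ H := by
      apply hH
      · rintro _ rfl u v
        rw [Units.val_mul, ← Matrix.mulVec_mulVec, ← Matrix.mulVec_mulVec, qref_isom hB a ω ha hω0 hω,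
          qref_isom hB b ω⁻¹ hb (inv_ne_zero hω0) hω']
      · apply Units.ext
        rw [map_mul, Units.val_mul, qref_det, qref_det, mul_inv_cancel₀ hω0, Units.val_one]
    have h1 := fixes_of_mem hfix hmem a x
    rw [Units.val_mul, ← Matrix.mulVec_mulVec, ← Matrix.mulVec_mulVec, qref_perp hlB b ω⁻¹ hb _ (hm.symm hba),
      qref_perp hlB b ω⁻¹ hb _ hxb, qref_self, qref_perp hlB a ω ha _ hxa, hl.smul] at h1
    have h2 : (ω - 1) * f a x = 0 := by linear_combination h1
    exact (mul_eq_zero.1 h2).resolve_left (sub_ne_zero.2 hω1)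
  obtain ⟨b, hb, hba⟩ := hm.exists_orth (m := 1) (by omega) ![a] (by simpa using ha)
    (by intro i j hij; exact absurd (Subsingleton.elim i j) hij)
  have hba' : B b a = 0 := by simpa using hba 0
  obtain ⟨b', hb', hba2⟩ := hm.exists_orth (m := 2) (by omega) ![a, b]
    (by intro i; fin_cases i <;> simpa) (by
      intro i j hij
      fin_cases i <;> fin_cases j
      · exact absurd rfl hij
      · exact hm.symm hba'
      · exact hba'
      · exact absurd rfl hij)
  have h1 : B b' a = 0 := by simpa using hba2 0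
  have h2 : B b' b = 0 := by simpa using hba2 1
  obtain ⟨c, hc⟩ := hm.split hb w
  have e : w = (w - c • b) + c • b := by abel
  rw [e, hr, key b hb hba' _ ?_ hc, key b' hb' h1 _ ?_ ?_, add_zero]
  · rw [hlB.smul, hba', mul_zero]
  · rw [hlB.smul, hm.symm h2, mul_zero]
  · rw [hlB.sub, hw, hlB.smul, hba', mul_zero, sub_zero]

end Unitary

/-! ### orthogonal groups in odd characteristic -/

section Orth

variable {ι : Type} [Fintype ι] [DecidableEq ι] {F : Type u} [Field F] {Q : (ι → F) → F}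

omit [Fintype ι] [DecidableEq ι] in
theorem polar_self (hQ : IsNondegenerateQuadraticForm Q) (v : ι → F) : QuadraticMap.polar Q v v = 2 * Q v := by
  have h : v + v = (2 : F) • v := by rw [two_smul]
  rw [QuadraticMap.polar, h, hQ.smul]; ring

omit [Fintype ι] [DecidableEq ι] in
theorem polar_comm' (v w : ι → F) : QuadraticMap.polar Q v w = QuadraticMap.polar Q w v :=
  QuadraticMap.polar_comm Q v w

omit [Fintype ι] [DecidableEq ι] in
theorem quad_add (Q : (ι → F) → F) (v w : ι → F) : Q (v + w) = Q v + Q w + QuadraticMap.polar Q v w := by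
  rw [QuadraticMap.polar]; ring

omit [Fintype ι] [DecidableEq ι] in
theorem hm_of_quad (hQ : IsNondegenerateQuadraticForm Q) (h2 : (2 : F) ≠ 0) :
    Hm (RingEquiv.refl F) (QuadraticMap.polar Q) := by
  have hl : LL (QuadraticMap.polar Q) := ⟨hQ.polar_bilinear.add_left, hQ.polar_bilinear.smul_left⟩
  refine ⟨hl, fun v w => polar_comm' v w, fun u hu => (hQ.nondegenerate u hu).2, fun u v huv => ?_⟩
  by_contra hcon
  push Not at hcon
  have h3 : QuadraticMap.polar Q u u = 0 := by simpa using hcon 1 0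
  have h4 : QuadraticMap.polar Q v v = 0 := by simpa using hcon 0 1
  have h := hcon 1 1
  rw [one_smul, one_smul, hl.add, hQ.polar_bilinear.add_right, hQ.polar_bilinear.add_right, h3, h4,
    polar_comm' v u] at h
  have h5 : 2 * QuadraticMap.polar Q u v = 0 := by linear_combination h
  exact huv ((mul_eq_zero.1 h5).resolve_left h2)

/-- the reflection `v ↦ v - B(v, a) / Q(a) a` -/
noncomputable def refl' (hl : LL (QuadraticMap.polar Q)) (a : ι → F) (h : 1 + ((-(Q a)⁻¹) • fn hl a) a ≠ 0) : GL ι F :=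
  dil ((-(Q a)⁻¹) • fn hl a) a h

omit [Fintype ι] [DecidableEq ι] in
theorem refl_ne (hQ : IsNondegenerateQuadraticForm Q) (hl : LL (QuadraticMap.polar Q)) {a : ι → F} (ha : Q a ≠ 0) :
    1 + ((-(Q a)⁻¹) • fn hl a) a ≠ 0 := by
  rw [LinearMap.smul_apply, fn_apply, polar_self hQ, smul_eq_mul]
  have : 1 + -(Q a)⁻¹ * (2 * Q a) = -1 := by field_simp; norm_num
  rw [this]
  exact neg_ne_zero.2 one_ne_zero

theorem refl_mulVec (hl : LL (QuadraticMap.polar Q)) (a : ι → F) (h : 1 + ((-(Q a)⁻¹) • fn hl a) a ≠ 0) (v : ι → F) :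
    ((refl' hl a h : GL ι F) : Matrix ι ι F) *ᵥ v = v - ((Q a)⁻¹ * QuadraticMap.polar Q v a) • a := by
  unfold refl'
  rw [dil_mulVec, LinearMap.smul_apply, fn_apply, smul_eq_mul, neg_mul, neg_smul, sub_eq_add_neg]

theorem refl_perp (hl : LL (QuadraticMap.polar Q)) (a : ι → F) (h : 1 + ((-(Q a)⁻¹) • fn hl a) a ≠ 0) {v : ι → F}
    (hv : QuadraticMap.polar Q v a = 0) : ((refl' hl a h : GL ι F) : Matrix ι ι F) *ᵥ v = v := by
  rw [refl_mulVec, hv, mul_zero, zero_smul, sub_zero]

theorem refl_self (hQ : IsNondegenerateQuadraticForm Q) (hl : LL (QuadraticMap.polar Q)) (a : ι → F) (ha : Q a ≠ 0)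
    (h : 1 + ((-(Q a)⁻¹) • fn hl a) a ≠ 0) : ((refl' hl a h : GL ι F) : Matrix ι ι F) *ᵥ a = -a := by
  rw [refl_mulVec, polar_self hQ]
  have : (Q a)⁻¹ * (2 * Q a) = 2 := by field_simp
  rw [this]; module

theorem refl_isom (hQ : IsNondegenerateQuadraticForm Q) (hl : LL (QuadraticMap.polar Q)) (a : ι → F) (ha : Q a ≠ 0)
    (h : 1 + ((-(Q a)⁻¹) • fn hl a) a ≠ 0) : refl' hl a h ∈ isometryGroup F Q := by
  intro v _
  change Q (((refl' hl a h : GL ι F) : Matrix ι ι F) *ᵥ v) = Q v
  rw [refl_mulVec, sub_eq_add_neg, ← neg_smul, quad_add Q, hQ.smul, hQ.polar_bilinear.smul_right]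
  field_simp
  ring

theorem inv_mulVec {g : GL ι F} {v w : ι → F} (h : (g : Matrix ι ι F) *ᵥ v = w) :
    ((g⁻¹ : GL ι F) : Matrix ι ι F) *ᵥ w = v := by
  rw [← h, Matrix.mulVec_mulVec, ← Units.val_mul, inv_mul_cancel, Units.val_one, Matrix.one_mulVec]

/-- an element of `Ω(Q)` which is `-1` at `a` and fixes `⟨a, b⟩^⊥` -/
theorem exists_omega (hQ : IsNondegenerateQuadraticForm Q) (h2 : (2 : F) ≠ 0) {a b : ι → F} (ha : Q a ≠ 0)
    (hab : Q b = Q a) (hp : QuadraticMap.polar Q a b = 0) :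
    ∃ g ∈ omegaGL Q, (g : Matrix ι ι F) *ᵥ a = -a ∧
      ∀ w, QuadraticMap.polar Q w a = 0 → QuadraticMap.polar Q w b = 0 → (g : Matrix ι ι F) *ᵥ w = w := by
  have hl : LL (QuadraticMap.polar Q) := ⟨hQ.polar_bilinear.add_left, hQ.polar_bilinear.smul_left⟩
  have hr : ∀ u, QuadraticMap.polar Q u (a - b) = QuadraticMap.polar Q u a - QuadraticMap.polar Q u b := by
    intro u
    rw [polar_comm', hl.sub, polar_comm' a, polar_comm' b]
  have hQab : Q (a - b) = 2 * Q a := by
    rw [sub_eq_add_neg, quad_add Q, ← neg_one_smul F b, hQ.smul, hQ.polar_bilinear.smul_right, hp, hab]; ring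
  have hc : Q (a - b) ≠ 0 := by rw [hQab]; exact mul_ne_zero h2 ha
  set r := refl' hl a (refl_ne hQ hl ha) with hr_def
  set s := refl' hl (a - b) (refl_ne hQ hl hc) with hs_def
  have hr_mem : r ∈ isometryGroup F Q := refl_isom hQ hl a ha _
  have hs_mem : s ∈ isometryGroup F Q := refl_isom hQ hl _ hc _
  have hsb : (s : Matrix ι ι F) *ᵥ b = a := by
    rw [hs_def, refl_mulVec, hr, polar_comm' b a, hp, polar_self hQ, hab, hQab]
    have : (2 * Q a)⁻¹ * (0 - 2 * Q a) = -1 := by field_simp; ring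
    rw [this]; module
  have hrb : (r : Matrix ι ι F) *ᵥ b = b := refl_perp hl a _ (by rw [polar_comm']; exact hp)
  have hra : (r : Matrix ι ι F) *ᵥ a = -a := refl_self hQ hl a ha _
  refine ⟨r * s * r⁻¹ * s⁻¹, ?_, ?_, ?_⟩
  · rw [omegaGL_eq]
    exact Subgroup.commutator_mem_commutator hr_mem hs_mem
  · rw [Units.val_mul, Units.val_mul, Units.val_mul, ← Matrix.mulVec_mulVec,
      ← Matrix.mulVec_mulVec, ← Matrix.mulVec_mulVec, inv_mulVec hsb, inv_mulVec hrb, hsb, hra]
  · intro w hwa hwb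
    have hrw : (r : Matrix ι ι F) *ᵥ w = w := refl_perp hl a _ hwa
    have hsw : (s : Matrix ι ι F) *ᵥ w = w := refl_perp hl (a - b) _ (by rw [hr, hwa, hwb, sub_zero])
    rw [Units.val_mul, Units.val_mul, Units.val_mul, ← Matrix.mulVec_mulVec,
      ← Matrix.mulVec_mulVec, ← Matrix.mulVec_mulVec, inv_mulVec hsw, inv_mulVec hrw, hsw, hrw]

omit [Fintype ι] [DecidableEq ι] in
/-- universality of orthogonal binary forms -/
theorem exists_quad_eq [Fintype F] (hodd : Odd (Fintype.card F)) (hQ : IsNondegenerateQuadraticForm Q)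
    {c d : ι → F} (hc : Q c ≠ 0) (hd : Q d ≠ 0) (hcd : QuadraticMap.polar Q c d = 0) (t : F) :
    ∃ x y : F, Q (x • c + y • d) = t := by
  obtain ⟨x, y, hxy⟩ := FiniteField.exists_root_sum_quadratic (R := F)
    (f := Polynomial.C (Q c) * Polynomial.X ^ 2) (g := Polynomial.C (Q d) * Polynomial.X ^ 2 - Polynomial.C t)
    (Polynomial.degree_C_mul_X_pow 2 hc) (by
      rw [Polynomial.degree_sub_C]
      · exact Polynomial.degree_C_mul_X_pow 2 hd
      · rw [Polynomial.degree_C_mul_X_pow 2 hd]; norm_num) (Nat.odd_iff.1 hodd)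
  refine ⟨x, y, ?_⟩
  rw [quad_add Q, hQ.smul, hQ.smul, hQ.polar_bilinear.smul_right, hQ.polar_bilinear.smul_left, hcd]
  simp only [Polynomial.eval_sub, Polynomial.eval_mul, Polynomial.eval_C, Polynomial.eval_pow,
    Polynomial.eval_X] at hxy
  linear_combination hxy

theorem two_ne_zero_of_odd [Fintype F] (hodd : Odd (Fintype.card F)) : (2 : F) ≠ 0 := by
  apply Ring.two_ne_zero
  intro h
  have := FiniteField.even_card_iff_char_two.1 h
  rw [Nat.odd_iff] at hodd
  omega

/-- **orthogonal comparison** (odd characteristic) -/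
theorem om_perp [Fintype F] (hodd : Odd (Fintype.card F)) (hQ : IsNondegenerateQuadraticForm Q)
    (hn : 5 ≤ Fintype.card ι) {H : Subgroup (GL ι F)} (hH : omegaGL Q ≤ H)
    {f : (ι → F) → (ι → F) → F} (hlf : LL f) (hrf : ∀ v x y, f v (x + y) = f v x + f v y)
    (hfix : FixesForm (matrixSet H) f) {a w : ι → F} (ha : Q a ≠ 0) (hw : QuadraticMap.polar Q w a = 0) :
    f a w = 0 := by
  have h2 := two_ne_zero_of_odd hodd
  have hm := hm_of_quad hQ h2
  have hl := hm.ll
  have hq : ∀ v, Q v ≠ 0 → QuadraticMap.polar Q v v ≠ 0 := fun v hv => by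
    rw [polar_self hQ]; exact mul_ne_zero h2 hv
  have hq' : ∀ v, QuadraticMap.polar Q v v ≠ 0 → Q v ≠ 0 := fun v hv h => by
    rw [polar_self hQ, h, mul_zero] at hv; exact hv rfl
  have key : ∀ b, Q b = Q a → QuadraticMap.polar Q b a = 0 → ∀ x, QuadraticMap.polar Q x a = 0 →
      QuadraticMap.polar Q x b = 0 → f a x = 0 := by
    intro b hb hba x hxa hxb
    obtain ⟨g, hg, hga, hgw⟩ := exists_omega hQ h2 ha hb (hm.symm hba)
    have h1 := fixes_of_mem hfix (hH hg) a x
    rw [hga, hgw x hxa hxb, hlf.neg] at h1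
    have h3 : 2 * f a x = 0 := by linear_combination -h1
    exact (mul_eq_zero.1 h3).resolve_left h2
  obtain ⟨c₁, hc₁, o₁⟩ := hm.exists_orth (m := 1) (by omega) ![a] (by simpa using hq a ha)
    (by intro i j hij; exact absurd (Subsingleton.elim i j) hij)
  have p1 : QuadraticMap.polar Q c₁ a = 0 := by simpa using o₁ 0
  obtain ⟨c₂, hc₂, o₂⟩ := hm.exists_orth (m := 2) (by omega) ![a, c₁]
    (by intro i; fin_cases i; exacts [hq a ha, hc₁]) (by
      intro i j hij
      fin_cases i <;> fin_cases j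
      exacts [absurd rfl hij, hm.symm p1, p1, absurd rfl hij])
  have p2 : QuadraticMap.polar Q c₂ a = 0 := by simpa using o₂ 0
  have p3 : QuadraticMap.polar Q c₂ c₁ = 0 := by simpa using o₂ 1
  obtain ⟨c₃, hc₃, o₃⟩ := hm.exists_orth (m := 3) (by omega) ![a, c₁, c₂]
    (by intro i; fin_cases i; exacts [hq a ha, hc₁, hc₂]) (by
      intro i j hij
      fin_cases i <;> fin_cases j
      exacts [absurd rfl hij, hm.symm p1, hm.symm p2, p1, absurd rfl hij, hm.symm p3, p2, p3, absurd rfl hij])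
  have p4 : QuadraticMap.polar Q c₃ a = 0 := by simpa using o₃ 0
  have p5 : QuadraticMap.polar Q c₃ c₁ = 0 := by simpa using o₃ 1
  have p6 : QuadraticMap.polar Q c₃ c₂ = 0 := by simpa using o₃ 2
  obtain ⟨c₄, hc₄, o₄⟩ := hm.exists_orth (m := 4) (by omega) ![a, c₁, c₂, c₃]
    (by intro i; fin_cases i; exacts [hq a ha, hc₁, hc₂, hc₃]) (by
      intro i j hij
      fin_cases i <;> fin_cases j
      exacts [absurd rfl hij, hm.symm p1, hm.symm p2, hm.symm p4, p1, absurd rfl hij, hm.symm p3, hm.symm p5,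
        p2, p3, absurd rfl hij, hm.symm p6, p4, p5, p6, absurd rfl hij])
  have p7 : QuadraticMap.polar Q c₄ a = 0 := by simpa using o₄ 0
  have p8 : QuadraticMap.polar Q c₄ c₁ = 0 := by simpa using o₄ 1
  have p9 : QuadraticMap.polar Q c₄ c₂ = 0 := by simpa using o₄ 2
  have p10 : QuadraticMap.polar Q c₄ c₃ = 0 := by simpa using o₄ 3
  obtain ⟨x, y, hb⟩ := exists_quad_eq hodd hQ (hq' _ hc₁) (hq' _ hc₂) (hm.symm p3) (Q a)
  obtain ⟨x', y', hb'⟩ := exists_quad_eq hodd hQ (hq' _ hc₃) (hq' _ hc₄) (hm.symm p10) (Q a)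
  set b := x • c₁ + y • c₂ with hbd
  set b' := x' • c₃ + y' • c₄ with hbd'
  have q1 : QuadraticMap.polar Q b a = 0 := by
    rw [hbd, hl.add, hl.smul, hl.smul, p1, p2, mul_zero, mul_zero, add_zero]
  have q2 : QuadraticMap.polar Q b' a = 0 := by
    rw [hbd', hl.add, hl.smul, hl.smul, p4, p7, mul_zero, mul_zero, add_zero]
  have q3 : QuadraticMap.polar Q b b' = 0 := by
    rw [hbd, hbd', hl.add, hl.smul, hl.smul, hQ.polar_bilinear.add_right, hQ.polar_bilinear.add_right,
      hQ.polar_bilinear.smul_right, hQ.polar_bilinear.smul_right, hQ.polar_bilinear.smul_right,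
      hQ.polar_bilinear.smul_right, hm.symm p5, hm.symm p6, hm.symm p8, hm.symm p9]
    ring
  have hbb : QuadraticMap.polar Q b b ≠ 0 := hq b (by rw [hb]; exact ha)
  obtain ⟨c, hc⟩ := hm.split hbb w
  have e : w = (w - c • b) + c • b := by abel
  rw [e, hrf, key b hb q1 _ ?_ hc, key b' hb' q2 _ ?_ ?_, add_zero]
  · rw [hl.smul, q1, mul_zero]
  · rw [hl.smul, q3, mul_zero]
  · rw [hl.sub, hw, hl.smul, q1, mul_zero, sub_zero]

end Orth

end Cfsg.Agent.H659.CovForms
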