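import Cfsg.Agent.H659.Triple

/-!
# A 7-dimensional representation of `Sp₄(3)` in characteristic ≠ 3 has a fixed vector: the abstract part

The hypotheses are relations between elements of `Sp₄(3)`.
-/

set_option autoImplicit false

namespace Cfsg.Agent.H659.SevenU42

open Module Cfsg.Agent.H659.Triple

variable {K : Type*} [Field K] {V : Type*} [AddCommGroup V] [Module K V] [FiniteDimensional K V] {L : Type*} [Group L]
  (ρ : L →* Module.End K V)

theorem finrank_le_of_maps (g : L) {P Q : Submodule K V} (h : ∀ v ∈ P, ρ g v ∈ Q) : finrank K P ≤ finrank K Q := by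
  have h1 : P.map (ρ g) ≤ Q := by
    rintro _ ⟨v, hv, rfl⟩
    exact h v hv
  refine le_trans (le_of_eq ?_) (Submodule.finrank_mono h1)
  exact (Submodule.equivMapOfInjective (ρ g) (H912.Bd.rho_injective ρ g) _).finrank_eq

omit [FiniteDimensional K V] in
/-- Independent subspaces of `D`. -/
theorem sum_finrank_le_of_le [FiniteDimensional K V] {ι : Type*} [Fintype ι] {p : ι → Submodule K V} (hp : iSupIndep p)
    (D : Submodule K V) (hD : ∀ i, p i ≤ D) : ∑ i, finrank K (p i) ≤ finrank K D := by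
  classical
  have h1 := hp.dfinsupp_lsum_injective
  have hmem : ∀ f : Π₀ i, p i, DFinsupp.lsum ℕ (fun i => (p i).subtype) f ∈ D := by
    intro f
    rw [DFinsupp.lsum_apply_apply, DFinsupp.sumAddHom_apply]
    exact D.sum_mem fun i _ => hD i (f i).2
  have h2 := LinearMap.finrank_le_finrank_of_injective
    (f := (DFinsupp.lsum ℕ (fun i => (p i).subtype)).codRestrict D hmem) (by
      intro f g hfg
      apply h1
      exact congrArg Subtype.val hfg)
  have h3 : finrank K (Π₀ i, p i) = ∑ i, finrank K (p i) := Module.finrank_directSum K (fun i => ↥(p i))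
  rw [← h3]
  exact h2

/-- The relations of `Sp₄(3)` used below. -/
structure Rel (z1 z2 x y s h n j : L) : Prop where
  z1_three : z1 ^ 3 = 1
  z2_three : z2 ^ 3 = 1
  x_three : x ^ 3 = 1
  z1z2 : z1 * z2 = z2 * z1
  z1x : z1 * x = x * z1
  z2x : z2 * x = x * z2
  z1s : z1 * s = s * z2
  z2s : z2 * s = s * z1
  xs : x * s = s * x
  z1h : z1 * h = h * z1
  z2h : z2 * h = h * z2
  xh : x * h = h * (x * x)
  z1y : z1 * y = y * z1
  z2y : z2 * y = y * (z1 * z2 * (x * x))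
  xy : x * y = y * (z1 * x)
  nz2 : n * z2 = z2 * n
  z1j : z1 * j = j * z1
  yj : y * j * x = j

/-- dimension of the joint eigenspace -/
noncomputable def dm (z1 z2 x : L) (ω : K) (i j k : Fin 3) : ℕ := finrank K (E3 (ρ z1) (ρ z2) (ρ x) ω (i, j, k))

variable {z1 z2 x y s h n j : L} (R : Rel z1 z2 x y s h n j) {ω : K} (hω : ω ^ 2 + ω + 1 = 0) (h1 : ω ≠ 1)
  (hω3 : ω ^ 3 = 1) (h3 : (3 : K) ≠ 0)

omit [FiniteDimensional K V] in
theorem mul_app (a b : L) (v : V) : ρ a (ρ b v) = ρ (a * b) v := by rw [map_mul, Module.End.mul_apply]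

include R in
theorem dm_s (i j k : Fin 3) : dm ρ z1 z2 x ω i j k ≤ dm ρ z1 z2 x ω j i k := by
  refine finrank_le_of_maps ρ s fun v hv => ?_
  rw [mem_E3] at hv ⊢
  obtain ⟨e1, e2, e3⟩ := hv
  refine ⟨?_, ?_, ?_⟩
  · rw [mul_app, R.z1s, ← mul_app, e2, map_smul]
  · rw [mul_app, R.z2s, ← mul_app, e1, map_smul]
  · rw [mul_app, R.xs, ← mul_app, e3, map_smul]

include R hω3 in
theorem dm_h (i j k : Fin 3) : dm ρ z1 z2 x ω i j k ≤ dm ρ z1 z2 x ω i j (k + k) := by
  refine finrank_le_of_maps ρ h fun v hv => ?_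
  rw [mem_E3] at hv ⊢
  obtain ⟨e1, e2, e3⟩ := hv
  refine ⟨?_, ?_, ?_⟩
  · rw [mul_app, R.z1h, ← mul_app, e1, map_smul]
  · rw [mul_app, R.z2h, ← mul_app, e2, map_smul]
  · rw [mul_app, R.xh, ← mul_app, ← mul_app, e3, map_smul, e3, smul_smul, map_smul, pow_add_fin hω3]

include R hω3 in
theorem dm_y (i j k : Fin 3) : dm ρ z1 z2 x ω i j k ≤ dm ρ z1 z2 x ω i (i + j + (k + k)) (i + k) := by
  refine finrank_le_of_maps ρ y fun v hv => ?_
  rw [mem_E3] at hv ⊢
  obtain ⟨e1, e2, e3⟩ := hv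
  refine ⟨?_, ?_, ?_⟩
  · rw [mul_app, R.z1y, ← mul_app, e1, map_smul]
  · rw [mul_app, R.z2y, ← mul_app, ← mul_app, ← mul_app, ← mul_app, e3, map_smul, e3, smul_smul]
    simp only [map_smul, e2, e1, smul_smul, pow_add_fin hω3]
    congr 1
    ring
  · rw [mul_app, R.xy, ← mul_app, ← mul_app, e3, map_smul, e1, smul_smul, map_smul, pow_add_fin hω3]
    congr 1
    ring

include R hω hω3 h1 h3 in
theorem dm_sum [IsAlgClosed K] (hV : finrank K V = 7) : ∑ t : Fin 3 × Fin 3 × Fin 3, dm ρ z1 z2 x ω t.1 t.2.1 t.2.2 = 7 := by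
  have e := sum_E3 (A := ρ z1) (B := ρ z2) (C := ρ x)
    (by rw [← map_mul, ← map_mul, R.z1z2]) (by rw [← map_mul, ← map_mul, R.z1x])
    (by rw [← map_mul, ← map_mul, R.z2x]) (by rw [← map_pow, R.z1_three, map_one])
    (by rw [← map_pow, R.z2_three, map_one]) (by rw [← map_pow, R.x_three, map_one]) h3 hω h1 hω3
  rw [hV] at e
  exact e

theorem fin1 : ∀ k : Fin 3, k + k + (k + k) = k := by decide

theorem fin2 : ∀ i j k : Fin 3, i + (i + (i + j + (k + k)) + (i + k + (i + k))) + (i + (i + k) + (i + (i + k))) = j := by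
  decide

theorem fin3 : ∀ i k : Fin 3, i + (i + (i + k)) = k := by decide

/-- The combinatorics of the orbits on the 27 weights. -/
theorem comb (m : Fin 3 → Fin 3 → Fin 3 → ℕ) (hs : ∀ i j k, m i j k ≤ m j i k) (hh : ∀ i j k, m i j k ≤ m i j (k + k))
    (hy : ∀ i j k, m i j k ≤ m i (i + j + (k + k)) (i + k)) (hsum : ∑ t : Fin 3 × Fin 3 × Fin 3, m t.1 t.2.1 t.2.2 = 7) :
    (∀ j k : Fin 3, k ≠ 0 → m 0 j k = 0) ∧
      (4 ≤ m 0 0 0 + m 0 1 0 + m 0 2 0 ∨ (m 0 0 0 = 1 ∧ m 0 1 0 = 0 ∧ m 0 2 0 = 0)) := by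
  have hs' : ∀ i j k, m i j k = m j i k := fun i j k => le_antisymm (hs i j k) (hs j i k)
  have hh' : ∀ i j k, m i j k = m i j (k + k) := by
    intro i j k
    refine le_antisymm (hh i j k) ((hh i j (k + k)).trans (le_of_eq ?_))
    rw [fin1]
  have hy' : ∀ i j k, m i j k = m i (i + j + (k + k)) (i + k) := by
    intro i j k
    refine le_antisymm (hy i j k) ((hy _ _ _).trans ((hy _ _ _).trans (le_of_eq ?_)))
    rw [fin2, fin3]
  simp only [Fintype.sum_prod_type, Fin.sum_univ_three] at hsum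
  have a1 := hs' 0 1 0
  have a2 := hs' 0 1 1
  have a3 := hs' 0 1 2
  have a4 := hs' 0 2 0
  have a5 := hs' 0 2 1
  have a6 := hs' 0 2 2
  have a7 := hs' 1 2 0
  have a8 := hs' 1 2 1
  have a9 := hs' 1 2 2
  have b1 := hh' 0 0 1
  have b2 := hh' 0 1 1
  have b3 := hh' 0 2 1
  have b4 := hh' 1 0 1
  have b5 := hh' 1 1 1
  have b6 := hh' 1 2 1
  have b7 := hh' 2 0 1
  have b8 := hh' 2 1 1
  have b9 := hh' 2 2 1
  have c : ∀ i j k : Fin 3, m i j k = m i (i + j + (k + k)) (i + k) := hy'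
  have c1 := c 0 0 1
  have c2 := c 0 1 1
  have c3 := c 0 2 1
  have c4 := c 0 0 2
  have c5 := c 1 0 0
  have c6 := c 1 0 1
  have c7 := c 1 0 2
  have c8 := c 1 1 0
  have c9 := c 1 1 1
  have c10 := c 1 1 2
  have c11 := c 1 2 0
  have c12 := c 1 2 1
  have c13 := c 1 2 2
  have c14 := c 2 0 0
  have c15 := c 2 0 1
  have c16 := c 2 0 2
  have c17 := c 2 1 0
  have c18 := c 2 1 1
  have c19 := c 2 1 2
  have c20 := c 2 2 0
  have c21 := c 2 2 1
  have c22 := c 2 2 2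
  simp only [show (0 : Fin 3) + 0 = 0 from rfl, show (0 : Fin 3) + 1 = 1 from rfl, show (0 : Fin 3) + 2 = 2 from rfl,
    show (1 : Fin 3) + 0 = 1 from rfl, show (1 : Fin 3) + 1 = 2 from rfl, show (1 : Fin 3) + 2 = 0 from rfl,
    show (2 : Fin 3) + 0 = 2 from rfl, show (2 : Fin 3) + 1 = 0 from rfl, show (2 : Fin 3) + 2 = 1 from rfl] at *
  refine ⟨?_, by omega⟩
  intro j k hk
  fin_cases j <;> fin_cases k
  · exact absurd rfl hk
  · change m 0 0 1 = 0; omega
  · change m 0 0 2 = 0; omega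
  · exact absurd rfl hk
  · change m 0 1 1 = 0; omega
  · change m 0 1 2 = 0; omega
  · exact absurd rfl hk
  · change m 0 2 1 = 0; omega
  · change m 0 2 2 = 0; omega

omit [FiniteDimensional K V] in
/-- An operator acting on a non-zero space has an eigenvector there. -/
theorem exists_eigen [IsAlgClosed K] [FiniteDimensional K V] (T : Module.End K V) (D : Submodule K V) (hD : D ≠ ⊥)
    (hTD : ∀ v ∈ D, T v ∈ D) : ∃ v ∈ D, v ≠ 0 ∧ ∃ μ : K, T v = μ • v := by
  have : Nontrivial D := (Submodule.nontrivial_iff_ne_bot).2 hD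
  obtain ⟨μ, hμ⟩ := Module.End.exists_eigenvalue (T.restrict hTD)
  obtain ⟨v, hv⟩ := hμ.exists_hasEigenvector
  refine ⟨v, v.2, fun h => hv.2 (Subtype.ext h), μ, ?_⟩
  have := congrArg Subtype.val hv.apply_eq_smul
  exact this

include R hω hω3 h1 h3 in
theorem exists_both [IsAlgClosed K] (hV : finrank K V = 7) : ∃ w : V, w ≠ 0 ∧ (ρ z1 w = w ∧ ρ x w = w ∧ ρ y w = w) ∧
    (ρ z1 (ρ n⁻¹ w) = ρ n⁻¹ w ∧ ρ x (ρ n⁻¹ w) = ρ n⁻¹ w ∧ ρ y (ρ n⁻¹ w) = ρ n⁻¹ w) := by
  classical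
  have hz1 : (ρ z1) ^ 3 = 1 := by rw [← map_pow, R.z1_three, map_one]
  have hz2 : (ρ z2) ^ 3 = 1 := by rw [← map_pow, R.z2_three, map_one]
  have hx : (ρ x) ^ 3 = 1 := by rw [← map_pow, R.x_three, map_one]
  obtain ⟨c1, c2⟩ := comb (dm ρ z1 z2 x ω) (dm_s ρ R) (dm_h ρ R hω3) (dm_y ρ R hω3) (dm_sum ρ R hω h1 hω3 h3 hV)
  -- the fixed space of z1
  let D : Submodule K V := (ρ z1).eigenspace 1
  have hD : ∀ v, v ∈ D ↔ ρ z1 v = v := by
    intro v
    rw [Module.End.mem_eigenspace_iff, one_smul]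
  -- a vector of weight (0, j, k) forces dm ≠ 0
  have hne : ∀ j k : Fin 3, ∀ v : V, v ≠ 0 → ρ z1 v = v → ρ z2 v = ω ^ j.val • v → ρ x v = ω ^ k.val • v →
      dm ρ z1 z2 x ω 0 j k ≠ 0 := by
    intro j k v hv e1 e2 e3 h0
    have hb : E3 (ρ z1) (ρ z2) (ρ x) ω (0, j, k) = ⊥ := Submodule.finrank_eq_zero.1 h0
    have hm : v ∈ E3 (ρ z1) (ρ z2) (ρ x) ω (0, j, k) := by
      rw [mem_E3]
      refine ⟨?_, e2, e3⟩
      rw [e1]
      change v = ω ^ 0 • v
      rw [pow_zero, one_smul]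
    rw [hb] at hm
    exact hv ((Submodule.mem_bot K).1 hm)
  -- x fixes D
  have hxD : ∀ v ∈ D, ρ x v = v := by
    refine fix_of_no_eigen hω hω3 hx D ?_ ?_
    · intro v hv
      rw [hD] at hv ⊢
      rw [mul_app, R.z1x, ← mul_app, hv]
    · intro a ha v hv hxv
      by_contra hv0
      let D' : Submodule K V := D ⊓ (ρ x).eigenspace (ω ^ a.val)
      have hvD' : v ∈ D' := ⟨hv, Module.End.mem_eigenspace_iff.2 hxv⟩
      have hD' : D' ≠ ⊥ := fun hb => hv0 ((Submodule.mem_bot K).1 (hb ▸ hvD'))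
      obtain ⟨u, ⟨hu1, hu2⟩, hu0, μ, hμ⟩ := exists_eigen (ρ z2) D' hD' (by
        rintro u ⟨hu1, hu2⟩
        refine ⟨?_, ?_⟩
        · have hu1' := (hD u).1 hu1
          change ρ z2 u ∈ D
          rw [hD, mul_app, R.z1z2, ← mul_app, hu1']
        · have hu2' := Module.End.mem_eigenspace_iff.1 hu2
          refine Module.End.mem_eigenspace_iff.2 ?_
          rw [mul_app, ← R.z2x, ← mul_app, hu2', map_smul])
      obtain ⟨b, hb⟩ := exists_pow hω hω3 (pow_eigen hz2 hu0 hμ)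
      rw [hb] at hμ
      exact hne b a u hu0 ((hD u).1 hu1) hμ (Module.End.mem_eigenspace_iff.1 hu2) (c1 b a ha)
  -- j maps D to D, and y fixes D
  have hjD : ∀ v ∈ D, ρ j⁻¹ v ∈ D := by
    intro v hv
    rw [hD] at hv ⊢
    have e : z1 * j⁻¹ = j⁻¹ * z1 := by
      rw [mul_inv_eq_iff_eq_mul, mul_assoc, R.z1j, inv_mul_cancel_left]
    rw [mul_app, e, ← mul_app, hv]
  have hyD : ∀ v ∈ D, ρ y v = v := by
    intro v hv
    have e1 : ρ x (ρ j⁻¹ v) = ρ j⁻¹ v := hxD _ (hjD v hv)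
    have e2 : y * j * x * j⁻¹ = 1 := by rw [R.yj, mul_inv_cancel]
    have e3 : ρ y (ρ j (ρ x (ρ j⁻¹ v))) = v := by
      rw [mul_app, mul_app, mul_app, e2, map_one, Module.End.one_apply]
    rw [e1, mul_app ρ j, mul_inv_cancel, map_one, Module.End.one_apply] at e3
    exact e3
  -- it is enough to find a non-zero w in D with n⁻¹ w in D
  suffices hw : ∃ w : V, w ≠ 0 ∧ w ∈ D ∧ ρ n⁻¹ w ∈ D by
    obtain ⟨w, hw0, hw1, hw2⟩ := hw
    exact ⟨w, hw0, ⟨(hD w).1 hw1, hxD w hw1, hyD w hw1⟩, (hD _).1 hw2, hxD _ hw2, hyD _ hw2⟩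
  have hdec : ∀ j : Fin 3, E3 (ρ z1) (ρ z2) (ρ x) ω (0, j, 0) ≤ D := by
    intro j v hv
    rw [mem_E3] at hv
    rw [hD, hv.1]
    change ω ^ 0 • v = v
    rw [pow_zero, one_smul]
  rcases c2 with c2 | ⟨c2, c3, c4⟩
  · -- dim D ≥ 4
    have hDdim : 4 ≤ finrank K D := by
      have hind := indep_E3 (A := ρ z1) (B := ρ z2) (C := ρ x)
        (by rw [← map_mul, ← map_mul, R.z1z2]) (by rw [← map_mul, ← map_mul, R.z1x])
        (by rw [← map_mul, ← map_mul, R.z2x]) hz1 hz2 hx h3 hω h1 hω3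
      have hinj : Function.Injective (fun j : Fin 3 => ((0 : Fin 3), j, (0 : Fin 3))) := by
        intro a b hab
        simpa using hab
      have hs := sum_finrank_le_of_le (hind.comp hinj) D hdec
      rw [Fin.sum_univ_three] at hs
      exact c2.trans hs
    let D2 : Submodule K V := D.map (ρ n)
    have hD2 : finrank K D2 = finrank K D :=
      (Submodule.equivMapOfInjective (ρ n) (H912.Bd.rho_injective ρ n) _).finrank_eq.symm
    have hint : D ⊓ D2 ≠ ⊥ := by
      intro hb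
      have := Submodule.finrank_sup_add_finrank_inf_eq D D2
      rw [hb, finrank_bot] at this
      have h7 := Submodule.finrank_le (D ⊔ D2)
      omega
    obtain ⟨w, hw, hw0⟩ := Submodule.exists_mem_ne_zero_of_ne_bot hint
    refine ⟨w, hw0, hw.1, ?_⟩
    obtain ⟨u, hu, rfl⟩ := hw.2
    rw [mul_app, inv_mul_cancel, map_one, Module.End.one_apply]
    exact hu
  · -- dim D = 1
    have hz2D : ∀ v ∈ D, ρ z2 v = v := by
      refine fix_of_no_eigen hω hω3 hz2 D ?_ ?_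
      · intro v hv
        rw [hD] at hv ⊢
        rw [mul_app, R.z1z2, ← mul_app, hv]
      · intro a ha v hv hzv
        by_contra hv0
        refine hne a 0 v hv0 ((hD v).1 hv) hzv ?_ ?_
        · rw [hxD v hv]
          change v = ω ^ 0 • v
          rw [pow_zero, one_smul]
        · fin_cases a
          · exact absurd rfl ha
          · exact c3
          · exact c4
    have hDle : D ≤ E3 (ρ z1) (ρ z2) (ρ x) ω (0, 0, 0) := by
      intro v hv
      rw [mem_E3]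
      change _ = ω ^ 0 • v ∧ _ = ω ^ 0 • v ∧ _ = ω ^ 0 • v
      rw [pow_zero, one_smul]
      exact ⟨(hD v).1 hv, hz2D v hv, hxD v hv⟩
    have hDd : finrank K D = 1 := by
      have e : D = E3 (ρ z1) (ρ z2) (ρ x) ω (0, 0, 0) := le_antisymm hDle (hdec 0)
      rw [e]
      exact c2
    -- the fixed space of z2 is D
    have hsub : ∀ v : V, ρ z2 v = v → v ∈ D := by
      have hle : D ≤ (ρ z2).eigenspace 1 := fun v hv => by
        rw [Module.End.mem_eigenspace_iff, one_smul]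
        exact hz2D v hv
      have hle2 : finrank K ((ρ z2).eigenspace 1) ≤ finrank K D := by
        refine finrank_le_of_maps ρ s fun v hv => ?_
        rw [Module.End.mem_eigenspace_iff, one_smul] at hv
        rw [hD, mul_app, R.z1s, ← mul_app, hv]
      have e := Submodule.eq_of_le_of_finrank_le hle hle2
      intro v hv
      rw [e, Module.End.mem_eigenspace_iff, one_smul]
      exact hv
    obtain ⟨w, hw, hw0⟩ := Submodule.exists_mem_ne_zero_of_ne_bot (p := D) (by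
      intro hb
      rw [hb, finrank_bot] at hDd
      exact zero_ne_one hDd)
    refine ⟨w, hw0, hw, hsub _ ?_⟩
    have e : z2 * n⁻¹ = n⁻¹ * z2 := by
      rw [mul_inv_eq_iff_eq_mul, mul_assoc, ← R.nz2, inv_mul_cancel_left]
    rw [mul_app, e, ← mul_app, hz2D w hw]

end Cfsg.Agent.H659.SevenU42
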