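import Cfsg.Prelude.Def_GeometricClasses
import Cfsg.Prelude.Def_Classical
import Cfsg.Agent.H659.SevenU42Core
import Cfsg.Agent.ChevalleyStructure.B2Sp4
import Cfsg.Agent.LieClassical.FieldTransfer

/-!
# `PSp₄(3)` has no absolutely irreducible 7-dimensional module in characteristic ≠ 3
-/

set_option autoImplicit false

namespace Cfsg.Agent.H659.SevenU42

open Module Cfsg.Agent.ChevalleyStructure.B2Rep Cfsg.Agent.ChevalleyStructure.B2Sp4

local instance instFactThree : Fact (Nat.Prime 3) := ⟨Nat.prime_three⟩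

/-- A 4×4 matrix over `ZMod 3` from its rows. -/
def mk4 (r : Fin 4 → Fin 4 → ZMod 3) : Matrix I4 I4 (ZMod 3) := fun i j =>
  r (Sum.elim (fun a => if a = 0 then 0 else 1) (fun a => if a = 0 then 2 else 3) i)
    (Sum.elim (fun a => if a = 0 then 0 else 1) (fun a => if a = 0 then 2 else 3) j)

def sM : Matrix I4 I4 (ZMod 3) := mk4 ![![0,1,0,0],![1,0,0,0],![0,0,0,1],![0,0,1,0]]
def hM : Matrix I4 I4 (ZMod 3) := mk4 ![![2,0,0,0],![0,1,0,0],![0,0,2,0],![0,0,0,1]]
def nM : Matrix I4 I4 (ZMod 3) := mk4 ![![0,0,2,0],![0,1,0,0],![1,0,0,0],![0,0,0,1]]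
def jM : Matrix I4 I4 (ZMod 3) := mk4 ![![1,0,0,0],![0,0,0,2],![0,0,1,0],![0,1,0,0]]

theorem sM_mem : sM ∈ Matrix.symplecticGroup (Fin 2) (ZMod 3) := by
  rw [SymplecticGroup.mem_iff]; decide +kernel
theorem hM_mem : hM ∈ Matrix.symplecticGroup (Fin 2) (ZMod 3) := by
  rw [SymplecticGroup.mem_iff]; decide +kernel
theorem nM_mem : nM ∈ Matrix.symplecticGroup (Fin 2) (ZMod 3) := by
  rw [SymplecticGroup.mem_iff]; decide +kernel
theorem jM_mem : jM ∈ Matrix.symplecticGroup (Fin 2) (ZMod 3) := by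
  rw [SymplecticGroup.mem_iff]; decide +kernel

/-- root elements -/
def U (k : Fin 8) (t : ZMod 3) : Matrix.symplecticGroup (Fin 2) (ZMod 3) := uS (ZMod 3) k t

def sG : Matrix.symplecticGroup (Fin 2) (ZMod 3) := ⟨sM, sM_mem⟩
def hG : Matrix.symplecticGroup (Fin 2) (ZMod 3) := ⟨hM, hM_mem⟩
def nG : Matrix.symplecticGroup (Fin 2) (ZMod 3) := ⟨nM, nM_mem⟩
def jG : Matrix.symplecticGroup (Fin 2) (ZMod 3) := ⟨jM, jM_mem⟩

theorem rel : Rel (U 7 2) (U 4 1) (U 6 2) (U 5 1) sG hG nG jG where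
  z1_three := by apply Subtype.ext; decide +kernel
  z2_three := by apply Subtype.ext; decide +kernel
  x_three := by apply Subtype.ext; decide +kernel
  z1z2 := by apply Subtype.ext; decide +kernel
  z1x := by apply Subtype.ext; decide +kernel
  z2x := by apply Subtype.ext; decide +kernel
  z1s := by apply Subtype.ext; decide +kernel
  z2s := by apply Subtype.ext; decide +kernel
  xs := by apply Subtype.ext; decide +kernel
  z1h := by apply Subtype.ext; decide +kernel
  z2h := by apply Subtype.ext; decide +kernel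
  xh := by apply Subtype.ext; decide +kernel
  z1y := by apply Subtype.ext; decide +kernel
  z2y := by apply Subtype.ext; decide +kernel
  xy := by apply Subtype.ext; decide +kernel
  nz2 := by apply Subtype.ext; decide +kernel
  z1j := by apply Subtype.ext; decide +kernel
  yj := by apply Subtype.ext; decide +kernel

theorem e70 : U 0 1 * nG = nG * U 7 2 := by apply Subtype.ext; decide +kernel
theorem e62 : U 2 2 * nG = nG * U 6 2 := by apply Subtype.ext; decide +kernel
theorem e51 : U 1 2 * nG = nG * U 5 1 := by apply Subtype.ext; decide +kernel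
theorem e3 : U 3 1 * (U 5 1 * U 1 1) = U 1 1 * U 5 1 := by apply Subtype.ext; decide +kernel
theorem e4 : U 4 1 * (U 6 1 * U 2 1) = U 2 1 * U 6 1 := by apply Subtype.ext; decide +kernel
theorem U_sq : ∀ k : Fin 8, U k 1 * U k 1 = U k 2 := by
  intro k
  apply Subtype.ext
  revert k
  decide +kernel
theorem U_sq' : ∀ k : Fin 8, U k 2 * U k 2 = U k 1 := by
  intro k
  apply Subtype.ext
  revert k
  decide +kernel
theorem U_zero : ∀ k : Fin 8, U k 0 = 1 := by
  intro k
  apply Subtype.ext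
  revert k
  decide +kernel

theorem gen (S : Subgroup (Matrix.symplecticGroup (Fin 2) (ZMod 3))) (h7 : U 7 2 ∈ S) (h6 : U 6 2 ∈ S)
    (h5 : U 5 1 ∈ S) (h7' : nG * U 7 2 * nG⁻¹ ∈ S) (h6' : nG * U 6 2 * nG⁻¹ ∈ S) (h5' : nG * U 5 1 * nG⁻¹ ∈ S) :
    S = ⊤ := by
  have k7 : U 7 1 ∈ S := by rw [← U_sq']; exact S.mul_mem h7 h7
  have k6 : U 6 1 ∈ S := by rw [← U_sq']; exact S.mul_mem h6 h6
  have k0 : U 0 1 ∈ S := by
    rw [← e70, mul_inv_cancel_right] at h7'
    exact h7'
  have k2 : U 2 1 ∈ S := by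
    rw [← e62, mul_inv_cancel_right] at h6'
    rw [← U_sq']; exact S.mul_mem h6' h6'
  have k1 : U 1 1 ∈ S := by
    rw [← e51, mul_inv_cancel_right] at h5'
    rw [← U_sq']; exact S.mul_mem h5' h5'
  have k3 : U 3 1 ∈ S := by
    rw [← mul_inv_eq_iff_eq_mul.2 e3.symm]
    exact S.mul_mem (S.mul_mem k1 h5) (S.inv_mem (S.mul_mem h5 k1))
  have k4 : U 4 1 ∈ S := by
    rw [← mul_inv_eq_iff_eq_mul.2 e4.symm]
    exact S.mul_mem (S.mul_mem k2 k6) (S.inv_mem (S.mul_mem k6 k2))
  have hall : ∀ k : Fin 8, U k 1 ∈ S := by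
    intro k
    fin_cases k
    · exact k0
    · exact k1
    · exact k2
    · exact k3
    · exact k4
    · exact h5
    · exact k6
    · exact k7
  have ht : ∀ t : ZMod 3, t = 0 ∨ t = 1 ∨ t = 2 := by decide
  have hall2 : ∀ (k : Fin 8) (t : ZMod 3), U k t ∈ S := by
    intro k t
    rcases ht t with rfl | rfl | rfl
    · rw [U_zero]; exact S.one_mem
    · exact hall k
    · rw [← U_sq]; exact S.mul_mem (hall k) (hall k)
  rw [eq_top_iff, ← gam_eq_top]
  refine (Subgroup.closure_le _).2 ?_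
  rintro A ⟨r, t, rfl⟩
  exact hall2 r t

/-- A 7-dimensional representation of `Sp₄(3)` over an algebraically closed field of characteristic ≠ 3 has a non-zero
fixed vector. -/
theorem exists_fixed {K : Type*} [Field K] [IsAlgClosed K] (h3 : (3 : K) ≠ 0) {V : Type*} [AddCommGroup V] [Module K V]
    [FiniteDimensional K V] (hV : finrank K V = 7)
    (ρ : Matrix.symplecticGroup (Fin 2) (ZMod 3) →* Module.End K V) : ∃ w : V, w ≠ 0 ∧ ∀ g, ρ g w = w := by
  obtain ⟨ω, hω, h1, hω3⟩ := Triple.exists_omega h3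
  obtain ⟨w, hw0, ⟨a1, a2, a3⟩, b1, b2, b3⟩ := exists_both ρ rel hω h1 hω3 h3 hV
  let S : Subgroup (Matrix.symplecticGroup (Fin 2) (ZMod 3)) :=
    { carrier := {g | ρ g w = w}
      mul_mem' := by
        intro a b ha hb
        change ρ (a * b) w = w
        rw [← mul_app]
        rw [show ρ b w = w from hb]
        exact ha
      one_mem' := by
        change ρ 1 w = w
        rw [map_one, Module.End.one_apply]
      inv_mem' := by
        intro a ha
        change ρ a⁻¹ w = w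
        have ha' : ρ a w = w := ha
        conv_lhs => rw [← ha']
        rw [mul_app, inv_mul_cancel, map_one, Module.End.one_apply] }
  have hcj : ∀ g : Matrix.symplecticGroup (Fin 2) (ZMod 3), ρ g (ρ nG⁻¹ w) = ρ nG⁻¹ w → nG * g * nG⁻¹ ∈ S := by
    intro g hg
    change ρ (nG * g * nG⁻¹) w = w
    rw [← mul_app, ← mul_app, hg, mul_app, mul_inv_cancel, map_one, Module.End.one_apply]
  have hS := gen S a1 a2 a3 (hcj _ b1) (hcj _ b2) (hcj _ b3)
  refine ⟨w, hw0, fun g => ?_⟩
  have : g ∈ S := by rw [hS]; exact Subgroup.mem_top g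
  exact this

/-- Fixed vectors over a field extension give fixed vectors. -/
theorem descend {F K : Type*} [Field F] [Field K] [Algebra F K] {n : ℕ} {X : Type*}
    (M : X → Matrix (Fin n) (Fin n) F) (w : Fin n → K) (hw : w ≠ 0)
    (h : ∀ g, ((M g).map (algebraMap F K)).mulVec w = w) : ∃ v : Fin n → F, v ≠ 0 ∧ ∀ g, (M g).mulVec v = v := by
  obtain ⟨i, hi⟩ : ∃ i, w i ≠ 0 := by
    by_contra hcon
    push Not at hcon
    exact hw (funext hcon)
  obtain ⟨φ, hφ⟩ : ∃ φ : Module.Dual F K, φ (w i) ≠ 0 := by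
    by_contra hcon
    push Not at hcon
    exact hi ((Module.forall_dual_apply_eq_zero_iff F (w i)).1 hcon)
  refine ⟨fun j => φ (w j), fun h0 => hφ (congrFun h0 i), fun g => ?_⟩
  funext j
  have h2 := congrArg φ (congrFun (h g) j)
  rw [← h2]
  simp only [Matrix.mulVec, dotProduct, Matrix.map_apply, map_sum]
  refine Finset.sum_congr rfl fun k _ => ?_
  rw [← Algebra.smul_def, map_smul, smul_eq_mul]

theorem seven_U42 {F : Type*} [Field F] [Finite F] {K : Type} [Field K] [Fintype K] (hK : Fintype.card K = 3) (h3 : (3 : F) ≠ 0)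
    (ρ : Cfsg.PSp 2 K →* Matrix.GeneralLinearGroup (Fin 7) F)
    (habs : Cfsg.Geo.ActsAbsolutelyIrreducibly (Cfsg.Geo.matrixSet ρ.range)) : False := by
  classical
  let e0 : ZMod 3 ≃+* K := ZMod.ringEquivOfPrime K Nat.prime_three hK
  let E : Cfsg.PSp 2 (ZMod 3) ≃* Cfsg.PSp 2 K := Cfsg.Agent.LieClassical.FieldTransfer.pspCongr 2 e0
  let A := AlgebraicClosure F
  have h3A : (3 : A) ≠ 0 := by
    intro h
    apply h3
    apply (algebraMap F A).injective
    rw [map_ofNat, map_zero, h]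
  let τ : Matrix.symplecticGroup (Fin 2) (ZMod 3) →* Matrix (Fin 7) (Fin 7) F :=
    (Units.coeHom _).comp (ρ.comp (E.toMonoidHom.comp (QuotientGroup.mk' (Subgroup.center _))))
  let τA : Matrix.symplecticGroup (Fin 2) (ZMod 3) →* Module.End A (Fin 7 → A) :=
    ((Matrix.toLinAlgEquiv' (R := A) (n := Fin 7)).toMonoidHom.comp
      ((algebraMap F A).mapMatrix (m := Fin 7)).toMonoidHom).comp τ
  obtain ⟨w, hw0, hw⟩ := exists_fixed h3A (by simp) τA
  obtain ⟨v, hv0, hv⟩ := descend τ w hw0 (fun g => by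
    have := hw g
    exact this)
  have hW : ∀ s ∈ Cfsg.Geo.matrixSet ρ.range, (F ∙ v).map (Matrix.toLin' s) ≤ F ∙ v := by
    rintro _ ⟨_, ⟨g, rfl⟩, rfl⟩
    obtain ⟨g', rfl⟩ := E.surjective g
    obtain ⟨g'', rfl⟩ := QuotientGroup.mk'_surjective _ g'
    rw [Submodule.map_span, Set.image_singleton]
    refine Submodule.span_mono (Set.singleton_subset_singleton.2 ?_)
    exact hv g''
  rcases habs.1 _ hW with h | h
  · exact hv0 (Submodule.span_singleton_eq_bot.1 h)
  · have h1 := finrank_span_singleton (K := F) hv0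
    rw [h, finrank_top] at h1
    simp at h1

end Cfsg.Agent.H659.SevenU42
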