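import Mathlib

/-!
# The arithmetic of three degrees

The arithmetic part of Brauer's theorem on groups with an abelian Sylow subgroup `P`,
`|N(P) : C(P)| = 3`.
-/

set_option autoImplicit false

namespace Cfsg.Agent.H659.Arith3

theorem one_neg {x y w a b c : ℤ} (hx : 0 < x) (hy : 0 < y) (hs : x + y + w = -1)
    (hz : a + b + c = 0) (hE : a ^ 2 * y * w + b ^ 2 * x * w + c ^ 2 * x * y = 0) : a = 0 := by
  have hw : w = -1 - x - y := by linarith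
  have hc : c = -a - b := by linarith
  subst hw
  subst hc
  have h1 : a ^ 2 * y + b ^ 2 * x + (a * y - b * x) ^ 2 = 0 := by linear_combination -hE
  have h2 : 0 ≤ a ^ 2 * y := by positivity
  have h3 : 0 ≤ b ^ 2 * x := by positivity
  have h4 : 0 ≤ (a * y - b * x) ^ 2 := sq_nonneg _
  have h5 : a ^ 2 * y = 0 := by linarith
  rcases mul_eq_zero.1 h5 with h | h
  · exact pow_eq_zero_iff (two_ne_zero) |>.1 h
  · exact absurd h hy.ne'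

theorem main {a₂ a₃ a₄ : ℤ} (ha₂ : a₂ = 1 ∨ a₂ = -1) (ha₃ : a₃ = 1 ∨ a₃ = -1)
    (ha₄ : a₄ = 1 ∨ a₄ = -1) {f₂ f₃ f₄ : ℕ} (hf₂ : 0 < f₂) (hf₃ : 0 < f₃) (hf₄ : 0 < f₄)
    {y₂ y₃ y₄ : ℤ} (h₂ : y₂ ≠ f₂) (h₃ : y₃ ≠ f₃) (h₄ : y₄ ≠ f₄)
    (R1 : 1 + a₂ * f₂ + a₃ * f₃ + a₄ * f₄ = 0)
    (R2 : 1 + a₂ * y₂ + a₃ * y₃ + a₄ * y₄ = 0)
    (R3 : (1 : ℚ) + a₂ * (y₂ : ℚ) ^ 2 / f₂ + a₃ * (y₃ : ℚ) ^ 2 / f₃ + a₄ * (y₄ : ℚ) ^ 2 / f₄ = 0) :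
    (if a₂ = -1 then 1 else 0) + (if a₃ = -1 then 1 else 0) + (if a₄ = -1 then 1 else 0) = 2 ∧
      IsSquare (f₄ * (f₂ * f₃)) := by
  have e₂ : a₂ ^ 2 = 1 := by rcases ha₂ with h | h <;> rw [h] <;> norm_num
  have e₃ : a₃ ^ 2 = 1 := by rcases ha₃ with h | h <;> rw [h] <;> norm_num
  have e₄ : a₄ ^ 2 = 1 := by rcases ha₄ with h | h <;> rw [h] <;> norm_num
  have R3' : (f₂ : ℤ) * f₃ * f₄ + a₂ * y₂ ^ 2 * (f₃ * f₄) + a₃ * y₃ ^ 2 * (f₂ * f₄) +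
      a₄ * y₄ ^ 2 * (f₂ * f₃) = 0 := by
    have hf₂' : (f₂ : ℚ) ≠ 0 := by exact_mod_cast hf₂.ne'
    have hf₃' : (f₃ : ℚ) ≠ 0 := by exact_mod_cast hf₃.ne'
    have hf₄' : (f₄ : ℚ) ≠ 0 := by exact_mod_cast hf₄.ne'
    have : ((f₂ : ℚ) * f₃ * f₄ + a₂ * y₂ ^ 2 * (f₃ * f₄) + a₃ * y₃ ^ 2 * (f₂ * f₄) +
        a₄ * y₄ ^ 2 * (f₂ * f₃)) = 0 := by
      field_simp at R3
      linear_combination R3
    exact_mod_cast this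
  -- signed degrees and defects
  set x₂ : ℤ := a₂ * f₂ with hx₂
  set x₃ : ℤ := a₃ * f₃ with hx₃
  set x₄ : ℤ := a₄ * f₄ with hx₄
  set z₂ : ℤ := a₂ * (f₂ - y₂) with hz₂
  set z₃ : ℤ := a₃ * (f₃ - y₃) with hz₃
  set z₄ : ℤ := a₄ * (f₄ - y₄) with hz₄
  have a₂0 : a₂ ≠ 0 := by rcases ha₂ with h | h <;> rw [h] <;> norm_num
  have a₃0 : a₃ ≠ 0 := by rcases ha₃ with h | h <;> rw [h] <;> norm_num
  have a₄0 : a₄ ≠ 0 := by rcases ha₄ with h | h <;> rw [h] <;> norm_num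
  have hz₂0 : z₂ ≠ 0 := mul_ne_zero a₂0 (sub_ne_zero.2 (Ne.symm h₂))
  have hz₃0 : z₃ ≠ 0 := mul_ne_zero a₃0 (sub_ne_zero.2 (Ne.symm h₃))
  have hz₄0 : z₄ ≠ 0 := mul_ne_zero a₄0 (sub_ne_zero.2 (Ne.symm h₄))
  have S1 : x₂ + x₃ + x₄ = -1 := by linarith
  have S2 : z₂ + z₃ + z₄ = 0 := by
    rw [hz₂, hz₃, hz₄]
    linear_combination R1 - R2
  have S3 : z₂ ^ 2 * x₃ * x₄ + z₃ ^ 2 * x₂ * x₄ + z₄ ^ 2 * x₂ * x₃ = 0 := by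
    rw [hz₂, hz₃, hz₄, hx₂, hx₃, hx₄]
    have : (a₂ * ((f₂ : ℤ) - y₂)) ^ 2 * (a₃ * f₃) * (a₄ * f₄) + (a₃ * (f₃ - y₃)) ^ 2 * (a₂ * f₂) * (a₄ * f₄)
        + (a₄ * (f₄ - y₄)) ^ 2 * (a₂ * f₂) * (a₃ * f₃) =
        a₂ ^ 2 * ((f₂ : ℤ) - y₂) ^ 2 * a₃ * f₃ * a₄ * f₄ + a₃ ^ 2 * (f₃ - y₃) ^ 2 * a₂ * f₂ * a₄ * f₄
        + a₄ ^ 2 * (f₄ - y₄) ^ 2 * a₂ * f₂ * a₃ * f₃ := by ring
    rw [this, e₂, e₃, e₄]
    have k : (((f₂ : ℤ) - y₂) ^ 2 * a₃ * f₃ * a₄ * f₄ + (f₃ - y₃) ^ 2 * a₂ * f₂ * a₄ * f₄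
        + (f₄ - y₄) ^ 2 * a₂ * f₂ * a₃ * f₃) * (a₂ * a₃ * a₄) = 0 := by
      have k2 : (((f₂ : ℤ) - y₂) ^ 2 * a₃ * f₃ * a₄ * f₄ + (f₃ - y₃) ^ 2 * a₂ * f₂ * a₄ * f₄
        + (f₄ - y₄) ^ 2 * a₂ * f₂ * a₃ * f₃) * (a₂ * a₃ * a₄) =
        a₃ ^ 2 * a₄ ^ 2 * a₂ * ((f₂ : ℤ) - y₂) ^ 2 * f₃ * f₄ +
        a₂ ^ 2 * a₄ ^ 2 * a₃ * (f₃ - y₃) ^ 2 * f₂ * f₄ +
        a₂ ^ 2 * a₃ ^ 2 * a₄ * (f₄ - y₄) ^ 2 * f₂ * f₃ := by ring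
      rw [k2, e₂, e₃, e₄]
      linear_combination R3' + (f₂ : ℤ) * f₃ * f₄ * R1 - 2 * (f₂ : ℤ) * f₃ * f₄ * R2
    have k3 : a₂ * a₃ * a₄ ≠ 0 := mul_ne_zero (mul_ne_zero a₂0 a₃0) a₄0
    have k4 := (mul_eq_zero.1 k).resolve_right k3
    linear_combination k4
  have p₂ : a₂ = 1 → 0 < x₂ := by
    intro h; rw [hx₂, h, one_mul]; exact_mod_cast hf₂
  have p₃ : a₃ = 1 → 0 < x₃ := by
    intro h; rw [hx₃, h, one_mul]; exact_mod_cast hf₃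
  have p₄ : a₄ = 1 → 0 < x₄ := by
    intro h; rw [hx₄, h, one_mul]; exact_mod_cast hf₄
  have n₂ : a₂ = -1 → x₂ < 0 := by
    intro h; rw [hx₂, h, neg_one_mul]; have : (0 : ℤ) < f₂ := by exact_mod_cast hf₂
    linarith
  have n₃ : a₃ = -1 → x₃ < 0 := by
    intro h; rw [hx₃, h, neg_one_mul]; have : (0 : ℤ) < f₃ := by exact_mod_cast hf₃
    linarith
  have n₄ : a₄ = -1 → x₄ < 0 := by
    intro h; rw [hx₄, h, neg_one_mul]; have : (0 : ℤ) < f₄ := by exact_mod_cast hf₄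
    linarith
  have hcount : (if a₂ = -1 then 1 else 0) + (if a₃ = -1 then 1 else 0) +
      (if a₄ = -1 then 1 else 0) = 2 := by
    rcases ha₂ with h2 | h2 <;> rcases ha₃ with h3 | h3 <;> rcases ha₄ with h4 | h4
    · exfalso
      have := p₂ h2; have := p₃ h3; have := p₄ h4
      linarith
    · exfalso
      exact hz₂0 (one_neg (p₂ h2) (p₃ h3) S1 S2 S3)
    · exfalso
      exact hz₂0 (one_neg (x := x₂) (y := x₄) (w := x₃) (b := z₄) (c := z₃) (p₂ h2) (p₄ h4)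
        (by linarith) (by linarith) (by linear_combination S3))
    · rw [h2, h3, h4]; norm_num
    · exfalso
      exact hz₃0 (one_neg (x := x₃) (y := x₄) (w := x₂) (b := z₄) (c := z₂) (p₃ h3) (p₄ h4)
        (by linarith) (by linarith) (by linear_combination S3))
    · rw [h2, h3, h4]; norm_num
    · rw [h2, h3, h4]; norm_num
    · exfalso
      have q2 := n₂ h2
      have q3 := n₃ h3
      have q4 := n₄ h4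
      have r1 : 0 < z₂ ^ 2 * x₃ * x₄ := by
        have : 0 < z₂ ^ 2 := by positivity
        have := mul_pos_of_neg_of_neg q3 q4
        nlinarith
      have r2 : 0 ≤ z₃ ^ 2 * x₂ * x₄ := by
        have : 0 ≤ z₃ ^ 2 := by positivity
        have := mul_pos_of_neg_of_neg q2 q4
        nlinarith
      have r3 : 0 ≤ z₄ ^ 2 * x₂ * x₃ := by
        have : 0 ≤ z₄ ^ 2 := by positivity
        have := mul_pos_of_neg_of_neg q2 q3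
        nlinarith
      linarith
  refine ⟨hcount, ?_⟩
  -- the square
  have hsq : z₃ ^ 2 * (x₂ * x₃ * x₄) = (z₂ * x₃ * (1 + x₃) - z₃ * x₂ * x₃) ^ 2 := by
    have hz4' : z₄ = -z₂ - z₃ := by linarith
    have hx4' : x₄ = -1 - x₂ - x₃ := by linarith
    rw [hz4', hx4'] at S3
    rw [hx4']
    linear_combination x₃ * (1 + x₃) * S3
  have hprod : x₂ * x₃ * x₄ = (f₄ * (f₂ * f₃) : ℕ) := by
    have h1 : a₂ * a₃ * a₄ = 1 := by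
      rcases ha₂ with h2 | h2 <;> rcases ha₃ with h3 | h3 <;> rcases ha₄ with h4 | h4 <;>
        rw [h2, h3, h4] at hcount ⊢ <;> revert hcount <;> norm_num
    rw [hx₂, hx₃, hx₄]
    push_cast
    linear_combination (f₂ : ℤ) * f₃ * f₄ * h1
  have hdvd : z₃ ^ 2 ∣ (z₂ * x₃ * (1 + x₃) - z₃ * x₂ * x₃) ^ 2 := ⟨_, hsq.symm⟩
  obtain ⟨k, hk⟩ := (Int.pow_dvd_pow_iff (two_ne_zero)).1 hdvd
  have hfin : x₂ * x₃ * x₄ = k ^ 2 := by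
    have h1 : z₃ ^ 2 * (x₂ * x₃ * x₄) = z₃ ^ 2 * k ^ 2 := by
      rw [hsq, hk]; ring
    exact mul_left_cancel₀ (pow_ne_zero 2 hz₃0) h1
  rw [hprod] at hfin
  refine ⟨k.natAbs, ?_⟩
  have h1 : ((f₄ * (f₂ * f₃) : ℕ) : ℤ) = ((k.natAbs * k.natAbs : ℕ) : ℤ) := by
    rw [hfin]
    push_cast
    rw [pow_two]
    exact (abs_mul_abs_self k).symm
  exact_mod_cast h1

end Cfsg.Agent.H659.Arith3
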