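import Cfsg.Agent.H721.FR.Base
import Cfsg.Agent.H575.SR.Pieces

/-!
# TEAM SR part 2 (S4970), task FR-ASM: the strong induction

`Inputs` collects the statements of the pieces FR-CVR, FR-RED, FR-SMALL, FR-ONE, FR-UNI, FR-SEM, FR-SEM2, FR-N4;
`hyp_all : Inputs → ∀ n, Hyp n`, and its consequences for `O Q` and the symplectic groups.
-/

set_option autoImplicit false

universe u

namespace Cfsg.Agent.H659.FRAsm

open Cfsg Cfsg.Agent.H955.FS Cfsg.Agent.H721.SR Cfsg.Agent.H721.FR Module QuadraticMap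
open Cfsg.Agent.LieClassical.OrthCore

/-- `X² - τ X + 1` has a root in `F` -/
def Split {F : Type u} [Field F] (τ : F) : Prop := ∃ a : F, a * a + 1 = τ * a

/-- the statements of the pieces -/
structure Inputs : Prop where
  /-- FR-CVR -/
  cvr : ∀ {F V : Type u} [Field F] [Finite F] [AddCommGroup V] [Module F V] [FiniteDimensional F V]
    {B : V →ₗ[F] V →ₗ[F] F} {ε : F}, Fm B ε →
    (∀ (c : V ≃ₗ[F] V) (P : Subgroup (V ≃ₗ[F] V)), c ∈ Isom B → (c = 1 ∨ ((orderOf c).Prime ∧ orderOf c ≠ 2)) →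
      Mx B c P → Cov B ε c P) → FSZs (Isom B) (zel V ε)
  /-- FR-RED -/
  red : ∀ {F V : Type u} [Field F] [Finite F] [AddCommGroup V] [Module F V] [FiniteDimensional F V]
    {B : V →ₗ[F] V →ₗ[F] F} {ε : F}, Fm B ε → (∀ m < finrank F V, Hyp.{u} m) →
    ∀ {c : V ≃ₗ[F] V} {P : Subgroup (V ≃ₗ[F] V)}, c ∈ Isom B → P ≤ Isom B →
      Red B (Subgroup.closure {c} ⊔ P) → Cov B ε c P
  /-- FR-SMALL -/
  small : ∀ n ≤ 2, Hyp.{u} n
  /-- FR-ONE -/
  one : ∀ {F V : Type u} [Field F] [Finite F] [AddCommGroup V] [Module F V] [FiniteDimensional F V]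
    {B : V →ₗ[F] V →ₗ[F] F} {ε : F}, Fm B ε → 3 ≤ finrank F V → ∀ {P : Subgroup (V ≃ₗ[F] V)}, Mx B 1 P → Red B P
  /-- FR-UNI -/
  uni : ∀ {F V : Type u} [Field F] [Finite F] [AddCommGroup V] [Module F V] [FiniteDimensional F V]
    {B : V →ₗ[F] V →ₗ[F] F} {ε : F}, Fm B ε → (∀ m < finrank F V, Hyp.{u} m) →
    ∀ {c : V ≃ₗ[F] V} {P : Subgroup (V ≃ₗ[F] V)}, c ∈ Isom B → c ≠ 1 → (∃ a : ℕ, c ^ (ringChar F) ^ a = 1) →
      Mx B c P → Cov B ε c P
  /-- FR-SEM -/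
  sem : ∀ {F V : Type u} [Field F] [Finite F] [AddCommGroup V] [Module F V] [FiniteDimensional F V]
    {B : V →ₗ[F] V →ₗ[F] F} {ε : F}, Fm B ε → (∀ m < finrank F V, Hyp.{u} m) →
    ∀ {c : V ≃ₗ[F] V} {P : Subgroup (V ≃ₗ[F] V)}, c ∈ Isom B → c ≠ 1 → (orderOf c).Prime → orderOf c ≠ 2 →
      orderOf c ≠ ringChar F → Mx B c P →
      Cov B ε c P ∨ ∃ τ : F, τ ≠ 2 ∧ τ ≠ -2 ∧ ∀ v, c v + c⁻¹ v = τ • v
  /-- FR-SEM2 -/
  sem2 : ∀ {F V : Type u} [Field F] [Finite F] [AddCommGroup V] [Module F V] [FiniteDimensional F V]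
    {B : V →ₗ[F] V →ₗ[F] F} {ε : F}, Fm B ε →
    ∀ {c : V ≃ₗ[F] V} {P : Subgroup (V ≃ₗ[F] V)} {τ : F}, c ∈ Isom B → c ≠ 1 → (orderOf c).Prime → orderOf c ≠ 2 →
      orderOf c ≠ ringChar F → Mx B c P → τ ≠ 2 → τ ≠ -2 → (∀ v, c v + c⁻¹ v = τ • v) → 3 ≤ finrank F V →
      Red B (Subgroup.closure {c} ⊔ P) ∨
        (finrank F V = 4 ∧ ((Split τ ∧ Nat.card F % 4 = 3) ∨ (¬ Split τ ∧ Nat.card F % 4 = 1)))
  /-- FR-N4 -/
  n4 : ∀ {F V : Type u} [Field F] [Finite F] [AddCommGroup V] [Module F V] [FiniteDimensional F V]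
    {B : V →ₗ[F] V →ₗ[F] F} {ε : F}, Fm B ε →
    ∀ {c : V ≃ₗ[F] V} {P : Subgroup (V ≃ₗ[F] V)} {τ : F}, c ∈ Isom B → c ≠ 1 → (orderOf c).Prime → orderOf c ≠ 2 →
      orderOf c ≠ ringChar F → Mx B c P → τ ≠ 2 → τ ≠ -2 → (∀ v, c v + c⁻¹ v = τ • v) → finrank F V = 4 →
      ((Split τ ∧ Nat.card F % 4 = 3) ∨ (¬ Split τ ∧ Nat.card F % 4 = 1)) → Cov B ε c P

/-- **the geometric induction** -/
theorem Inputs.hyp_all (I : Inputs.{u}) : ∀ n : ℕ, Hyp.{u} n := by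
  intro n
  induction n using Nat.strong_induction_on with
  | _ n ih =>
    by_cases hn : n ≤ 2
    · exact I.small n hn
    intro F V _ _ _ _ _ B ε hF hV
    have hI : ∀ m < finrank F V, Hyp.{u} m := by rw [hV]; exact ih
    refine I.cvr hF fun c P hc ho hP => ?_
    rcases ho with rfl | ⟨hp, h2⟩
    · apply I.red hF hI hc hP.le
      rw [Subgroup.closure_singleton_one, bot_sup_eq]
      exact I.one hF (by omega) hP
    · have hc1 : c ≠ 1 := by
        rintro rfl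
        rw [orderOf_one] at hp
        exact Nat.not_prime_one hp
      by_cases hch : orderOf c = ringChar F
      · exact I.uni hF hI hc hc1 ⟨1, by rw [pow_one, ← hch, pow_orderOf_eq_one]⟩ hP
      · rcases I.sem hF hI hc hc1 hp h2 hch hP with h | ⟨τ, t1, t2, ht⟩
        · exact h
        · rcases I.sem2 hF hc hc1 hp h2 hch hP t1 t2 ht (by omega) with h | ⟨h4, h5⟩
          · exact I.red hF hI hc hP.le h
          · exact I.n4 hF hc hc1 hp h2 hch hP t1 t2 ht h4 h5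

/-! ### consequences -/

section Consequences

variable {F V : Type u} [Field F] [Finite F] [AddCommGroup V] [Module F V] [FiniteDimensional F V]

theorem finite_gl : Finite (V ≃ₗ[F] V) := by
  haveI : Finite V := Module.finite_of_finite F
  exact Finite.of_injective (fun g : V ≃ₗ[F] V => (g : V → V)) DFunLike.coe_injective

theorem fsGood_true_isom (h : ∀ n : ℕ, Hyp.{u} n) {B : V →ₗ[F] V →ₗ[F] F} (hF : Fm B 1) :
    FSGood True (Isom B) := by
  haveI := finite_gl (F := F) (V := V)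
  obtain ⟨hz, h1⟩ := h _ F V B 1 hF rfl
  have h2 : (⟨zel V (1 : F), hz⟩ : Isom B) = 1 := by
    apply Subtype.ext
    change zel V (1 : F) = 1
    unfold zel
    rw [if_pos rfl]
  rw [h2] at h1
  exact fsz_one_iff.1 h1

omit [Finite F] [FiniteDimensional F V] in
theorem fm_polar {Q : QuadraticForm F V} (h2 : (2 : F) ≠ 0) (hQ : Nondeg Q) : Fm (polarBilin Q) 1 :=
  ⟨h2, Or.inl rfl, fun x y => by
    rw [one_mul, polarBilin_apply_apply, polarBilin_apply_apply, QuadraticMap.polar_comm], hQ⟩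

omit [Finite F] [FiniteDimensional F V] in
theorem o_eq_isom {Q : QuadraticForm F V} (h2 : (2 : F) ≠ 0) : O Q = Isom (polarBilin Q) := by
  ext g
  constructor
  · intro hg x y
    rw [polarBilin_apply_apply, polarBilin_apply_apply, polar_map hg]
  · intro hg v
    have h1 := mem_isom.1 hg v v
    rw [polarBilin_apply_apply, polarBilin_apply_apply, polar_self', polar_self'] at h1
    exact mul_left_cancel₀ h2 h1

/-- no indicator of `O Q` is `-1` -/
theorem fsGood_true_O (h : ∀ n : ℕ, Hyp.{u} n) {Q : QuadraticForm F V} (h2 : (2 : F) ≠ 0) (hQ : Nondeg Q) :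
    FSGood True (O Q) := by
  rw [o_eq_isom h2]
  exact fsGood_true_isom h (fm_polar h2 hQ)

omit [Finite F] in
/-- all elements of `O Q` are real -/
theorem isConj_inv_O {Q : QuadraticForm F V} (h2 : (2 : F) ≠ 0) (hQ : Nondeg Q) (g : O Q) : IsConj g g⁻¹ := by
  have hS : St (polarBilin Q) 1 (g : V ≃ₗ[F] V) :=
    ⟨Or.inl rfl, (fm_polar h2 hQ).symm, hQ, mem_isom.1 (by rw [← o_eq_isom h2]; exact g.2)⟩
  obtain ⟨x, -, hx, hB⟩ := Cfsg.Agent.H575.SR.isVert_all hS (Or.inl h2)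
  have hxO : x ∈ O Q := by
    rw [o_eq_isom h2]
    intro a b
    rw [hB, one_mul]
  exact isConj_iff.2 ⟨⟨x, hxO⟩, Subtype.ext hx⟩

/-- **all indicators of `O Q` are one** (`q` odd) -/
theorem fsGood_false_O (h : ∀ n : ℕ, Hyp.{u} n) {Q : QuadraticForm F V} (h2 : (2 : F) ≠ 0) (hQ : Nondeg Q) :
    FSGood False (O Q) := by
  haveI := finite_gl (F := F) (V := V)
  exact (fsGood_true_O h h2 hQ).of_isConj_inv fun g => isConj_inv_O h2 hQ g

/-- **the symplectic groups over fields of order `1 mod 4`**: `ν(χ) ≠ -χ(-1)/χ(1)` -/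
theorem fsz_sp (h : ∀ n : ℕ, Hyp.{u} n) {B : V →ₗ[F] V →ₗ[F] F} (h4 : Nat.card F % 4 = 1) (h2 : (2 : F) ≠ 0)
    (hs : ∀ x y, B x y = - B y x) (hnd : ∀ x, (∀ y, B x y = 0) → x = 0) :
    FSZs (Isom B) (LinearEquiv.neg F : V ≃ₗ[F] V) := by
  have hF : Fm B (-1) := ⟨h2, Or.inr ⟨rfl, h4⟩, fun x y => by rw [hs]; ring, hnd⟩
  have h1 := h _ F V B (-1) hF rfl
  have h3 : zel V (-1 : F) = LinearEquiv.neg F := by
    unfold zel
    rw [if_neg]
    intro h0
    apply h2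
    linear_combination -h0
  rwa [h3] at h1

end Consequences

end Cfsg.Agent.H659.FRAsm
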