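import Mathlib

/-!
# Abelian Sylow subgroups with an automizer of order three acting semiregularly
-/

set_option autoImplicit false
set_option linter.unusedSectionVars false

namespace Cfsg.Agent.H659.Frob3Group

open Subgroup

variable {G : Type*} [Group G] [Finite G] {p : ℕ} [Fact p.Prime] (P : Sylow p G)

/-- The hypotheses. -/
structure Hyp : Prop where
  comm : ∀ x ∈ (P : Subgroup G), ∀ y ∈ (P : Subgroup G), x * y = y * x
  idx : (centralizer ((P : Subgroup G) : Set G)).relIndex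
    (normalizer ((P : Subgroup G) : Set G)) = 3
  frob : ∀ y : G, y ∈ (P : Subgroup G) → y ≠ 1 →
    centralizer ({y} : Set G) ⊓ normalizer ((P : Subgroup G) : Set G) =
      centralizer ((P : Subgroup G) : Set G)

variable {P}

theorem mem_of_commute (h : Hyp P) {y n : G} (hy : y ∈ (P : Subgroup G)) (hy1 : y ≠ 1)
    (hn : n ∈ normalizer ((P : Subgroup G) : Set G)) (hc : n * y * n⁻¹ = y) :
    n ∈ centralizer ((P : Subgroup G) : Set G) := by
  rw [← h.frob y hy hy1]
  refine ⟨mem_centralizer_singleton_iff.2 ?_, hn⟩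
  calc n * y = (n * y * n⁻¹) * n := by group
    _ = y * n := by rw [hc]

theorem pow_three_mem (h : Hyp P) {n : G} (hn : n ∈ normalizer ((P : Subgroup G) : Set G)) :
    n ^ 3 ∈ centralizer ((P : Subgroup G) : Set G) := by
  have := Subgroup.pow_index_mem ((centralizer ((P : Subgroup G) : Set G)).subgroupOf
    (normalizer ((P : Subgroup G) : Set G))) ⟨n, hn⟩
  have h2 : ((centralizer ((P : Subgroup G) : Set G)).subgroupOf
    (normalizer ((P : Subgroup G) : Set G))).index = 3 := h.idx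
  rw [h2] at this
  exact this

theorem conj_mem (n x : G) (hn : n ∈ normalizer ((P : Subgroup G) : Set G))
    (hx : x ∈ (P : Subgroup G)) : n * x * n⁻¹ ∈ (P : Subgroup G) :=
  (mem_normalizer_iff.1 hn x).1 hx

theorem exists_gen (h : Hyp P) : ∃ n ∈ normalizer ((P : Subgroup G) : Set G),
    n ∉ centralizer ((P : Subgroup G) : Set G) := by
  by_contra hcon
  push Not at hcon
  have : (centralizer ((P : Subgroup G) : Set G)).relIndex
      (normalizer ((P : Subgroup G) : Set G)) = 1 := Subgroup.relIndex_eq_one.2 hcon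
  rw [h.idx] at this
  omega

theorem exists_coset (h : Hyp P) {n g : G} (hn : n ∈ normalizer ((P : Subgroup G) : Set G))
    (hnC : n ∉ centralizer ((P : Subgroup G) : Set G))
    (hg : g ∈ normalizer ((P : Subgroup G) : Set G)) :
    ∃ i : ℕ, i < 3 ∧ ∃ c ∈ centralizer ((P : Subgroup G) : Set G), g = n ^ i * c := by
  have : Fact (Nat.Prime 3) := ⟨Nat.prime_three⟩
  set N := normalizer ((P : Subgroup G) : Set G) with hN
  set C : Subgroup N := (centralizer ((P : Subgroup G) : Set G)).subgroupOf N with hC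
  have hCn : C.Normal := by
    rw [hC, hN, ← normalizerMonoidHom_ker]
    exact MonoidHom.normal_ker _
  have hcard : Nat.card (N ⧸ C) = 3 := h.idx
  have hne : ((⟨n, hn⟩ : N) : N ⧸ C) ≠ 1 := by
    intro h1
    rw [QuotientGroup.eq_one_iff] at h1
    exact hnC h1
  obtain ⟨k, hk⟩ := mem_powers_of_prime_card hcard hne (g' := ((⟨g, hg⟩ : N) : N ⧸ C))
  have hk' : ((⟨n, hn⟩ ^ k : N) : N ⧸ C) = ((⟨g, hg⟩ : N) : N ⧸ C) := by
    rw [QuotientGroup.mk_pow]
    exact hk
  rw [QuotientGroup.eq] at hk'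
  have hmem : (n ^ k)⁻¹ * g ∈ centralizer ((P : Subgroup G) : Set G) := hk'
  have h3 := pow_three_mem h hn
  refine ⟨k % 3, Nat.mod_lt _ (by norm_num), (n ^ (k % 3))⁻¹ * g, ?_, by group⟩
  have h4 : (n ^ (k % 3))⁻¹ * g = (n ^ 3) ^ (k / 3) * ((n ^ k)⁻¹ * g) := by
    have h5 : n ^ k = (n ^ 3) ^ (k / 3) * n ^ (k % 3) := by
      rw [← pow_mul, ← pow_add, Nat.div_add_mod]
    have h6 : n ^ k = n ^ (k % 3) * (n ^ 3) ^ (k / 3) := by
      rw [← pow_mul, ← pow_add, Nat.mod_add_div]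
    rw [h6]
    group
  rw [h4]
  exact Subgroup.mul_mem _ (Subgroup.pow_mem _ h3 _) hmem

theorem conj_centralizer {c x : G} (hc : c ∈ centralizer ((P : Subgroup G) : Set G))
    (hx : x ∈ (P : Subgroup G)) : c * x * c⁻¹ = x := by
  have := mem_centralizer_iff.1 hc x hx
  calc c * x * c⁻¹ = x * c * c⁻¹ := by rw [this]
    _ = x := by group

theorem conj_eq_pow (h : Hyp P) {n g y : G} (hn : n ∈ normalizer ((P : Subgroup G) : Set G))
    (hnC : n ∉ centralizer ((P : Subgroup G) : Set G))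
    (hg : g ∈ normalizer ((P : Subgroup G) : Set G)) (hy : y ∈ (P : Subgroup G)) :
    ∃ i : ℕ, i < 3 ∧ g * y * g⁻¹ = n ^ i * y * (n ^ i)⁻¹ := by
  obtain ⟨i, hi, c, hc, rfl⟩ := exists_coset h hn hnC hg
  refine ⟨i, hi, ?_⟩
  calc n ^ i * c * y * (n ^ i * c)⁻¹ = n ^ i * (c * y * c⁻¹) * (n ^ i)⁻¹ := by group
    _ = _ := by rw [conj_centralizer hc hy]

theorem fusion (h : Hyp P) {x g : G} (hx : x ∈ (P : Subgroup G))
    (hg : g * x * g⁻¹ ∈ (P : Subgroup G)) :
    ∃ n ∈ normalizer ((P : Subgroup G) : Set G), n * x * n⁻¹ = g * x * g⁻¹ := by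
  have : IsMulCommutative (P : Subgroup G) :=
    ⟨⟨fun a b => Subtype.ext (h.comm a a.2 b b.2)⟩⟩
  obtain ⟨n, hn, hn'⟩ := Sylow.conj_eq_normalizer_conj_of_mem P x g⁻¹ hx (by rwa [inv_inv])
  exact ⟨n⁻¹, Subgroup.inv_mem _ hn, by rw [inv_inv] at hn' ⊢; exact hn'.symm⟩

/-- Real elements of `P` have order at most two. -/
theorem real (h : Hyp P) {y g : G} (hy : y ∈ (P : Subgroup G)) (hg : g * y * g⁻¹ = y⁻¹) :
    y * y = 1 := by
  by_cases hy1 : y = 1
  · rw [hy1, one_mul]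
  obtain ⟨n, hn, hn'⟩ := fusion h hy (g := g) (by rw [hg]; exact P.inv_mem hy)
  rw [hg] at hn'
  have h2 : n * n ∈ centralizer ((P : Subgroup G) : Set G) := by
    apply mem_of_commute h hy hy1 (mul_mem hn hn)
    calc n * n * y * (n * n)⁻¹ = n * (n * y * n⁻¹) * n⁻¹ := by group
      _ = n * y⁻¹ * n⁻¹ := by rw [hn']
      _ = (n * y * n⁻¹)⁻¹ := by group
      _ = y := by rw [hn', inv_inv]
  have h3 := pow_three_mem h hn
  have h1 : n ∈ centralizer ((P : Subgroup G) : Set G) := by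
    have : n = (n * n)⁻¹ * n ^ 3 := by group
    rw [this]
    exact mul_mem (inv_mem h2) h3
  have h4 := conj_centralizer h1 hy
  rw [hn'] at h4
  calc y * y = y⁻¹ * y := by rw [h4]
    _ = 1 := by group

theorem prod_eq_one (h : Hyp P) {n y : G} (hn : n ∈ normalizer ((P : Subgroup G) : Set G))
    (hnC : n ∉ centralizer ((P : Subgroup G) : Set G)) (hy : y ∈ (P : Subgroup G)) :
    y * (n * y * n⁻¹) * (n * (n * y * n⁻¹) * n⁻¹) = 1 := by
  by_contra hne
  have h1 := conj_mem n y hn hy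
  have h2 := conj_mem n _ hn h1
  apply hnC
  refine mem_of_commute h (mul_mem (mul_mem hy h1) h2) hne hn ?_
  have h3 := conj_centralizer (pow_three_mem h hn) hy
  calc n * (y * (n * y * n⁻¹) * (n * (n * y * n⁻¹) * n⁻¹)) * n⁻¹
      = (n * y * n⁻¹) * (n * (n * y * n⁻¹) * n⁻¹) * (n ^ 3 * y * (n ^ 3)⁻¹) := by group
    _ = (n * y * n⁻¹) * (n * (n * y * n⁻¹) * n⁻¹) * y := by rw [h3]
    _ = y * ((n * y * n⁻¹) * (n * (n * y * n⁻¹) * n⁻¹)) := (h.comm _ hy _ (mul_mem h1 h2)).symm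
    _ = y * (n * y * n⁻¹) * (n * (n * y * n⁻¹) * n⁻¹) := by group

/-- The automorphism induced on `P`. -/
theorem card_modEq (h : Hyp P) : Nat.card (P : Subgroup G) ≡ 1 [MOD 3] := by
  have : Fact (Nat.Prime 3) := ⟨Nat.prime_three⟩
  obtain ⟨n, hn, hnC⟩ := exists_gen h
  set τ : MulAut (P : Subgroup G) := (P : Subgroup G).normalizerMonoidHom ⟨n, hn⟩ with hτ
  have hτapp : ∀ x : (P : Subgroup G), ((τ x : (P : Subgroup G)) : G) = n * x * n⁻¹ := by
    intro x
    rfl
  have hτ3 : τ ^ 3 = 1 := by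
    ext x
    have : ((τ (τ (τ x)) : (P : Subgroup G)) : G) = x := by
      rw [hτapp, hτapp, hτapp]
      have h3 := conj_centralizer (pow_three_mem h hn) x.2
      calc n * (n * (n * x * n⁻¹) * n⁻¹) * n⁻¹ = n ^ 3 * x * (n ^ 3)⁻¹ := by
            simp only [pow_succ, pow_zero, one_mul, mul_inv_rev, mul_assoc]
        _ = x := h3
    exact this
  have hp3 : IsPGroup 3 (zpowers τ) := by
    rintro ⟨x, k, rfl⟩
    refine ⟨1, Subtype.ext ?_⟩
    change (τ ^ k) ^ (3 ^ 1) = 1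
    rw [pow_one, ← zpow_natCast, ← zpow_mul, mul_comm, zpow_mul, zpow_natCast, hτ3, one_zpow]
  have h1 := hp3.card_modEq_card_fixedPoints (P : Subgroup G)
  have h2 : Nat.card (MulAction.fixedPoints (zpowers τ) (P : Subgroup G)) = 1 := by
    have h5 : MulAction.fixedPoints (zpowers τ) (P : Subgroup G) = {1} := by
      ext x
      rw [MulAction.mem_fixedPoints, Set.mem_singleton_iff]
      constructor
      · intro hx
        by_contra hne
        apply hnC
        have hx' := hx ⟨τ, mem_zpowers τ⟩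
        have hx'' : τ x = x := hx'
        refine mem_of_commute h x.2 (fun hh => hne (Subtype.ext hh)) hn ?_
        rw [← hτapp, hx'']
      · rintro rfl m
        exact map_one (m : MulAut (P : Subgroup G))
    rw [h5]
    simp
  rw [h2] at h1
  exact h1

/-- If `p = 2`, `t ∈ P` is an involution and `u`, `u * y` are conjugates of `t` lying in `P`, then
`y` is a conjugate of `t` or trivial. -/
theorem mem_orbit (h : Hyp P) {n t u y : G} (hn : n ∈ normalizer ((P : Subgroup G) : Set G))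
    (hnC : n ∉ centralizer ((P : Subgroup G) : Set G)) (ht : t ∈ (P : Subgroup G))
    (hu : u ∈ (P : Subgroup G)) (huy : u * y ∈ (P : Subgroup G)) {a b : G}
    (ha : a * t * a⁻¹ = u) (hb : b * t * b⁻¹ = u * y) :
    ∃ i j : ℕ, i < 3 ∧ j < 3 ∧ y = (n ^ i * t * (n ^ i)⁻¹)⁻¹ * (n ^ j * t * (n ^ j)⁻¹) := by
  obtain ⟨m, hm, hm'⟩ := fusion h ht (g := a) (by rw [ha]; exact hu)
  obtain ⟨m', hm2, hm2'⟩ := fusion h ht (g := b) (by rw [hb]; exact huy)
  obtain ⟨i, hi, hi'⟩ := conj_eq_pow h hn hnC hm ht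
  obtain ⟨j, hj, hj'⟩ := conj_eq_pow h hn hnC hm2 ht
  refine ⟨i, j, hi, hj, ?_⟩
  rw [← hi', ← hj', hm', hm2', ha, hb]
  group

end Cfsg.Agent.H659.Frob3Group
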