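import Cfsg.Prelude.Def_Blocks
import Cfsg.Agent.Blocks.PPart
import Cfsg.Agent.Blocks.Homocyclic
import Cfsg.Agent.H659.Frob3Group

/-!
# Products of two conjugates of an involution and an abelian Sylow subgroup
-/

set_option autoImplicit false
set_option linter.unusedSectionVars false

open Cfsg

namespace Cfsg.Agent.H659.Frob3Product

open Subgroup Cfsg.Agent.Blocks Frob3Group

variable {G : Type*} [Group G] [Finite G]

theorem conj_inv_of_product {p : ℕ} [Fact p.Prime] {t z x a b : G} (ht : t * t = 1)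
    (hx : IsPPart p z x) (hab : a * t * a⁻¹ * (b * t * b⁻¹) = z) :
    (a * t * a⁻¹) * x * (a * t * a⁻¹)⁻¹ = x⁻¹ := by
  set u := a * t * a⁻¹ with hu
  set v := b * t * b⁻¹ with hv
  have hu2 : u * u = 1 := by
    rw [hu]
    calc a * t * a⁻¹ * (a * t * a⁻¹) = a * (t * t) * a⁻¹ := by group
      _ = 1 := by rw [ht]; group
  have hv2 : v * v = 1 := by
    rw [hv]
    calc b * t * b⁻¹ * (b * t * b⁻¹) = b * (t * t) * b⁻¹ := by group
      _ = 1 := by rw [ht]; group
  have huinv : u⁻¹ = u := inv_eq_of_mul_eq_one_left hu2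
  have hvinv : v⁻¹ = v := inv_eq_of_mul_eq_one_left hv2
  have hz : u * z * u⁻¹ = z⁻¹ := by
    rw [← hab, huinv, mul_inv_rev, huinv, hvinv]
    calc u * (u * v) * u = (u * u) * v * u := by group
      _ = v * u := by rw [hu2, one_mul]
  have h1 := PPart.isPPart_conj hx u
  rw [hz] at h1
  have h2 : IsPPart p z⁻¹ x⁻¹ := by
    obtain ⟨y, rfl, hc, ⟨k, hk⟩, hy⟩ := hx
    refine ⟨y⁻¹, ?_, hc.inv_inv, ⟨k, by rw [orderOf_inv, hk]⟩, by rwa [orderOf_inv]⟩
    rw [← mul_inv_rev, hc.eq]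
  exact PPart.isPPart_unique h1 h2

variable {p : ℕ} [Fact p.Prime] {P : Sylow p G}

/-- `p` odd: no element with nontrivial `p`-part in `P` is a product of two conjugates of an
involution. -/
theorem no_product_odd (h : Hyp P) (hp2 : p ≠ 2) {t z x : G} (ht : t * t = 1)
    (hxP : x ∈ (P : Subgroup G)) (hx1 : x ≠ 1) (hx : IsPPart p z x) (a b : G) :
    a * t * a⁻¹ * (b * t * b⁻¹) ≠ z := by
  intro hab
  have hp : p.Prime := Fact.out
  have h1 := conj_inv_of_product ht hx hab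
  have h2 := Frob3Group.real h hxP h1
  obtain ⟨y, rfl, hc, ⟨k, hk⟩, hy⟩ := hx
  apply hx1
  rw [← orderOf_eq_one_iff]
  have h3 : orderOf x ∣ 2 := orderOf_dvd_of_pow_eq_one (by rw [pow_two, h2])
  rw [hk] at h3 ⊢
  rcases (Nat.dvd_prime Nat.prime_two).1 h3 with h4 | h4
  · exact h4
  · exfalso
    rcases Nat.eq_zero_or_pos k with rfl | hk0
    · norm_num at h4
    · have h5 : p ∣ 2 := by rw [← h4]; exact dvd_pow_self p hk0.ne'
      exact hp2 ((Nat.prime_dvd_prime_iff_eq hp Nat.prime_two).1 h5)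

/-- `p = 2`: the `2`-part of a product of two conjugates of an involution `t ∈ P`, when it lies in
`P`, is a product of conjugates of `t` under the normalizer. -/
theorem product_two {P : Sylow 2 G} (h : Hyp P) {n t z x : G}
    (hn : n ∈ normalizer ((P : Subgroup G) : Set G))
    (hnC : n ∉ centralizer ((P : Subgroup G) : Set G)) (ht : orderOf t = 2)
    (htP : t ∈ (P : Subgroup G)) (hxP : x ∈ (P : Subgroup G)) (hx : IsPPart 2 z x) (a b : G)
    (hab : a * t * a⁻¹ * (b * t * b⁻¹) = z) :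
    ∃ i j : ℕ, i < 3 ∧ j < 3 ∧ x = (n ^ i * t * (n ^ i)⁻¹)⁻¹ * (n ^ j * t * (n ^ j)⁻¹) := by
  have ht2 : t * t = 1 := by rw [← pow_two, ← ht, pow_orderOf_eq_one]
  have h1 := conj_inv_of_product ht2 hx hab
  have hx2 := Frob3Group.real h hxP h1
  have hxinv : x⁻¹ = x := inv_eq_of_mul_eq_one_left hx2
  set u := a * t * a⁻¹ with hu
  have hu2 : u * u = 1 := by
    rw [hu]
    calc a * t * a⁻¹ * (a * t * a⁻¹) = a * (t * t) * a⁻¹ := by group
      _ = 1 := by rw [ht2]; group
  have huinv : u⁻¹ = u := inv_eq_of_mul_eq_one_left hu2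
  have hux : u * x = x * u := by
    rw [hxinv] at h1
    calc u * x = (u * x * u⁻¹) * u := by group
      _ = x * u := by rw [h1]
  -- the odd part
  obtain ⟨y, hy, hc, ⟨k, hk⟩, hyo⟩ := hx
  have hz : u * z * u⁻¹ = z⁻¹ := by
    rw [← hab, huinv, mul_inv_rev, huinv]
    have hv2 : (b * t * b⁻¹)⁻¹ = b * t * b⁻¹ := by
      apply inv_eq_of_mul_eq_one_left
      calc b * t * b⁻¹ * (b * t * b⁻¹) = b * (t * t) * b⁻¹ := by group
        _ = 1 := by rw [ht2]; group
    rw [hv2]
    calc u * (u * (b * t * b⁻¹)) * u = (u * u) * (b * t * b⁻¹) * u := by group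
      _ = (b * t * b⁻¹) * u := by rw [hu2, one_mul]
  have huy : u * y * u⁻¹ = y⁻¹ := by
    have h2 : u * y * u⁻¹ = (u * x * u⁻¹)⁻¹ * (u * z * u⁻¹) := by
      rw [← hy]; group
    rw [h2, h1, hz, ← hy, mul_inv_rev, inv_inv]
    have h3 : x * (y⁻¹ * x⁻¹) = x * (y⁻¹ * x⁻¹) := rfl
    have h4 : y⁻¹ * x⁻¹ = x⁻¹ * y⁻¹ := by rw [← mul_inv_rev, ← mul_inv_rev, hc.eq]
    rw [h4]
    group
  obtain ⟨m, hm⟩ : ∃ m, orderOf y = 2 * m + 1 := by
    have : Odd (orderOf y) := Nat.not_even_iff_odd.1 (fun he => hyo he.two_dvd)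
    exact this
  set r := y ^ (m + 1) with hr
  have hrr : r * r = y := by
    rw [hr, ← pow_add]
    have : m + 1 + (m + 1) = orderOf y + 1 := by omega
    rw [this, pow_succ, pow_orderOf_eq_one, one_mul]
  have hur : u * r * u⁻¹ = r⁻¹ := by
    rw [hr, ← inv_pow, ← huy, conj_pow]
  have hxr : x * r = r * x := (hc.pow_right (m + 1)).eq
  have hconj : (r * b) * t * (r * b)⁻¹ = u * x := by
    have hv : b * t * b⁻¹ = u⁻¹ * z := by rw [← hab]; group
    have h2 : u * r = r⁻¹ * u := by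
      calc u * r = (u * r * u⁻¹) * u := by group
        _ = r⁻¹ * u := by rw [hur]
    calc (r * b) * t * (r * b)⁻¹ = r * (b * t * b⁻¹) * r⁻¹ := by group
      _ = r * (u⁻¹ * z) * r⁻¹ := by rw [hv]
      _ = r * (u * (x * (r * r))) * r⁻¹ := by rw [huinv, hrr, hy]
      _ = r * (u * (x * r)) := by group
      _ = r * (u * r) * x := by rw [hxr]; group
      _ = u * x := by rw [h2]; group
  -- move `u` into `P` by an element of the centralizer of `x`
  set K := centralizer ({x} : Set G) with hK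
  have hPK : (P : Subgroup G) ≤ K := by
    intro w hw
    rw [hK, mem_centralizer_singleton_iff]
    exact h.comm w hw x hxP
  have huK : u ∈ K := by
    rw [hK, mem_centralizer_singleton_iff]
    exact hux
  have hu1 : orderOf u = 2 := by
    rw [← ht, hu]
    exact (MulAut.conj a).orderOf_eq t
  obtain ⟨s, hs, -, hconj2⟩ := Homocyclic.exists_isConj_mem (P.subtype hPK) (⟨u, huK⟩ : K)
    (by rw [orderOf_mk, hu1])
  obtain ⟨c, hc'⟩ := isConj_iff.1 hconj2
  have hcG : (c : G) * u * (c : G)⁻¹ = s := congrArg Subtype.val hc'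
  have hsP : (s : G) ∈ (P : Subgroup G) := hs
  have hcx : (c : G) * x = x * c := mem_centralizer_singleton_iff.1 c.2
  refine mem_orbit h (u := s) (y := x) (a := c * a) (b := c * (r * b)) hn hnC htP hsP
    (mul_mem hsP hxP) ?_ ?_
  · rw [← hcG, hu]; group
  · calc (c : G) * (r * b) * t * ((c : G) * (r * b))⁻¹ = c * ((r * b) * t * (r * b)⁻¹) * (c : G)⁻¹ := by
          group
      _ = c * (u * x) * (c : G)⁻¹ := by rw [hconj]
      _ = (c * u * (c : G)⁻¹) * (c * x * (c : G)⁻¹) := by group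
      _ = s * x := by rw [hcG, hcx]; group

end Cfsg.Agent.H659.Frob3Product
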