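import Cfsg.Agent.H413.JOneLocal

/-!
# Elements and relations in the explicit group `J₁`

`y` of order 11 and `x` of order 10 with `y x = x y²`; `z` of order 7 and `w6` of order 6 with `z w6 = w6 z³`; an
elementary abelian group `⟨t, f, g⟩` of order 8 (`t = x⁵`) and `s` permuting its involutions; generating triples of
types `(2,3,7)`, `(2,3,11)`, `(2,5,5)`.
-/

set_option autoImplicit false

namespace Cfsg.Agent.H659.J1

open Cfsg.Agent.SporadicB.J1.Mat Cfsg.Agent.SporadicB.J1.Data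
open Cfsg.Agent.SporadicB.J1.Main
open Cfsg.Agent.SporadicB.J1.Main (X Y)
open Cfsg.Spor (jankoX jankoY J1)

def y : J1 := ev [0, 1, 1]
def x : J1 := ev [3, 2, 1, 0, 0, 1, 2, 1, 2, 1, 1, 0]
def t : J1 := x ^ 5
def x5 : J1 := x ^ 2
def z : J1 := ev [0]
def w6 : J1 := ev [1, 1, 2, 1, 2, 2, 1, 0, 1, 2, 3, 3, 2, 3, 2, 3]
def w : J1 := w6 ^ 2
def f : J1 := ev [0, 3, 0, 1, 2, 1, 0, 1, 0, 0]
def g : J1 := ev [0, 3, 2, 3, 0, 0, 3, 0, 0, 3, 0, 3, 3, 2, 1]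
def s : J1 := ev [2, 1, 1, 2, 1, 1, 0, 3, 2]
def h5 : J1 := ev [0, 1, 0, 1, 2, 3, 0]
def A7 : J1 := ev [1, 0, 0, 3, 3, 0, 0, 3, 3, 0, 0, 1, 1]
def B7 : J1 := ev [2, 3, 0]
def C7 : J1 := ev [3, 0, 3, 3, 2, 2, 3, 3]
def A11 : J1 := ev [0, 1, 0, 1, 0, 1, 2, 3, 0, 3, 2]
def B11 : J1 := ev [1, 0, 3, 2, 3]
def C11 : J1 := ev [2, 1, 2, 1, 0, 1, 1, 2, 2, 2]
def A5 : J1 := ev [2, 3, 2, 3, 3, 2, 3, 0, 3, 2, 1]
def B5 : J1 := ev [0, 1, 1, 0, 1, 2, 2]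
def C5 : J1 := ev [3, 2, 3, 2, 2, 3, 0]

theorem ry : Rep y (evC [0, 1, 1]) := rep_ev _
theorem rx : Rep x (evC [3, 2, 1, 0, 0, 1, 2, 1, 2, 1, 1, 0]) := rep_ev _
theorem rt : Rep t (powC (evC [3, 2, 1, 0, 0, 1, 2, 1, 2, 1, 1, 0]) 5 cI) := rx.pow 5
theorem rx5 : Rep x5 (powC (evC [3, 2, 1, 0, 0, 1, 2, 1, 2, 1, 1, 0]) 2 cI) := rx.pow 2
theorem rz : Rep z (evC [0]) := rep_ev _
theorem rw6 : Rep w6 (evC [1, 1, 2, 1, 2, 2, 1, 0, 1, 2, 3, 3, 2, 3, 2, 3]) := rep_ev _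
theorem rw_ : Rep w (powC (evC [1, 1, 2, 1, 2, 2, 1, 0, 1, 2, 3, 3, 2, 3, 2, 3]) 2 cI) := rw6.pow 2
theorem rf : Rep f (evC [0, 3, 0, 1, 2, 1, 0, 1, 0, 0]) := rep_ev _
theorem rg : Rep g (evC [0, 3, 2, 3, 0, 0, 3, 0, 0, 3, 0, 3, 3, 2, 1]) := rep_ev _
theorem rs : Rep s (evC [2, 1, 1, 2, 1, 1, 0, 3, 2]) := rep_ev _
theorem rh5 : Rep h5 (evC [0, 1, 0, 1, 2, 3, 0]) := rep_ev _
theorem rA7 : Rep A7 (evC [1, 0, 0, 3, 3, 0, 0, 3, 3, 0, 0, 1, 1]) := rep_ev _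
theorem rB7 : Rep B7 (evC [2, 3, 0]) := rep_ev _
theorem rC7 : Rep C7 (evC [3, 0, 3, 3, 2, 2, 3, 3]) := rep_ev _
theorem rA11 : Rep A11 (evC [0, 1, 0, 1, 0, 1, 2, 3, 0, 3, 2]) := rep_ev _
theorem rB11 : Rep B11 (evC [1, 0, 3, 2, 3]) := rep_ev _
theorem rC11 : Rep C11 (evC [2, 1, 2, 1, 0, 1, 1, 2, 2, 2]) := rep_ev _
theorem rA5 : Rep A5 (evC [2, 3, 2, 3, 3, 2, 3, 0, 3, 2, 1]) := rep_ev _
theorem rB5 : Rep B5 (evC [0, 1, 1, 0, 1, 2, 2]) := rep_ev _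
theorem rC5 : Rep C5 (evC [3, 2, 3, 2, 2, 3, 0]) := rep_ev _

theorem y_pow : y ^ 11 = 1 := (ry.pow 11).eq Rep.one (by decide +kernel)
theorem y_ne : y ≠ 1 := ry.ne Rep.one (by decide +kernel)
theorem x_pow : x ^ 10 = 1 := (rx.pow 10).eq Rep.one (by decide +kernel)
theorem yx : y * x = x * y ^ 2 := (ry.mul rx).eq (rx.mul (ry.pow 2)) (by decide +kernel)
theorem z_pow : z ^ 7 = 1 := (rz.pow 7).eq Rep.one (by decide +kernel)
theorem z_ne : z ≠ 1 := rz.ne Rep.one (by decide +kernel)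
theorem w6_pow : w6 ^ 6 = 1 := (rw6.pow 6).eq Rep.one (by decide +kernel)
theorem zw6 : z * w6 = w6 * z ^ 3 := (rz.mul rw6).eq (rw6.mul (rz.pow 3)) (by decide +kernel)
theorem f_sq : f * f = 1 := (rf.mul rf).eq Rep.one (by decide +kernel)
theorem g_sq : g * g = 1 := (rg.mul rg).eq Rep.one (by decide +kernel)
theorem tf : t * f = f * t := (rt.mul rf).eq (rf.mul rt) (by decide +kernel)
theorem tg : t * g = g * t := (rt.mul rg).eq (rg.mul rt) (by decide +kernel)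
theorem fg : f * g = g * f := (rf.mul rg).eq (rg.mul rf) (by decide +kernel)
theorem sf : s * f = t * s := (rs.mul rf).eq (rt.mul rs) (by decide +kernel)
theorem sg : s * g = f * s := (rs.mul rg).eq (rf.mul rs) (by decide +kernel)
theorem st : s * (t * f) = g * s := (rs.mul (rt.mul rf)).eq (rg.mul rs) (by decide +kernel)
theorem x5h : x5 * h5 = h5 * x5 ^ 4 := (rx5.mul rh5).eq (rh5.mul (rx5.pow 4)) (by decide +kernel)
theorem bt7 : B7 * t = A7 * B7 := (rB7.mul rt).eq (rA7.mul rB7) (by decide +kernel)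
theorem cz7 : C7 * z = (A7 * w) * C7 := (rC7.mul rz).eq ((rA7.mul rw_).mul rC7) (by decide +kernel)
theorem bt11 : B11 * t = A11 * B11 := (rB11.mul rt).eq (rA11.mul rB11) (by decide +kernel)
theorem cy11 : C11 * y = (A11 * w) * C11 := (rC11.mul ry).eq ((rA11.mul rw_).mul rC11) (by decide +kernel)
theorem bt5 : B5 * t = A5 * B5 := (rB5.mul rt).eq (rA5.mul rB5) (by decide +kernel)
theorem cx5 : C5 * x5 ^ 2 = (A5 * x5) * C5 := (rC5.mul (rx5.pow 2)).eq ((rA5.mul rx5).mul rC5) (by decide +kernel)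

theorem t_sq : t * t = 1 := by
  change x ^ 5 * x ^ 5 = 1
  rw [← pow_add, x_pow]

theorem x5_pow : x5 ^ 5 = 1 := by
  change (x ^ 2) ^ 5 = 1
  rw [← pow_mul, x_pow]

theorem w_pow : w ^ 3 = 1 := by
  change (w6 ^ 2) ^ 3 = 1
  rw [← pow_mul, w6_pow]

theorem t_x5 : t * x5 = x5 * t := by
  change x ^ 5 * x ^ 2 = x ^ 2 * x ^ 5
  rw [← pow_add, ← pow_add]

theorem t_ne : t ≠ 1 := rt.ne Rep.one (by decide +kernel)

theorem yx5 : y * x5 = x5 * y ^ 4 := (ry.mul rx5).eq (rx5.mul (ry.pow 4)) (by decide +kernel)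
theorem yt : y * t = t * y ^ 10 := (ry.mul rt).eq (rt.mul (ry.pow 10)) (by decide +kernel)
theorem ty : t * y = y ^ 10 * t := (rt.mul ry).eq ((ry.pow 10).mul rt) (by decide +kernel)
theorem ty' : t * y ^ 10 = y * t := (rt.mul (ry.pow 10)).eq (ry.mul rt) (by decide +kernel)
theorem s_tg : s * (t * g) = (t * (f * g)) * s := (rs.mul (rt.mul rg)).eq ((rt.mul (rf.mul rg)).mul rs) (by decide +kernel)
theorem s_fg : s * (f * g) = (t * f) * s := (rs.mul (rf.mul rg)).eq ((rt.mul rf).mul rs) (by decide +kernel)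
theorem s_tfg : s * (t * (f * g)) = (f * g) * s := (rs.mul (rt.mul (rf.mul rg))).eq ((rf.mul rg).mul rs) (by decide +kernel)
theorem zw : z * w = w * z ^ 2 := (rz.mul rw_).eq (rw_.mul (rz.pow 2)) (by decide +kernel)

/-! ### generation -/

/-- words in `a`, `b`, `c` -/
def ew (a b c : J1) : List ℕ → J1
  | [] => 1
  | 0 :: l => a * ew a b c l
  | 1 :: l => b * ew a b c l
  | _ :: l => c * ew a b c l

def ewC (a b c : ℕ) : List ℕ → ℕ
  | [] => cI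
  | 0 :: l => mulC a (ewC a b c l)
  | 1 :: l => mulC b (ewC a b c l)
  | _ :: l => mulC c (ewC a b c l)

theorem rep_ew {a b c : J1} {a' b' c' : ℕ} (ha : Rep a a') (hb : Rep b b') (hc : Rep c c') :
    ∀ l, Rep (ew a b c l) (ewC a' b' c' l)
  | [] => Rep.one
  | 0 :: l => ha.mul (rep_ew ha hb hc l)
  | 1 :: l => hb.mul (rep_ew ha hb hc l)
  | (_ + 2) :: l => hc.mul (rep_ew ha hb hc l)

theorem ew_mem {a b c : J1} (M : Submonoid J1) (ha : a ∈ M) (hb : b ∈ M) (hc : c ∈ M) : ∀ l, ew a b c l ∈ M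
  | [] => M.one_mem
  | 0 :: l => M.mul_mem ha (ew_mem M ha hb hc l)
  | 1 :: l => M.mul_mem hb (ew_mem M ha hb hc l)
  | (_ + 2) :: l => M.mul_mem hc (ew_mem M ha hb hc l)

theorem mem_all {M : Submonoid J1} (hX : X ∈ M) (hY : Y ∈ M) (k : J1) : k ∈ M := by
  have h1 : k ∈ Subgroup.closure ({X, Y} : Set J1) := by
    rw [show Subgroup.closure ({X, Y} : Set J1) = ⊤ from data.hgen]
    trivial
  have hinv : ∀ u ∈ M, u⁻¹ ∈ M := by
    intro u hu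
    have h2 : u⁻¹ = u ^ (Nat.card J1 - 1) := by
      have h3 : u ^ (Nat.card J1 - 1) * u = 1 := by
        rw [← pow_succ, Nat.sub_add_cancel Nat.card_pos, pow_card_eq_one']
      exact (eq_inv_of_mul_eq_one_left h3).symm
    rw [h2]
    exact pow_mem hu _
  induction h1 using Subgroup.closure_induction with
  | mem u hu =>
    rcases hu with rfl | rfl
    · exact hX
    · exact hY
  | one => exact M.one_mem
  | mul a b _ _ ha hb => exact M.mul_mem ha hb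
  | inv a _ ha => exact hinv a ha

theorem gen7 {M : Submonoid J1} (ha : A7 ∈ M) (hb : w ∈ M) (k : J1) : k ∈ M := by
  have hw := fun l => ew_mem M ha hb (M.mul_mem hb hb) l
  have rw2 := fun l => rep_ew rA7 rw_ (rw_.mul rw_) l
  refine mem_all ?_ ?_ k
  · have : ew A7 w (w * w) [1, 0, 1, 0, 2, 0, 1, 0, 2, 0, 1, 0, 2, 0, 2, 0, 1, 0, 2, 0, 1, 0, 1, 0, 2, 0, 1, 0] = X :=
      (rw2 _).eq repX (by decide +kernel)
    rw [← this]; exact hw _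
  · have : ew A7 w (w * w) [0, 2, 0, 1, 0, 1, 0, 2, 0, 1, 0, 2, 0, 1, 0, 1, 0, 2, 0, 2, 0, 1, 0, 2, 0, 2, 0, 1, 0, 1] = Y :=
      (rw2 _).eq repY (by decide +kernel)
    rw [← this]; exact hw _

theorem gen11 {M : Submonoid J1} (ha : A11 ∈ M) (hb : w ∈ M) (k : J1) : k ∈ M := by
  have hw := fun l => ew_mem M ha hb (M.mul_mem hb hb) l
  have rw2 := fun l => rep_ew rA11 rw_ (rw_.mul rw_) l
  refine mem_all ?_ ?_ k
  · have : ew A11 w (w * w) [0, 2, 0, 1, 0, 2, 0, 1, 0, 1, 0, 2, 0, 2, 0, 2] = X :=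
      (rw2 _).eq repX (by decide +kernel)
    rw [← this]; exact hw _
  · have : ew A11 w (w * w) [2, 0, 1, 0, 2, 0, 2, 0, 1, 0, 2, 0, 2, 0, 2, 0, 1, 0, 1, 0, 1, 0] = Y :=
      (rw2 _).eq repY (by decide +kernel)
    rw [← this]; exact hw _

theorem gen5 {M : Submonoid J1} (ha : A5 ∈ M) (hb : x5 ∈ M) (k : J1) : k ∈ M := by
  have hw := fun l => ew_mem M ha hb (pow_mem hb 4) l
  have rw2 := fun l => rep_ew rA5 rx5 (rx5.pow 4) l
  refine mem_all ?_ ?_ k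
  · have : ew A5 x5 (x5 ^ 4) [1, 1, 0, 2, 2, 0, 1, 0] = X :=
      (rw2 _).eq repX (by decide +kernel)
    rw [← this]; exact hw _
  · have : ew A5 x5 (x5 ^ 4) [0, 1, 0, 2, 2, 0, 1, 1, 0, 2, 2, 0, 2, 2, 0, 1, 1, 0, 2, 0] = Y :=
      (rw2 _).eq repY (by decide +kernel)
    rw [← this]; exact hw _

end Cfsg.Agent.H659.J1
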