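import Cfsg.Agent.H6.M11.Lin

/-!
# Linear algebra for the representations of `J₁`

`scott` : `dim C(a) + dim C(b) + dim C(a b) ≤ dim V` for `a, b` with no common fixed vector and
`(a - 1) V + (b - 1) V = V`; eigenspaces of an element permuting eigenspaces of another one.
-/

set_option autoImplicit false

namespace Cfsg.Agent.H659.JL

open Module LinearMap Cfsg.Agent.H6.M11

variable {K : Type*} [Field K] {V : Type*} [AddCommGroup V] [Module K V]

/-- eigenspace -/
abbrev E (X : End K V) (c : K) : Submodule K V := End.eigenspace X c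

theorem mem_E {X : End K V} {c : K} {v : V} : v ∈ E X c ↔ X v = c • v := End.mem_eigenspace_iff

theorem mem_E1 {X : End K V} {v : V} : v ∈ E X 1 ↔ X v = v := by rw [mem_E, one_smul]

variable [FiniteDimensional K V]

/-- injective linear maps between subspaces -/
theorem finrank_le_of_inj {S T : Submodule K V} (φ : End K V) (h : ∀ v ∈ S, φ v ∈ T) (h0 : ∀ v ∈ S, φ v = 0 → v = 0) :
    finrank K S ≤ finrank K T := by
  refine LinearMap.finrank_le_finrank_of_injective (f := (φ ∘ₗ S.subtype).codRestrict T fun v => h v v.2) ?_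
  rw [injective_iff_map_eq_zero]
  intro v hv
  have h1 : φ (v : V) = 0 := congrArg Subtype.val hv
  exact Subtype.ext (h0 v v.2 h1)

/-- **Scott's lemma** for two generators -/
theorem scott (a b : End K V) (h0 : ∀ v, a v = v → b v = v → v = 0)
    (ht : LinearMap.range (a - 1) ⊔ LinearMap.range (b - 1) = ⊤) :
    finrank K (E a 1) + finrank K (E b 1) + finrank K (E (a * b) 1) ≤ finrank K V := by
  have k1 : ∀ X : End K V, finrank K (E X 1) + finrank K (LinearMap.range (X - 1)) = finrank K V := by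
    intro X
    have h1 : E X 1 = LinearMap.ker (X - 1) := by
      ext v
      rw [mem_E1, LinearMap.mem_ker, LinearMap.sub_apply, Module.End.one_apply, sub_eq_zero]
    rw [h1, add_comm]
    exact LinearMap.finrank_range_add_finrank_ker _
  have k2 := Submodule.finrank_sup_add_finrank_inf_eq (LinearMap.range (a - 1)) (LinearMap.range (b - 1))
  rw [ht, finrank_top] at k2
  have k3 : finrank K (E (a * b) 1) ≤
      finrank K (LinearMap.range (a - 1) ⊓ LinearMap.range (b - 1) : Submodule K V) := by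
    refine finrank_le_of_inj (b - 1) ?_ ?_
    · intro v hv
      rw [mem_E1, Module.End.mul_apply] at hv
      refine ⟨⟨-(b v), ?_⟩, ⟨v, rfl⟩⟩
      rw [LinearMap.sub_apply, LinearMap.sub_apply, map_neg, hv, Module.End.one_apply, Module.End.one_apply]
      abel
    · intro v hv h
      rw [mem_E1, Module.End.mul_apply] at hv
      rw [LinearMap.sub_apply, Module.End.one_apply, sub_eq_zero] at h
      rw [h] at hv
      exact h0 v hv h
  have ka := k1 a
  have kb := k1 b
  omega

omit [FiniteDimensional K V] in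
/-- intertwined eigenspaces: `Y X = X Y^r` -/
theorem map_E {X Y : End K V} {r : ℕ} (h : Y * X = X * Y ^ r) {c : K} {v : V} (hv : v ∈ E Y c) :
    X v ∈ E Y (c ^ r) := by
  rw [mem_E] at hv ⊢
  have h1 : ∀ k : ℕ, (Y ^ k) v = c ^ k • v := by
    intro k
    induction k with
    | zero => rw [pow_zero, pow_zero, one_smul, Module.End.one_apply]
    | succ k ih => rw [pow_succ, Module.End.mul_apply, hv, map_smul, ih, smul_smul, pow_succ, mul_comm]
  rw [← Module.End.mul_apply, h, Module.End.mul_apply, h1, map_smul]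

theorem finrank_E_le {X Y X' : End K V} {r : ℕ} (h : Y * X = X * Y ^ r) (hX : X' * X = 1) (c : K) :
    finrank K (E Y c) ≤ finrank K (E Y (c ^ r)) := by
  refine finrank_le_of_inj X (fun v hv => map_E h hv) fun v _ h0 => ?_
  have h1 := congrArg X' h0
  rwa [← Module.End.mul_apply, hX, Module.End.one_apply, map_zero] at h1

/-- the spectral projection on an eigenvector -/
theorem sp_apply {ζ : K} {m : ℕ} (hm : IsPrimitiveRoot ζ m) (hm0 : 0 < m) {Y : End K V} (hY : Y ^ m = 1) {b c : ℕ}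
    (hb : b < m) (hc : c < m) {v : V} (hv : v ∈ E Y (ζ ^ c)) : sp m ζ Y b v = if b = c then v else 0 := by
  have hζ0 : ζ ≠ 0 := hm.ne_zero hm0.ne'
  have hne : NeZero m := ⟨hm0.ne'⟩
  have hmk : (m : K) ≠ 0 := hm.neZero'.out
  have h1 : sp m ζ Y c v = v := (isProj_sp hmk hζ0 hm.pow_eq_one hY c).map_id v hv
  split_ifs with h
  · rw [h]; exact h1
  · rw [← h1, ← Module.End.mul_apply, sp_mul_sp hm hm0 hY hb hc h, LinearMap.zero_apply]

/-- **eigenspaces of an element that permutes eigenspaces.** -/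
theorem finrank_E_ge {ζ μ : K} {m s r : ℕ} (hm : IsPrimitiveRoot ζ m) (hm0 : 0 < m) {X Y : End K V} (hY : Y ^ m = 1)
    (hX : X ^ s = 1) (hs : 0 < s) (hμ : μ ^ s = 1) (h : Y * X = X * Y ^ r) {a₁ a₂ : ℕ} (ha₁ : a₁ < m) (ha₂ : a₂ < m)
    (h12 : ∀ k < s, a₁ * r ^ k % m ≠ a₂) (h21 : ∀ k < s, a₂ * r ^ k % m ≠ a₁) (h11 : ∀ k < s, 0 < k → a₁ * r ^ k % m ≠ a₁)
    (h22 : ∀ k < s, 0 < k → a₂ * r ^ k % m ≠ a₂) :
    finrank K (E Y (ζ ^ a₁)) + finrank K (E Y (ζ ^ a₂)) ≤ finrank K (E X μ) := by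
  have hμ0 : μ ≠ 0 := by
    rintro rfl
    rw [zero_pow hs.ne'] at hμ
    exact zero_ne_one hμ
  -- powers of X on eigenvectors of Y
  have hXk : ∀ (k a : ℕ) (v : V), v ∈ E Y (ζ ^ a) → (X ^ k) v ∈ E Y (ζ ^ (a * r ^ k % m)) := by
    intro k a v hv
    have h1 : (X ^ k) v ∈ E Y (ζ ^ (a * r ^ k)) := by
      induction k with
      | zero => rw [pow_zero, pow_zero, mul_one]; exact hv
      | succ k ih =>
        rw [show (X ^ (k + 1)) v = X ((X ^ k) v) by rw [pow_succ', Module.End.mul_apply],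
          show a * r ^ (k + 1) = a * r ^ k * r by ring, pow_mul]
        exact map_E h ih
    have h2 : ζ ^ (a * r ^ k) = ζ ^ (a * r ^ k % m) := by
      conv_lhs => rw [← Nat.div_add_mod (a * r ^ k) m, pow_add, pow_mul, hm.pow_eq_one, one_pow, one_mul]
    rwa [h2] at h1
  let N : End K V := ∑ k ∈ Finset.range s, (μ⁻¹ ^ k) • X ^ k
  have hN : ∀ v, X (N v) = μ • N v := by
    intro v
    have h1 : (μ⁻¹ • X - 1) * N = 0 := by
      have h2 : N = ∑ k ∈ Finset.range s, (μ⁻¹ • X) ^ k :=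
        Finset.sum_congr rfl fun k _ => (smul_pow _ _ _).symm
      rw [h2, mul_geom_sum, smul_pow, hX, inv_pow, hμ, inv_one, one_smul, sub_self]
    have h2 := LinearMap.congr_fun h1 v
    rw [Module.End.mul_apply, LinearMap.sub_apply, LinearMap.smul_apply, Module.End.one_apply, LinearMap.zero_apply,
      sub_eq_zero, inv_smul_eq_iff₀ hμ0] at h2
    exact h2
  have hNa : ∀ (v : V), N v = ∑ k ∈ Finset.range s, (μ⁻¹ ^ k) • (X ^ k) v := by
    intro v
    simp only [N, LinearMap.sum_apply, LinearMap.smul_apply]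
  -- projections of N v
  have hp1 : ∀ (a b : ℕ) (v : V), b < m → v ∈ E Y (ζ ^ a) → (∀ k < s, a * r ^ k % m ≠ b) → sp m ζ Y b (N v) = 0 := by
    intro a b v hb hv hk
    rw [hNa, map_sum]
    refine Finset.sum_eq_zero fun k hk' => ?_
    rw [map_smul, sp_apply hm hm0 hY hb (Nat.mod_lt _ hm0) (hXk k a v hv),
      if_neg (hk k (Finset.mem_range.1 hk')).symm, smul_zero]
  have hp2 : ∀ (a : ℕ) (v : V), a < m → v ∈ E Y (ζ ^ a) → (∀ k < s, 0 < k → a * r ^ k % m ≠ a) →
      sp m ζ Y a (N v) = v := by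
    intro a v ha hv hk
    rw [hNa, map_sum, Finset.sum_eq_single 0]
    · rw [pow_zero, one_smul, pow_zero, Module.End.one_apply, sp_apply hm hm0 hY ha ha hv, if_pos rfl]
    · intro k hk' hk0
      rw [map_smul, sp_apply hm hm0 hY ha (Nat.mod_lt _ hm0) (hXk k a v hv),
        if_neg (hk k (Finset.mem_range.1 hk') (Nat.pos_of_ne_zero hk0)).symm, smul_zero]
    · intro h0
      exact absurd (Finset.mem_range.2 hs) h0
  have hne : a₁ ≠ a₂ := by
    intro h0
    have := h12 0 hs
    rw [pow_zero, mul_one, Nat.mod_eq_of_lt ha₁] at this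
    exact this h0
  -- the sum is direct
  have hdir : E Y (ζ ^ a₁) ⊓ E Y (ζ ^ a₂) = ⊥ := by
    rw [eq_bot_iff]
    rintro v ⟨h1, h2⟩
    have e1 := sp_apply hm hm0 hY ha₁ ha₁ h1
    have e2 := sp_apply hm hm0 hY ha₁ ha₂ h2
    rw [if_pos rfl] at e1
    rw [if_neg hne] at e2
    rw [Submodule.mem_bot, ← e1, e2]
  have hsum := Submodule.finrank_sup_add_finrank_inf_eq (E Y (ζ ^ a₁)) (E Y (ζ ^ a₂))
  rw [hdir, finrank_bot, add_zero] at hsum
  rw [← hsum]
  refine finrank_le_of_inj N (fun v _ => mem_E.2 (hN v)) ?_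
  intro v hv h0
  obtain ⟨v₁, hv₁, v₂, hv₂, rfl⟩ := Submodule.mem_sup.1 hv
  rw [map_add] at h0
  have e1 := congrArg (sp m ζ Y a₁) h0
  have e2 := congrArg (sp m ζ Y a₂) h0
  rw [map_add, map_zero, hp2 a₁ v₁ ha₁ hv₁ h11, hp1 a₂ a₁ v₂ ha₁ hv₂ h21, add_zero] at e1
  rw [map_add, map_zero, hp2 a₂ v₂ ha₂ hv₂ h22, hp1 a₁ a₂ v₁ ha₂ hv₁ h12, zero_add] at e2
  rw [e1, e2, add_zero]

/-- an involution in odd characteristic -/
theorem split (h2 : (2 : K) ≠ 0) {X : End K V} (hX : X * X = 1) (S : Submodule K V) (hS : ∀ v ∈ S, X v ∈ S) :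
    finrank K S = finrank K (S ⊓ E X 1 : Submodule K V) + finrank K (S ⊓ E X (-1) : Submodule K V) := by
  have h1 : IsPrimitiveRoot (-1 : K) 2 := by
    refine IsPrimitiveRoot.mk_of_lt _ (by norm_num) (by norm_num) ?_
    intro l hl hl2
    have : l = 1 := by omega
    subst this
    rw [pow_one]
    intro h
    apply h2
    have h3 : (2 : K) = 1 - -1 := by norm_num
    rw [h3, h, sub_self]
  have h3 := finrank_eq_sum h1 (by norm_num) (by rw [pow_two]; exact hX) S hS
  rw [Fin.sum_univ_two] at h3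
  have e0 : ((-1 : K) ^ ((0 : Fin 2) : ℕ)) = 1 := by simp
  have e1 : ((-1 : K) ^ ((1 : Fin 2) : ℕ)) = -1 := by simp
  rw [e0, e1] at h3
  exact h3

/-- an involution in characteristic 2 -/
theorem half (h2 : (2 : K) = 0) {X : End K V} (hX : X * X = 1) (S : Submodule K V) (hS : ∀ v ∈ S, X v ∈ S) :
    finrank K S ≤ 2 * finrank K (S ⊓ E X 1 : Submodule K V) := by
  let φ : S →ₗ[K] S := ((X - 1) ∘ₗ S.subtype).codRestrict S fun v => S.sub_mem (hS v v.2) v.2
  have h1 := LinearMap.finrank_range_add_finrank_ker φ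
  have h3 : ∀ v : V, X (X v) = v := fun v => LinearMap.congr_fun hX v
  have hk : finrank K (LinearMap.ker φ) ≤ finrank K (S ⊓ E X 1 : Submodule K V) := by
    have : (LinearMap.ker φ).map S.subtype ≤ S ⊓ E X 1 := by
      rintro _ ⟨v, hv, rfl⟩
      refine ⟨v.2, mem_E1.2 ?_⟩
      have h4 : X (v : V) - v = 0 := congrArg Subtype.val hv
      exact sub_eq_zero.1 h4
    exact (LinearEquiv.finrank_eq
      (Submodule.equivMapOfInjective S.subtype S.subtype_injective (LinearMap.ker φ))).trans_le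
      (Submodule.finrank_mono this)
  have hr : finrank K (LinearMap.range φ) ≤ finrank K (S ⊓ E X 1 : Submodule K V) := by
    have : (LinearMap.range φ).map S.subtype ≤ S ⊓ E X 1 := by
      rintro _ ⟨_, ⟨v, rfl⟩, rfl⟩
      refine ⟨(φ v).2, mem_E1.2 ?_⟩
      change X (X (v : V) - v) = X (v : V) - v
      rw [map_sub, h3]
      have h4 : (2 : K) • (X (v : V) - v) = 0 := by rw [h2, zero_smul]
      rw [← sub_eq_zero]
      have h5 : (v : V) - X v - (X v - v) = -((2 : K) • (X (v : V) - v)) := by module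
      rw [h5, h4, neg_zero]
    exact (LinearEquiv.finrank_eq
      (Submodule.equivMapOfInjective S.subtype S.subtype_injective (LinearMap.range φ))).trans_le
      (Submodule.finrank_mono this)
  omega

end Cfsg.Agent.H659.JL
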