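import Cfsg.Agent.H659.J1Lin
import Cfsg.Agent.H659.J1Elts

/-!
# Representations of `J₁` of degree ≤ 12

`no_rep` : an irreducible representation of `J₁` of degree 2, …, 12 lives in characteristic 11.
-/

set_option autoImplicit false

namespace Cfsg.Agent.H659.J1

open Module LinearMap Cfsg.Agent.H6.M11 Cfsg.Agent.H659.JL
open Cfsg.Spor (J1)

variable {K : Type*} [Field K] {V : Type*} [AddCommGroup V] [Module K V] (ρ : J1 →* End K V)

theorem rel_of {a b c d : J1} (h : a * b = c * d) : ρ a * ρ b = ρ c * ρ d := by rw [← map_mul, h, map_mul]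

theorem inv_mul' (a : J1) : ρ a⁻¹ * ρ a = 1 := by rw [← map_mul, inv_mul_cancel, map_one]

theorem mul_app (a b : J1) (v : V) : ρ a (ρ b v) = ρ (a * b) v := by rw [map_mul, Module.End.mul_apply]

theorem inj (a : J1) {v : V} (h : ρ a v = 0) : v = 0 := by
  have h1 := congrArg (ρ a⁻¹) h
  rwa [mul_app, inv_mul_cancel, map_one, Module.End.one_apply, map_zero] at h1

/-- `k` is in the stabiliser of all that -/
def stab (L : Submodule K V) : Submonoid J1 where
  carrier := {k | ∀ v ∈ L, ρ k v ∈ L}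
  one_mem' := fun v hv => by rw [map_one, Module.End.one_apply]; exact hv
  mul_mem' := fun {a b} ha hb v hv => by rw [← mul_app]; exact ha _ (hb _ hv)

def fixer (v : V) : Submonoid J1 where
  carrier := {k | ρ k v = v}
  one_mem' := by rw [Set.mem_ofPred_eq, map_one, Module.End.one_apply]
  mul_mem' := fun {a b} ha hb => by
    rw [Set.mem_ofPred_eq] at ha hb ⊢
    rw [← mul_app, hb, ha]

def triv : Submonoid J1 where
  carrier := {k | ρ k = 1}
  one_mem' := map_one ρ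
  mul_mem' := fun {a b} ha hb => by
    rw [Set.mem_ofPred_eq] at ha hb ⊢
    rw [map_mul, ha, hb, one_mul]

variable [FiniteDimensional K V]

theorem conj_E_le {a b u : J1} (h : u * a = b * u) (c : K) : finrank K (E (ρ a) c) ≤ finrank K (E (ρ b) c) := by
  refine finrank_le_of_inj (ρ u) ?_ fun v _ h0 => inj ρ u h0
  intro v hv
  rw [mem_E] at hv ⊢
  rw [mul_app, ← h, ← mul_app, hv, map_smul]

theorem conj_E {a b u : J1} (h : u * a = b * u) (c : K) : finrank K (E (ρ a) c) = finrank K (E (ρ b) c) := by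
  refine le_antisymm (conj_E_le ρ h c) (conj_E_le ρ (u := u⁻¹) ?_ c)
  calc u⁻¹ * b = u⁻¹ * (b * u) * u⁻¹ := by group
    _ = u⁻¹ * (u * a) * u⁻¹ := by rw [h]
    _ = a * u⁻¹ := by group

variable (hirr : ∀ L : Submodule K V, (∀ k, ∀ v ∈ L, ρ k v ∈ L) → L = ⊥ ∨ L = ⊤) (hn : 2 ≤ finrank K V)

include hirr hn

omit [FiniteDimensional K V] in
theorem fix_zero {v : V} (h : ∀ k, ρ k v = v) : v = 0 := by
  by_contra hv
  have h1 : finrank K (Submodule.span K {v}) = 1 := finrank_span_singleton hv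
  rcases hirr (Submodule.span K {v}) (by
    intro k u hu
    obtain ⟨c, rfl⟩ := Submodule.mem_span_singleton.1 hu
    rw [map_smul, h]
    exact hu) with h2 | h2
  · rw [h2, finrank_bot] at h1
    omega
  · rw [h2, finrank_top] at h1
    omega

theorem not_triv (h : ∀ k, ρ k = 1) : False := by
  have : Nontrivial V := Module.nontrivial_of_finrank_pos (R := K) (by omega)
  obtain ⟨v, hv⟩ := exists_ne (0 : V)
  exact hv (fix_zero ρ hirr hn fun k => by rw [h, Module.End.one_apply])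

theorem ne_one {k : J1} (hk : k ≠ 1) : ρ k ≠ 1 := by
  intro h
  have hs : IsSimpleGroup J1 := Cfsg.Agent.SporadicB.J1.Main.isJ1.1
  have h1 : ρ.toHomUnits.ker = ⊥ ∨ ρ.toHomUnits.ker = ⊤ := hs.eq_bot_or_eq_top_of_normal _ inferInstance
  have h2 : k ∈ ρ.toHomUnits.ker := by
    rw [MonoidHom.mem_ker]
    exact Units.ext h
  rcases h1 with h1 | h1
  · rw [h1, Subgroup.mem_bot] at h2
    exact hk h2
  · apply not_triv ρ hirr hn
    intro u
    have h3 : u ∈ ρ.toHomUnits.ker := by rw [h1]; trivial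
    exact congrArg Units.val (MonoidHom.mem_ker.1 h3)

theorem scott_J {a b : J1} (gen : ∀ M : Submonoid J1, a ∈ M → b ∈ M → ∀ k, k ∈ M) :
    finrank K (E (ρ a) 1) + finrank K (E (ρ b) 1) + finrank K (E (ρ (a * b)) 1) ≤ finrank K V := by
  rw [map_mul]
  refine scott (ρ a) (ρ b) ?_ ?_
  · intro v ha hb
    exact fix_zero ρ hirr hn fun k => gen (fixer ρ v) ha hb k
  · have hmem : ∀ (c : J1) (L : Submodule K V), LinearMap.range (ρ c - 1) ≤ L → c ∈ stab ρ L := by
      intro c L hL v hv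
      have h1 : ρ c v = (ρ c - 1) v + v := by
        rw [LinearMap.sub_apply, Module.End.one_apply, sub_add_cancel]
      rw [h1]
      exact L.add_mem (hL ⟨v, rfl⟩) hv
    rcases hirr (LinearMap.range (ρ a - 1) ⊔ LinearMap.range (ρ b - 1))
      (fun k => gen (stab ρ _) (hmem a _ le_sup_left) (hmem b _ le_sup_right) k) with h1 | h1
    · exfalso
      apply not_triv ρ hirr hn
      have h2 : ∀ c : J1, LinearMap.range (ρ c - 1) ≤ (⊥ : Submodule K V) → c ∈ triv ρ := by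
        intro c hc
        rw [le_bot_iff, LinearMap.range_eq_bot, sub_eq_zero] at hc
        exact hc
      exact fun k => gen (triv ρ) (h2 a (h1 ▸ le_sup_left)) (h2 b (h1 ▸ le_sup_right)) k
    · exact h1

omit hirr hn

/-! ### the elements of order 11 and 7 -/

omit [FiniteDimensional K V] in
theorem y11 : ρ y ^ 11 = 1 := by rw [← map_pow, y_pow, map_one]
omit [FiniteDimensional K V] in
theorem z7 : ρ z ^ 7 = 1 := by rw [← map_pow, z_pow, map_one]

theorem dims_y {ζ : K} (hζ : IsPrimitiveRoot ζ 11) (b : ℕ) (hb : b < 11) (h0 : 0 < b) :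
    finrank K (E (ρ y) (ζ ^ b)) = finrank K (E (ρ y) (ζ ^ 1)) := by
  have key : ∀ c : K, finrank K (E (ρ y) c) ≤ finrank K (E (ρ y) (c ^ 2)) := fun c =>
    finrank_E_le (r := 2) (X' := ρ x⁻¹) (by rw [← map_pow]; exact rel_of ρ yx) (inv_mul' ρ x) c
  have e : ∀ a c : ℕ, a * 2 % 11 = c → finrank K (E (ρ y) (ζ ^ a)) ≤ finrank K (E (ρ y) (ζ ^ c)) := by
    intro a c h
    have h1 := key (ζ ^ a)
    rw [← pow_mul] at h1
    have h2 : ζ ^ (a * 2) = ζ ^ c := by
      rw [← h]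
      conv_lhs => rw [← Nat.div_add_mod (a * 2) 11, pow_add, pow_mul, hζ.pow_eq_one, one_pow, one_mul]
    rwa [h2] at h1
  have e1 := e 1 2 rfl
  have e2 := e 2 4 rfl
  have e4 := e 4 8 rfl
  have e8 := e 8 5 rfl
  have e5 := e 5 10 rfl
  have e10 := e 10 9 rfl
  have e9 := e 9 7 rfl
  have e7 := e 7 3 rfl
  have e3 := e 3 6 rfl
  have e6 := e 6 1 rfl
  interval_cases b <;> omega

theorem dims_z {ζ : K} (hζ : IsPrimitiveRoot ζ 7) (b : ℕ) (hb : b < 7) (h0 : 0 < b) :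
    finrank K (E (ρ z) (ζ ^ b)) = finrank K (E (ρ z) (ζ ^ 1)) := by
  have key : ∀ c : K, finrank K (E (ρ z) c) ≤ finrank K (E (ρ z) (c ^ 3)) := fun c =>
    finrank_E_le (r := 3) (X' := ρ w6⁻¹) (by rw [← map_pow]; exact rel_of ρ zw6) (inv_mul' ρ w6) c
  have e : ∀ a c : ℕ, a * 3 % 7 = c → finrank K (E (ρ z) (ζ ^ a)) ≤ finrank K (E (ρ z) (ζ ^ c)) := by
    intro a c h
    have h1 := key (ζ ^ a)
    rw [← pow_mul] at h1
    have h2 : ζ ^ (a * 3) = ζ ^ c := by
      rw [← h]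
      conv_lhs => rw [← Nat.div_add_mod (a * 3) 7, pow_add, pow_mul, hζ.pow_eq_one, one_pow, one_mul]
    rwa [h2] at h1
  have e1 := e 1 3 rfl
  have e3 := e 3 2 rfl
  have e2 := e 2 6 rfl
  have e6 := e 6 4 rfl
  have e4 := e 4 5 rfl
  have e5 := e 5 1 rfl
  interval_cases b <;> omega

theorem sum_y {ζ : K} (hζ : IsPrimitiveRoot ζ 11) :
    finrank K V = finrank K (E (ρ y) 1) + 10 * finrank K (E (ρ y) (ζ ^ 1)) := by
  rw [finrank_top_eq_sum hζ (by norm_num) (y11 ρ), Fin.sum_univ_succ]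
  have h : ∀ i : Fin 10, finrank K (End.eigenspace (ρ y) (ζ ^ ((i.succ : Fin 11) : ℕ))) =
      finrank K (E (ρ y) (ζ ^ 1)) := by
    intro i
    exact dims_y ρ hζ _ (Fin.isLt _) (by rw [Fin.val_succ]; omega)
  rw [Finset.sum_congr rfl fun i _ => h i, Finset.sum_const, Finset.card_univ, Fintype.card_fin, smul_eq_mul,
    Fin.val_zero, pow_zero]

theorem sum_z {ζ : K} (hζ : IsPrimitiveRoot ζ 7) :
    finrank K V = finrank K (E (ρ z) 1) + 6 * finrank K (E (ρ z) (ζ ^ 1)) := by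
  rw [finrank_top_eq_sum hζ (by norm_num) (z7 ρ), Fin.sum_univ_succ]
  have h : ∀ i : Fin 6, finrank K (End.eigenspace (ρ z) (ζ ^ ((i.succ : Fin 7) : ℕ))) =
      finrank K (E (ρ z) (ζ ^ 1)) := by
    intro i
    exact dims_z ρ hζ _ (Fin.isLt _) (by rw [Fin.val_succ]; omega)
  rw [Finset.sum_congr rfl fun i _ => h i, Finset.sum_const, Finset.card_univ, Fintype.card_fin, smul_eq_mul,
    Fin.val_zero, pow_zero]

theorem eq_one_of_full {X : End K V} (h : finrank K (E X 1) = finrank K V) : X = 1 := by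
  have h1 : E X 1 = ⊤ := Submodule.eq_top_of_finrank_eq h
  ext v
  have h2 : v ∈ E X 1 := by rw [h1]; trivial
  rw [mem_E1] at h2
  rw [h2, Module.End.one_apply]

include hirr hn

theorem pos_y {ζ : K} (hζ : IsPrimitiveRoot ζ 11) : 0 < finrank K (E (ρ y) (ζ ^ 1)) := by
  rcases Nat.eq_zero_or_pos (finrank K (E (ρ y) (ζ ^ 1))) with h | h
  · have h1 := sum_y ρ hζ
    exact absurd (eq_one_of_full (X := ρ y) (by omega)) (ne_one ρ hirr hn y_ne)
  · exact h

theorem pos_z {ζ : K} (hζ : IsPrimitiveRoot ζ 7) : 0 < finrank K (E (ρ z) (ζ ^ 1)) := by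
  rcases Nat.eq_zero_or_pos (finrank K (E (ρ z) (ζ ^ 1))) with h | h
  · have h1 := sum_z ρ hζ
    exact absurd (eq_one_of_full (X := ρ z) (by omega)) (ne_one ρ hirr hn z_ne)
  · exact h

/-! ### characteristic 2 -/

theorem no_two (h2 : (2 : K) = 0) {ζ η l : K} (hζ : IsPrimitiveRoot ζ 11) (hη : IsPrimitiveRoot η 7)
    (hl : IsPrimitiveRoot l 5) (h12 : finrank K V ≤ 12) : False := by
  have py := pos_y ρ hirr hn hζ
  have pz := pos_z ρ hirr hn hη
  have sy := sum_y ρ hζ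
  have sz := sum_z ρ hη
  -- the involution
  have ht : ρ t * ρ t = 1 := by rw [← map_mul, t_sq, map_one]
  have Ft : finrank K V ≤ 2 * finrank K (E (ρ t) 1) := by
    have h1 := half h2 ht ⊤ (fun v _ => trivial)
    rwa [finrank_top, top_inf_eq] at h1
  -- the element of order 3
  have Fw : 2 * finrank K (E (ρ z) (η ^ 1)) ≤ finrank K (E (ρ w) 1) := by
    have h1 := finrank_E_ge hη (by norm_num) (z7 ρ) (X := ρ w) (s := 3) (r := 2) (μ := 1)
      (by rw [← map_pow, w_pow, map_one]) (by norm_num) (one_pow _) (by rw [← map_pow]; exact rel_of ρ zw)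
      (a₁ := 1) (a₂ := 3) (by norm_num) (by norm_num) (by decide) (by decide) (by decide) (by decide)
    rw [dims_z ρ hη 3 (by norm_num) (by norm_num)] at h1
    omega
  -- (2,3,7)
  have S7 := scott_J ρ hirr hn (a := A7) (b := w) (fun M ha hb k => gen7 ha hb k)
  rw [← conj_E ρ bt7 1, ← conj_E ρ cz7 1] at S7
  have S11 := scott_J ρ hirr hn (a := A11) (b := w) (fun M ha hb k => gen11 ha hb k)
  rw [← conj_E ρ bt11 1, ← conj_E ρ cy11 1] at S11
  have S5 := scott_J ρ hirr hn (a := A5) (b := x5) (fun M ha hb k => gen5 ha hb k)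
  rw [← conj_E ρ bt5 1, ← conj_E ρ cx5 1] at S5
  have hn12 : finrank K V = 12 := by omega
  have ht6 : finrank K (E (ρ t) 1) = 6 := by omega
  -- the element of order 5
  have hx5 : ρ x5 ^ 5 = 1 := by rw [← map_pow, x5_pow, map_one]
  have ge2 : ∀ j : ℕ, 2 ≤ finrank K (E (ρ x5) (l ^ j)) := by
    intro j
    have h1 := finrank_E_ge hζ (by norm_num) (y11 ρ) (X := ρ x5) (s := 5) (r := 4) (μ := l ^ j)
      hx5 (by norm_num) (by rw [← pow_mul, mul_comm, pow_mul, hl.pow_eq_one, one_pow])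
      (by rw [← map_pow]; exact rel_of ρ yx5)
      (a₁ := 1) (a₂ := 2) (by norm_num) (by norm_num) (by decide) (by decide) (by decide) (by decide)
    rw [dims_y ρ hζ 2 (by norm_num) (by norm_num)] at h1
    omega
  have sx : finrank K V = finrank K (E (ρ x5) (l ^ 0)) + finrank K (E (ρ x5) (l ^ 1)) +
      finrank K (E (ρ x5) (l ^ 2)) + finrank K (E (ρ x5) (l ^ 3)) + finrank K (E (ρ x5) (l ^ 4)) := by
    rw [finrank_top_eq_sum hl (by norm_num) hx5, Fin.sum_univ_five]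
    rfl
  have st : finrank K (E (ρ t) 1) = finrank K (E (ρ t) 1 ⊓ E (ρ x5) (l ^ 0) : Submodule K V) +
      finrank K (E (ρ t) 1 ⊓ E (ρ x5) (l ^ 1) : Submodule K V) +
      finrank K (E (ρ t) 1 ⊓ E (ρ x5) (l ^ 2) : Submodule K V) +
      finrank K (E (ρ t) 1 ⊓ E (ρ x5) (l ^ 3) : Submodule K V) +
      finrank K (E (ρ t) 1 ⊓ E (ρ x5) (l ^ 4) : Submodule K V) := by
    rw [finrank_eq_sum hl (by norm_num) hx5 (E (ρ t) 1), Fin.sum_univ_five]
    · rfl
    · intro v hv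
      rw [mem_E1] at hv ⊢
      rw [mul_app, t_x5, ← mul_app, hv]
  have hh : ∀ j : ℕ, finrank K (E (ρ x5) (l ^ j)) ≤
      2 * finrank K (E (ρ t) 1 ⊓ E (ρ x5) (l ^ j) : Submodule K V) := by
    intro j
    have h1 := half h2 ht (E (ρ x5) (l ^ j)) (by
      intro v hv
      rw [mem_E] at hv ⊢
      rw [mul_app, ← t_x5, ← mul_app, hv, map_smul])
    rwa [inf_comm] at h1
  have hreal : ∀ i j : ℕ, i * 4 % 5 = j → finrank K (E (ρ x5) (l ^ i)) ≤ finrank K (E (ρ x5) (l ^ j)) := by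
    intro i j hij
    have h1 := finrank_E_le (Y := ρ x5) (X := ρ h5) (r := 4) (X' := ρ h5⁻¹)
      (by rw [← map_pow]; exact rel_of ρ x5h) (inv_mul' ρ h5) (l ^ i)
    rw [← pow_mul] at h1
    have h2 : l ^ (i * 4) = l ^ j := by
      rw [← hij]
      conv_lhs => rw [← Nat.div_add_mod (i * 4) 5, pow_add, pow_mul, hl.pow_eq_one, one_pow, one_mul]
    rwa [h2] at h1
  have r1 := hreal 1 4 rfl
  have r2 := hreal 2 3 rfl
  have r3 := hreal 3 2 rfl
  have r4 := hreal 4 1 rfl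
  have g0 := ge2 0
  have g1 := ge2 1
  have g2 := ge2 2
  have g3 := ge2 3
  have g4 := ge2 4
  have h0 := hh 0
  have h1' := hh 1
  have h2' := hh 2
  have h3' := hh 3
  have h4' := hh 4
  have hx4 : finrank K (E (ρ x5) (l ^ 0)) = 4 := by omega
  rw [pow_zero] at hx4
  have hx44 : finrank K (E (ρ x5) 1) ≤ finrank K (E (ρ (x5 ^ 2)) 1) := by
    refine Submodule.finrank_mono fun v hv => ?_
    rw [mem_E1] at hv ⊢
    rw [pow_two, ← mul_app, hv, hv]
  omega

/-! ### odd characteristic -/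

omit hirr hn

/-- on `[V, y]` the element `y - y⁻¹` swaps the eigenspaces of `t` -/
theorem low_odd (h2 : (2 : K) ≠ 0) (h11 : ((11 : ℕ) : K) ≠ 0) :
    finrank K V ≤ finrank K (E (ρ y) 1) + 2 * finrank K (E (ρ t) (-1)) := by
  have ht : ρ t * ρ t = 1 := by rw [← map_mul, t_sq, map_one]
  have hk := LinearMap.finrank_range_add_finrank_ker (ρ y - 1)
  have hk2 : LinearMap.ker (ρ y - 1) = E (ρ y) 1 := by
    ext v
    rw [mem_E1, LinearMap.mem_ker, LinearMap.sub_apply, Module.End.one_apply, sub_eq_zero]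
  rw [hk2] at hk
  have e11 : ∀ v, ρ (y ^ 10) (ρ y v) = v := by
    intro v
    rw [mul_app, ← pow_succ, y_pow, map_one, Module.End.one_apply]
  have e11' : ∀ v, ρ y (ρ (y ^ 10) v) = v := by
    intro v
    rw [mul_app, ← pow_succ', y_pow, map_one, Module.End.one_apply]
  have et : ∀ v, ρ t (ρ y v) = ρ (y ^ 10) (ρ t v) := by
    intro v
    rw [mul_app, mul_app, ty]
  have et' : ∀ v, ρ t (ρ (y ^ 10) v) = ρ y (ρ t v) := by
    intro v
    rw [mul_app, mul_app, ty']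
  set U := LinearMap.range (ρ y - 1) with hU
  have hUm : ∀ v, ρ y v - v ∈ U := fun v => ⟨v, by rw [LinearMap.sub_apply, Module.End.one_apply]⟩
  have hUe : ∀ u ∈ U, ∃ v, u = ρ y v - v := by
    rintro _ ⟨v, rfl⟩
    exact ⟨v, by rw [LinearMap.sub_apply, Module.End.one_apply]⟩
  have hUt : ∀ u ∈ U, ρ t u ∈ U := by
    intro u hu
    obtain ⟨v, rfl⟩ := hUe u hu
    have h1 := hUm (-ρ (y ^ 10) (ρ t v))
    rw [map_neg, e11'] at h1
    rw [map_sub, et]
    have h3 : ρ (y ^ 10) (ρ t v) - ρ t v = -ρ t v - -ρ (y ^ 10) (ρ t v) := by abel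
    rw [h3]
    exact h1
  have hUy : ∀ u ∈ U, ρ y u - ρ (y ^ 10) u ∈ U := by
    intro u hu
    obtain ⟨v, rfl⟩ := hUe u hu
    rw [map_sub, map_sub, e11]
    have h1 := hUm (ρ y v + ρ (y ^ 10) v)
    rw [map_add, e11'] at h1
    have h3 : ρ y (ρ y v) - ρ y v - (v - ρ (y ^ 10) v) = ρ y (ρ y v) + v - (ρ y v + ρ (y ^ 10) v) - (v - ρ (y ^ 10) v) -
      (v - ρ (y ^ 10) v) := by abel
    have h4 : v - ρ (y ^ 10) v ∈ U := by
      have h5 := hUm (ρ (y ^ 10) v)
      rwa [e11'] at h5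
    rw [h3]
    exact U.sub_mem (U.sub_mem h1 h4) h4
  have hU0 : ∀ u ∈ U, ρ y u = u → u = 0 := by
    intro u hu h
    obtain ⟨v, rfl⟩ := hUe u hu
    have h1 := av_apply_of_fix h11 h
    have h3 := av_apply_mem (y11 ρ) v
    have h4 : (av 11 (ρ y)) (ρ y v) = ρ y (av 11 (ρ y) v) :=
      (LinearMap.congr_fun (comm_av (m := 11) (Commute.refl (ρ y))) v).symm
    rw [map_sub, h4, h3, sub_self] at h1
    exact h1.symm
  have hle : finrank K (U ⊓ E (ρ t) 1 : Submodule K V) ≤ finrank K (U ⊓ E (ρ t) (-1) : Submodule K V) := by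
    refine finrank_le_of_inj (ρ y - ρ (y ^ 10)) ?_ ?_
    · rintro u ⟨hu, hut⟩
      rw [SetLike.mem_coe, mem_E1] at hut
      refine ⟨hUy u hu, ?_⟩
      rw [SetLike.mem_coe, mem_E, LinearMap.sub_apply, map_sub, et, et', hut]
      module
    · rintro u ⟨hu, -⟩ h
      rw [LinearMap.sub_apply, sub_eq_zero] at h
      have h1 : ρ y (ρ y u) = u := by
        rw [h, e11']
      refine hU0 u hu ?_
      have h3 : ρ y (ρ y (ρ y (ρ y (ρ y (ρ y (ρ y (ρ y (ρ y (ρ y (ρ y u)))))))))) = u := by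
        rw [← Module.End.mul_apply, ← Module.End.mul_apply, ← Module.End.mul_apply, ← Module.End.mul_apply,
          ← Module.End.mul_apply, ← Module.End.mul_apply, ← Module.End.mul_apply, ← Module.End.mul_apply,
          ← Module.End.mul_apply, ← Module.End.mul_apply]
        exact LinearMap.congr_fun (y11 ρ) u
      simp only [h1] at h3
      exact h3
  have hs := split h2 ht U hUt
  have hm : finrank K (U ⊓ E (ρ t) (-1) : Submodule K V) ≤ finrank K (E (ρ t) (-1)) :=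
    Submodule.finrank_mono inf_le_right
  omega

omit [FiniteDimensional K V] in
theorem E_mul {A B : End K V} (hA : A * A = 1) {a c : K} (ha : a * a = 1) :
    E A a ⊓ E (A * B) c = E A a ⊓ E B (a * c) := by
  have hAA : ∀ v, A (A v) = v := fun v => LinearMap.congr_fun hA v
  ext v
  rw [Submodule.mem_inf, Submodule.mem_inf, mem_E, mem_E, mem_E, Module.End.mul_apply]
  constructor
  · rintro ⟨h1, h3⟩
    refine ⟨h1, ?_⟩
    have h4 := congrArg A h3
    rw [hAA, map_smul, h1, smul_smul, mul_comm] at h4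
    exact h4
  · rintro ⟨h1, h3⟩
    refine ⟨h1, ?_⟩
    rw [h3, map_smul, h1, smul_smul]
    congr 1
    linear_combination c * ha

set_option maxHeartbeats 2000000 in
/-- the seven involutions of an elementary abelian group of order 8 -/
theorem high_odd (h2 : (2 : K) ≠ 0) (h12 : finrank K V ≤ 12) : finrank K (E (ρ t) (-1)) ≤ 4 := by
  have ht : ρ t * ρ t = 1 := by rw [← map_mul, t_sq, map_one]
  have hf : ρ f * ρ f = 1 := by rw [← map_mul, f_sq, map_one]
  have hg : ρ g * ρ g = 1 := by rw [← map_mul, g_sq, map_one]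
  have c1 : ∀ {a b : J1}, a * b = b * a → ∀ (c : K) (v : V), v ∈ E (ρ a) c → ρ b v ∈ E (ρ a) c := by
    intro a b h c v hv
    rw [mem_E] at hv ⊢
    rw [mul_app, h, ← mul_app, hv, map_smul]
  have cinf : ∀ {b : J1} {S T : Submodule K V}, (∀ v ∈ S, ρ b v ∈ S) → (∀ v ∈ T, ρ b v ∈ T) →
      ∀ v ∈ S ⊓ T, ρ b v ∈ S ⊓ T := fun hS hT v hv => ⟨hS v hv.1, hT v hv.2⟩
  set D := finrank K (E (ρ t) (-1)) with hD
  have d1 : finrank K (E (ρ f) (-1)) = D := conj_E ρ sf _
  have d2 : finrank K (E (ρ g) (-1)) = D := (conj_E ρ sg _).trans d1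
  have d3 : finrank K (E (ρ (t * f)) (-1)) = D := (conj_E ρ st _).trans d2
  have d4 : finrank K (E (ρ (f * g)) (-1)) = D := (conj_E ρ s_fg _).trans d3
  have d5 : finrank K (E (ρ (t * (f * g))) (-1)) = D := (conj_E ρ s_tfg _).trans d4
  have d6 : finrank K (E (ρ (t * g)) (-1)) = D := (conj_E ρ s_tg _).trans d5
  let r : K → K → K → ℕ := fun a b c => finrank K ((E (ρ t) a ⊓ E (ρ f) b) ⊓ E (ρ g) c : Submodule K V)
  -- splitting
  have q : ∀ a b : K, finrank K (E (ρ t) a ⊓ E (ρ f) b : Submodule K V) = r a b 1 + r a b (-1) := fun a b =>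
    split h2 hg _ (cinf (c1 tg a) (c1 fg b))
  have s0 : finrank K V = finrank K (E (ρ t) 1) + finrank K (E (ρ t) (-1)) := by
    have h1 := split h2 ht ⊤ (fun v _ => trivial)
    rwa [finrank_top, top_inf_eq, top_inf_eq] at h1
  have s1 : ∀ a : K, finrank K (E (ρ t) a) = finrank K (E (ρ t) a ⊓ E (ρ f) 1 : Submodule K V) +
      finrank K (E (ρ t) a ⊓ E (ρ f) (-1) : Submodule K V) := fun a => split h2 hf _ (c1 tf a)
  have s2 : finrank K (E (ρ f) (-1)) = finrank K (E (ρ t) 1 ⊓ E (ρ f) (-1) : Submodule K V) +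
      finrank K (E (ρ t) (-1) ⊓ E (ρ f) (-1) : Submodule K V) := by
    have h1 := split h2 ht (E (ρ f) (-1)) (c1 tf.symm (-1))
    rwa [inf_comm, inf_comm (E (ρ f) (-1)) (E (ρ t) (-1))] at h1
  have mm : (-1 : K) * -1 = 1 := by norm_num
  have om : (1 : K) * -1 = -1 := by norm_num
  have oo : (1 : K) * 1 = 1 := by norm_num
  have s3 : finrank K (E (ρ (t * f)) (-1)) = finrank K (E (ρ t) 1 ⊓ E (ρ f) (-1) : Submodule K V) +
      finrank K (E (ρ t) (-1) ⊓ E (ρ f) 1 : Submodule K V) := by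
    have h1 := split h2 ht (E (ρ (t * f)) (-1)) (c1 (show (t * f) * t = t * (t * f) by
      rw [mul_assoc, ← tf]) (-1))
    rw [inf_comm, inf_comm (E (ρ (t * f)) (-1)) (E (ρ t) (-1)), map_mul, E_mul ht oo, E_mul ht mm, om, mm] at h1
    rw [map_mul]
    exact h1
  -- `g`: split by `t` and `f`
  have q2 : ∀ (S : Submodule K V), (∀ v ∈ S, ρ f v ∈ S) → ∀ a : K, finrank K (E (ρ t) a ⊓ S : Submodule K V) =
      finrank K ((E (ρ t) a ⊓ E (ρ f) 1) ⊓ S : Submodule K V) +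
      finrank K ((E (ρ t) a ⊓ E (ρ f) (-1)) ⊓ S : Submodule K V) := by
    intro S hS a
    have h1 := split h2 hf (E (ρ t) a ⊓ S) (cinf (c1 tf a) hS)
    rw [inf_right_comm, inf_right_comm (E (ρ t) a) S] at h1
    exact h1
  have q3 : ∀ (S : Submodule K V), (∀ v ∈ S, ρ t v ∈ S) → (∀ v ∈ S, ρ f v ∈ S) → finrank K S =
      (finrank K ((E (ρ t) 1 ⊓ E (ρ f) 1) ⊓ S : Submodule K V) +
      finrank K ((E (ρ t) 1 ⊓ E (ρ f) (-1)) ⊓ S : Submodule K V)) +
      (finrank K ((E (ρ t) (-1) ⊓ E (ρ f) 1) ⊓ S : Submodule K V) +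
      finrank K ((E (ρ t) (-1) ⊓ E (ρ f) (-1)) ⊓ S : Submodule K V)) := by
    intro S hSt hSf
    have h1 := split h2 ht S hSt
    rw [inf_comm, inf_comm S (E (ρ t) (-1)), q2 S hSf 1, q2 S hSf (-1)] at h1
    exact h1
  have g1 : finrank K (E (ρ g) (-1)) = (r 1 1 (-1) + r 1 (-1) (-1)) + (r (-1) 1 (-1) + r (-1) (-1) (-1)) :=
    q3 _ (c1 tg.symm (-1)) (c1 fg.symm (-1))
  -- `t g`
  have tgm : ∀ a : K, a * a = 1 → ∀ b : K, (E (ρ t) a ⊓ E (ρ f) b) ⊓ E (ρ (t * g)) (-1) =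
      (E (ρ t) a ⊓ E (ρ f) b) ⊓ E (ρ g) (a * -1) := by
    intro a ha b
    rw [inf_right_comm, map_mul, E_mul ht ha, inf_right_comm]
  have fgm : ∀ a : K, ∀ b c : K, b * b = 1 → (E (ρ t) a ⊓ E (ρ f) b) ⊓ E (ρ (f * g)) c =
      (E (ρ t) a ⊓ E (ρ f) b) ⊓ E (ρ g) (b * c) := by
    intro a b c hb
    rw [inf_assoc, map_mul, E_mul hf hb, ← inf_assoc]
  have tfgm : ∀ a : K, a * a = 1 → ∀ b : K, b * b = 1 → (E (ρ t) a ⊓ E (ρ f) b) ⊓ E (ρ (t * (f * g))) (-1) =
      (E (ρ t) a ⊓ E (ρ f) b) ⊓ E (ρ g) (b * (a * -1)) := by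
    intro a ha b hb
    rw [inf_right_comm, map_mul, E_mul ht ha, inf_right_comm, fgm a b _ hb]
  have mo : (-1 : K) * 1 = -1 := by norm_num
  have g2 : finrank K (E (ρ (t * g)) (-1)) = (r 1 1 (-1) + r 1 (-1) (-1)) + (r (-1) 1 1 + r (-1) (-1) 1) := by
    rw [q3 _ (c1 (show (t * g) * t = t * (t * g) by rw [mul_assoc, ← tg]) (-1))
      (c1 (show (t * g) * f = f * (t * g) by rw [mul_assoc, ← fg, ← mul_assoc, tf, mul_assoc]) (-1)),
      tgm 1 oo, tgm 1 oo, tgm _ mm, tgm _ mm, om, mm]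
  have g3 : finrank K (E (ρ (f * g)) (-1)) = (r 1 1 (-1) + r 1 (-1) 1) + (r (-1) 1 (-1) + r (-1) (-1) 1) := by
    rw [q3 _ (c1 (show (f * g) * t = t * (f * g) by rw [mul_assoc, ← tg, ← mul_assoc, ← tf, mul_assoc]) (-1))
      (c1 (show (f * g) * f = f * (f * g) by rw [mul_assoc, ← fg]) (-1)),
      fgm _ _ _ oo, fgm _ _ _ mm, fgm _ _ _ oo, fgm _ _ _ mm, om, mm]
  have g4 : finrank K (E (ρ (t * (f * g))) (-1)) = (r 1 1 (-1) + r 1 (-1) 1) + (r (-1) 1 1 + r (-1) (-1) (-1)) := by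
    rw [q3 _ (c1 (show (t * (f * g)) * t = t * (t * (f * g)) by
        rw [mul_assoc t, mul_assoc f, ← tg, ← mul_assoc f, ← tf, mul_assoc]) (-1))
      (c1 (show (t * (f * g)) * f = f * (t * (f * g)) by
        rw [mul_assoc t, mul_assoc f, ← fg, ← mul_assoc f t, ← tf, mul_assoc]) (-1)),
      tfgm _ oo _ oo, tfgm _ oo _ mm, tfgm _ mm _ oo, tfgm _ mm _ mm, om, om, mm, oo, mo]
  have a1 := q 1 1
  have a2 := q 1 (-1)
  have a3 := q (-1) 1
  have a4 := q (-1) (-1)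
  have b1 := s1 1
  have b2 := s1 (-1)
  omega

include hirr hn

theorem no_odd (h2 : (2 : K) ≠ 0) (h11 : ((11 : ℕ) : K) ≠ 0) {ζ : K} (hζ : IsPrimitiveRoot ζ 11)
    (h12 : finrank K V ≤ 12) : False := by
  have py := pos_y ρ hirr hn hζ
  have sy := sum_y ρ hζ
  have hl := low_odd ρ h2 h11
  have hh := high_odd ρ h2 h12
  omega

end Cfsg.Agent.H659.J1
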