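import Cfsg.Agent.H659.Sp4Main

/-!
# Irreducible representations of `Sp₄(3)` of degree ≤ 12 in characteristic ≠ 2, 3: the degrees
-/

set_option autoImplicit false
set_option linter.unusedSectionVars false

namespace Cfsg.Agent.H659.Sp4

open Module Cfsg.Agent.H659.Triple

variable {K : Type*} [Field K] {V : Type*} [AddCommGroup V] [Module K V] {O : Ops K V} {ω : K} (R : Rels O)
  (hω : Om ω) (h2 : (2 : K) ≠ 0) (h3 : (3 : K) ≠ 0) [FiniteDimensional K V] {m0 a b c : ℕ}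

theorem Fz1_z2 (R : Rels O) : ∀ v ∈ Fi O.z1, O.z2 v ∈ Fi O.z1 := by
  intro w w1
  rw [mem_Fi] at w1 ⊢
  rw [R.z1z2, w1]

theorem Fz1_j (R : Rels O) : ∀ v ∈ Fi O.z1, O.j v ∈ Fi O.z1 := by
  intro w w1
  rw [mem_Fi] at w1 ⊢
  rw [R.z1j, w1]

theorem Fz1_t2 (R : Rels O) : ∀ v ∈ Fi O.z1, O.t2 v ∈ Fi O.z1 := by
  intro w w1
  rw [mem_Fi] at w1 ⊢
  rw [R.z1t2, w1]

/-- `t2 = -1` on the fixed space of `z1` if no vector of weight ≠ 0 is fixed by `t2` -/
theorem t2_neg_X (R : Rels O) (hω : Om ω) (h3 : (3 : K) ≠ 0) (T : Ty O ω m0 a b c 0) (hI : Irr O)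
    (hn : 2 ≤ finrank K V)
    (h : ∀ l : Fin 3, l ≠ 0 → ∀ v ∈ O.W ω 0 l 0, O.t2 v = v → v = 0) : ∀ v ∈ Fi O.z1, O.t2 v = -v := by
  intro v hv
  have hv1 : O.z1 v = v := hv
  have key : v + O.t2 v = 0 := by
    refine Y_zero R hω h3 T hI hn (Fi O.z1 ⊓ Fi O.t2) (fun w hw => hw.1) ?_ ?_ ?_ (Submodule.mem_inf.2 ⟨?_, ?_⟩)
    · rintro w ⟨(w1 : O.z1 w = w), (w2 : O.t2 w = w)⟩
      exact Submodule.mem_inf.2 ⟨by rw [mem_Fi, R.z1z2, w1], by rw [mem_Fi, ← R.z2t2, w2]⟩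
    · rintro w ⟨(w1 : O.z1 w = w), (w2 : O.t2 w = w)⟩
      exact Submodule.mem_inf.2 ⟨by rw [mem_Fi, R.z1j, w1], by rw [mem_Fi, R.t2j, w2]⟩
    · rintro l hl w ⟨(w1 : O.z1 w = w), (w2 : O.t2 w = w)⟩ hw
      exact h l hl w (mem_W_X R hω h3 T w1 hw) w2
    · rw [mem_Fi, map_add, R.z1t2, hv1]
    · rw [mem_Fi, map_add, R.t2t2, add_comm]
  exact (neg_eq_of_add_eq_zero_right key).symm

/-- `t2 = 1` on the fixed space of `z1` if no vector of weight ≠ 0 is negated by `t2` -/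
theorem t2_fix_X (R : Rels O) (hω : Om ω) (h3 : (3 : K) ≠ 0) (T : Ty O ω m0 a b c 0) (hI : Irr O)
    (hn : 2 ≤ finrank K V)
    (h : ∀ l : Fin 3, l ≠ 0 → ∀ v ∈ O.W ω 0 l 0, O.t2 v = -v → v = 0) : ∀ v ∈ Fi O.z1, O.t2 v = v := by
  intro v hv
  have hv1 : O.z1 v = v := hv
  have key : v - O.t2 v = 0 := by
    refine Y_zero R hω h3 T hI hn (Fi O.z1 ⊓ Ei O.t2 (-1)) (fun w hw => hw.1) ?_ ?_ ?_
      (Submodule.mem_inf.2 ⟨?_, ?_⟩)
    · rintro w ⟨(w1 : O.z1 w = w), (w2 : O.t2 w = (-1 : K) • w)⟩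
      exact Submodule.mem_inf.2 ⟨by rw [mem_Fi, R.z1z2, w1], by rw [mem_Ei, ← R.z2t2, w2, map_smul]⟩
    · rintro w ⟨(w1 : O.z1 w = w), (w2 : O.t2 w = (-1 : K) • w)⟩
      exact Submodule.mem_inf.2 ⟨by rw [mem_Fi, R.z1j, w1], by rw [mem_Ei, R.t2j, w2, map_smul]⟩
    · rintro l hl w ⟨(w1 : O.z1 w = w), (w2 : O.t2 w = (-1 : K) • w)⟩ hw
      exact h l hl w (mem_W_X R hω h3 T w1 hw) (by rw [w2, neg_one_smul])
    · rw [mem_Fi, map_sub, R.z1t2, hv1]
    · rw [mem_Ei, map_sub, R.t2t2, neg_one_smul, neg_sub]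
  exact (sub_eq_zero.1 key).symm

/-- the missing weights in the eigenspace for `ω` -/
theorem absent_w (R : Rels O) (hω : Om ω) (h3 : (3 : K) ≠ 0) (T : Ty O ω m0 a b c 0) {l : Fin 3}
    (h : ∀ k, ![m0, a, b, c, 0] (cls 1 l k) = 0) :
    ∀ v, O.z1 v = ω • v → O.t2 v = v → O.z2 v = ω ^ l.val • v → v = 0 := by
  intro v hv _ hl
  exact absent R hω h3 T (i := 1) h (by rw [om_one]; exact hv) hl

theorem cls_c : ∀ k, cls 1 2 k = 3 ∨ cls 1 2 k = 4 := by decide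
theorem cls_a : ∀ k, cls 1 0 k = 1 ∨ cls 1 0 k = 4 := by decide

theorem absent_c (hc : c = 0) : ∀ k, ![m0, a, b, c, 0] (cls 1 2 k) = 0 := by
  intro k
  rcases cls_c k with h | h
  · rw [h]; exact hc
  · rw [h]; rfl

theorem absent_a (ha : a = 0) : ∀ k, ![m0, a, b, c, 0] (cls 1 0 k) = 0 := by
  intro k
  rcases cls_a k with h | h
  · rw [h]; exact ha
  · rw [h]; rfl

/-! ### `-1` acts trivially -/

section plus

variable (hp : ∀ v, O.t1 (O.t2 v) = v)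

theorem t1_eq (R : Rels O) (hp : ∀ v, O.t1 (O.t2 v) = v) (v : V) : O.t1 v = O.t2 v := by
  have := hp (O.t2 v)
  rwa [R.t2t2] at this

/-- `t2 = -1` on `W 0 1 0` -/
theorem t2_neg_W (R : Rels O) (hω : Om ω) (h2 : (2 : K) ≠ 0) (hp : ∀ v, O.t1 (O.t2 v) = v) {l : Fin 3}
    (hl : ∀ v, O.z1 v = ω • v → O.t2 v = v → O.z2 v = ω ^ l.val • v → v = 0) {v : V} (hv : v ∈ O.W ω 0 1 0) :
    O.t2 v = -v := by
  have h1 := W_s R hv
  rw [mem_W, om_one, om_zero] at h1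
  have h1x : O.x (O.s v) = O.s v := h1.2.2
  have h4 := t2_neg R hω h2 hl h1.1 h1x
  rw [R.t2s, t1_eq R hp] at h4
  have h5 := congrArg O.s h4
  rw [R.ss, map_neg, R.ss] at h5
  exact h5

theorem W_sq_010 (hω : Om ω) : O.W (ω ^ 2) 0 1 0 = O.W ω 0 2 0 := W_sq hω 0 1 0

theorem casePlusZero (R : Rels O) (hω : Om ω) (h2 : (2 : K) ≠ 0) (h3 : (3 : K) ≠ 0) (T : Ty O ω m0 a b 0 0)
    (hI : Irr O) (hn : 2 ≤ finrank K V) (hn' : finrank K V ≤ 12) (hp : ∀ v, O.t1 (O.t2 v) = v) :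
    finrank K V = 5 ∨ finrank K V = 10 := by
  have hl := absent_w R hω h3 T (l := 2) (absent_c rfl)
  have T' := T.sq hω
  have hl' := absent_w R hω.sq h3 T' (l := 2) (absent_c rfl)
  have tX := t2_neg_X R hω h3 T hI hn (by
    intro l hl0 v hv ht
    have ht' : O.t2 v = -v := by
      fin_cases l
      · exact absurd rfl hl0
      · exact t2_neg_W R hω h2 hp hl hv
      · exact t2_neg_W R hω.sq h2 hp hl' (by rw [W_sq_010 hω]; exact hv)
    exact eq_zero_of_neg h2 (ht.symm.trans ht'))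
  have hX := finrank_X R hω h3 T
  have ev := even_of R h2 (Fi O.z1) (Fz1_j R) (Fz1_z2 R) tX
  have d0 : finrank K (O.W ω 0 0 0) = m0 := T.dim 0 0 0
  have d1 : finrank K (O.W ω 0 1 0) = a := T.dim 0 1 0
  have d2 : finrank K (O.W ω 0 2 0) = b := T.dim 0 2 0
  have q0 := two_mul_le R hω h2 (Fi O.z1) (O.W ω 0 0 0) (Fz1_j R) tX (W_le_X 0 0) (l := 0) (fun v hv => (mem_W.1 hv).2.1)
  have q1 := two_mul_le R hω h2 (Fi O.z1) (O.W ω 0 1 0) (Fz1_j R) tX (W_le_X 1 0) (l := 1) (fun v hv => (mem_W.1 hv).2.1)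
  have q2 := two_mul_le R hω h2 (Fi O.z1) (O.W ω 0 2 0) (Fz1_j R) tX (W_le_X 2 0) (l := 2) (fun v hv => (mem_W.1 hv).2.1)
  have ht := T.tot
  obtain ⟨r, hr⟩ := ev
  rw [hX] at hr q0 q1 q2
  rw [d0] at q0
  rw [d1] at q1
  rw [d2] at q2
  by_contra hcon
  have hab : m0 = 0 ∧ a = 1 ∧ b = 1 := by
    have ha3 : a ≤ 3 := by omega
    have hb3 : b ≤ 3 := by omega
    clear d0 d1 d2 tX hl hl' T'
    interval_cases a <;> interval_cases b <;> omega
  obtain ⟨hm0, ha, hb⟩ := hab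
  have hX2 : finrank K (Fi O.z1) = 2 := by omega
  -- the projections of `n u`
  have key : ∀ (ω' : K) (hω' : Om ω') (T' : Ty O ω' 0 1 1 0 0), ∀ u ∈ Fi O.z1, pr ω' O.z1 1 (O.n u) = 0 := by
    intro ω' hω' T'
    have fz : ∀ v, pr ω' O.z1 1 (O.n (O.z2 v)) = O.z2 (pr ω' O.z1 1 (O.n v)) := by
      intro v
      unfold pr
      rw [R.nz2]
      simp only [map_add, map_smul, R.z1z2]
    have fj : ∀ v, pr ω' O.z1 1 (O.n (O.j v)) = O.j (pr ω' O.z1 1 (O.n v)) := by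
      intro v
      unfold pr
      rw [R.nj]
      simp only [map_add, map_smul, R.z1j]
    have fadd : ∀ v w, pr ω' O.z1 1 (O.n (v + w)) = pr ω' O.z1 1 (O.n v) + pr ω' O.z1 1 (O.n w) := by
      intro v w
      unfold pr
      simp only [map_add, smul_add]
      abel
    have fsmul : ∀ (r : K) v, pr ω' O.z1 1 (O.n (r • v)) = r • pr ω' O.z1 1 (O.n v) := by
      intro r v
      unfold pr
      simp only [map_smul, smul_add]
      rw [smul_comm r, smul_comm r]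
    let Y : Submodule K V :=
      { carrier := {u | O.z1 u = u ∧ pr ω' O.z1 1 (O.n u) = 0}
        add_mem' := by
          rintro u w ⟨u1, u2⟩ ⟨w1, w2⟩
          exact ⟨by rw [map_add, u1, w1], by rw [fadd, u2, w2, add_zero]⟩
        zero_mem' := ⟨map_zero _, by unfold pr; simp⟩
        smul_mem' := by
          rintro r u ⟨u1, u2⟩
          exact ⟨by rw [map_smul, u1], by rw [fsmul, u2, smul_zero]⟩ }
    have hYX : Y ≤ Fi O.z1 := fun u hu => hu.1
    have hYj : ∀ v ∈ Y, O.j v ∈ Y := by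
      rintro v ⟨v1, v2⟩
      exact ⟨by rw [R.z1j, v1], by rw [fj, v2, map_zero]⟩
    have hWY : O.W ω' 0 2 0 ≤ Y := by
      intro v hv
      refine ⟨W_le_X 2 0 hv, ?_⟩
      refine absent R hω' h3 T' (i := 1) (l := 2) (absent_c rfl) (pr_eig hω' R.z1z1z1 1 _) ?_
      rw [← fz, (mem_W.1 hv).2.1, fsmul]
    have hd : finrank K (O.W ω' 0 2 0) = 1 := T'.dim 0 2 0
    have q := two_mul_le R hω' h2 Y (O.W ω' 0 2 0) hYj (fun v hv => tX v (hYX hv)) hWY (l := 2)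
      (fun v hv => (mem_W.1 hv).2.1)
    rw [hd] at q
    have hYeq : Y = Fi O.z1 := Submodule.eq_of_le_of_finrank_le hYX (by omega)
    intro u hu
    rw [← hYeq] at hu
    exact hu.2
  have T1 : Ty O ω 0 1 1 0 0 := by subst ha; subst hb; subst hm0; exact T
  have k1 := key ω hω T1
  have k2 := key (ω ^ 2) hω.sq (T1.sq hω)
  have nX : ∀ u ∈ Fi O.z1, O.z1 (O.n u) = O.n u := by
    intro u hu
    have e := pr_sum hω O.z1 (O.n u)
    have e2 : pr ω O.z1 2 (O.n u) = pr (ω ^ 2) O.z1 1 (O.n u) := by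
      unfold pr
      change _ + ω ^ 4 • _ + ω ^ 2 • _ = _ + (ω ^ 2) ^ 2 • _ + (ω ^ 2) ^ 1 • _
      rw [← pow_mul, pow_one]
    rw [k1 u hu, e2, k2 u hu, add_zero, add_zero] at e
    have e3 := pr_eig hω R.z1z1z1 0 (O.n u)
    rw [om_zero, e, map_smul] at e3
    have e4 : (3 : K) • (O.z1 (O.n u) - O.n u) = 0 := by rw [smul_sub, e3, sub_self]
    exact sub_eq_zero.1 ((smul_eq_zero.1 e4).resolve_left h3)
  obtain ⟨u, hu, hu0⟩ : ∃ u ∈ Fi O.z1, u ≠ 0 := by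
    apply Submodule.exists_mem_ne_zero_of_ne_bot
    intro hb
    rw [hb, finrank_bot] at hX2
    exact absurd hX2 (by norm_num)
  have hu1 : O.z1 u = u := hu
  have e := R.nz3 u
  have f1 : O.z1 (O.n u) = O.n u := nX u hu
  have f2 : O.z1 (O.n (O.n u)) = O.n (O.n u) := nX _ f1
  rw [hu1, f1, f2, R.nn (O.n u), t1_eq R hp, t1_eq R hp, tX u hu, tX (O.n u) f1] at e
  have e5 : O.n u = u := neg_injective e
  have e6 := R.nn u
  rw [e5, e5, t1_eq R hp, tX u hu] at e6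
  exact hu0 (eq_zero_of_neg h2 e6)

/-- all weights in the class of `(1, 1, 0)` -/
theorem m0_zero_of (R : Rels O) (hω : Om ω) (h3 : (3 : K) ≠ 0) (T : Ty O ω m0 0 0 c 0) (hI : Irr O)
    (hn : 2 ≤ finrank K V) : m0 = 0 := by
  have hX := finrank_X R hω h3 T
  have hb : Fi O.z1 = ⊥ := by
    rw [eq_bot_iff]
    intro v hv
    rw [Submodule.mem_bot]
    refine Y_zero R hω h3 T hI hn (Fi O.z1) (fun w hw => hw) (Fz1_z2 R) (Fz1_j R) ?_ hv
    intro l hl w hw hlw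
    refine T.eq_zero ?_ (mem_W_X R hω h3 T hw hlw)
    fin_cases l
    · exact absurd rfl hl
    · rfl
    · rfl
  rw [hb, finrank_bot] at hX
  omega

theorem Om.sq_sq' (hω : Om ω) : Om ((ω ^ 2) ^ 2) := by rw [hω.sq_sq]; exact hω

/-- hypotheses of `close6` -/
theorem hyp6 (R : Rels O) (hω : Om ω) (h3 : (3 : K) ≠ 0) (T : Ty O ω m0 0 0 c 0) :
    (∀ v, O.z1 v = ω • v → O.t2 v = v → O.z2 v = ω ^ (0 : Fin 3).val • v → v = 0) ∧
    (∀ v, O.z1 v = ω ^ 2 • v → O.t2 v = v → O.z2 v = (ω ^ 2) ^ (0 : Fin 3).val • v → v = 0) :=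
  ⟨absent_w R hω h3 T (l := 0) (absent_a rfl), absent_w R hω.sq h3 (T.sq hω) (l := 0) (absent_a rfl)⟩

theorem casePlusSix (R : Rels O) (hω : Om ω) (h2 : (2 : K) ≠ 0) (h3 : (3 : K) ≠ 0) (T : Ty O ω m0 0 0 c 0)
    (hc : c ≠ 0) (hI : Irr O) (hn : 2 ≤ finrank K V) (hp : ∀ v, O.t1 (O.t2 v) = v) :
    finrank K V = 6 ∧ m0 = 0 ∧ c = 1 := by
  have hm0 := m0_zero_of R hω h3 T hI hn
  obtain ⟨v, hv, hv0⟩ := T.exists_ne (i := 1) (j := 1) (k := 0) (by change c ≠ 0; exact hc)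
  have h := finrank_le_of_irr hI hv0 (close6 R hω hω.sq h2 hp (hyp6 R hω h3 T).1 (hyp6 R hω h3 T).2 hv)
  have ht := T.tot
  omega

set_option maxHeartbeats 1000000 in
/-- the type `(m0; 1, 0; c)`, `c ≥ 1`, has `m0 = 0` -/
theorem m0_zero_of' (R : Rels O) (hω : Om ω) (h2 : (2 : K) ≠ 0) (h3 : (3 : K) ≠ 0) (T : Ty O ω m0 1 0 c 0)
    (hc : c ≠ 0) (hI : Irr O) (hn : 2 ≤ finrank K V) (hp : ∀ v, O.t1 (O.t2 v) = v) : m0 = 0 := by
  have W2 : ∀ v ∈ O.W ω 0 2 0, v = 0 := fun v hv => T.eq_zero (i := 0) (j := 2) (k := 0) rfl hv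
  have d1 : finrank K (O.W ω 0 1 0) = 1 := T.dim 0 1 0
  -- `t2` on `W 0 1 0`
  obtain ⟨⟨v1, hv1⟩, hv10, hv1s⟩ := finrank_eq_one_iff'.1 d1
  have hgen : ∀ w ∈ O.W ω 0 1 0, ∃ r : K, w = r • v1 := by
    intro w hw
    obtain ⟨r, hr⟩ := hv1s ⟨w, hw⟩
    exact ⟨r, (congrArg Subtype.val hr).symm⟩
  have hv1n : v1 ≠ 0 := fun h => hv10 (Subtype.ext h)
  obtain ⟨r, hr⟩ := hgen _ (show O.t2 v1 ∈ O.W ω 0 1 0 from W_t2' R hω hv1)
  have hr2 : r * r = 1 := by
    have e := R.t2t2 v1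
    rw [hr, map_smul, hr, smul_smul] at e
    have e2 : (r * r - 1) • v1 = 0 := by rw [sub_smul, e, one_smul, sub_self]
    exact sub_eq_zero.1 ((smul_eq_zero.1 e2).resolve_right hv1n)
  have hr3 : (r - 1) * (r + 1) = 0 := by linear_combination hr2
  rcases mul_eq_zero.1 hr3 with hr4 | hr4
  · -- `t2 = 1` on `W 0 1 0`
    have hr5 : r = 1 := sub_eq_zero.1 hr4
    have tX := t2_fix_X R hω h3 T hI hn (by
      intro l hl0 v hv ht
      fin_cases l
      · exact absurd rfl hl0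
      · obtain ⟨q, rfl⟩ := hgen v hv
        rw [map_smul, hr, hr5, one_smul] at ht
        exact eq_zero_of_neg h2 ht
      · exact W2 v hv)
    have jX := j_fix R hω h2 (Fi O.z1) (Fz1_z2 R) (Fz1_j R) tX 2 (by
      intro v hv hv2
      exact W2 v (mem_W_X R hω h3 T hv hv2))
    have d0 : finrank K (O.W ω 0 0 0) = m0 := T.dim 0 0 0
    rw [← d0, Submodule.finrank_eq_zero, eq_bot_iff]
    intro v hv
    rw [Submodule.mem_bot]
    have hvX := W_le_X (O := O) 0 0 hv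
    have hvz := (mem_W.1 hv).2.1
    rw [om_zero] at hvz
    exact no_fix R hω h3 T hI hn hvX hvz (jX v hvX)
  · -- `t2 = -1` on `W 0 1 0`
    have hr5 : r = -1 := by linear_combination hr4
    have tX := t2_neg_X R hω h3 T hI hn (by
      intro l hl0 v hv ht
      fin_cases l
      · exact absurd rfl hl0
      · obtain ⟨q, rfl⟩ := hgen v hv
        rw [map_smul, hr, hr5, neg_one_smul, smul_neg] at ht
        exact eq_zero_of_neg h2 ht.symm
      · exact W2 v hv)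
    have t100 : ∀ v ∈ O.W ω 1 0 0, O.t2 v = -v := by
      intro v hv
      have h1 : O.s v ∈ O.W ω 0 1 0 := W_s R hv
      have h4 := tX _ (W_le_X 1 0 h1)
      rw [R.t2s, t1_eq R hp] at h4
      have h5 := congrArg O.s h4
      rw [R.ss, map_neg, R.ss] at h5
      exact h5
    -- vectors with eigenvalues `ω`, `1`
    have hw10 : ∀ v, O.z1 v = ω • v → O.z2 v = ω ^ (0 : Fin 3).val • v → v ∈ O.W ω 1 0 0 := by
      intro v hv1 hv2
      refine decomp hω h3 (T := O.x) R.xxx (Ei O.z1 ω ⊓ Ei O.z2 (ω ^ (0 : Fin 3).val)) (O.W ω 1 0 0) ?_ ?_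
        (v := v) ⟨hv1, hv2⟩
      · rintro u ⟨(u1 : O.z1 u = ω • u), (u2 : O.z2 u = ω ^ (0 : Fin 3).val • u)⟩
        exact Submodule.mem_inf.2 ⟨by rw [mem_Ei, R.z1x, u1, map_smul], by rw [mem_Ei, R.z2x, u2, map_smul]⟩
      · rintro k u ⟨(u1 : O.z1 u = ω • u), (u2 : O.z2 u = ω ^ (0 : Fin 3).val • u)⟩ hk
        have hm : u ∈ O.W ω 1 0 k := mem_W.2 ⟨by rw [om_one]; exact u1, u2, hk⟩
        by_cases hk0 : k = 0
        · rw [hk0] at hm; exact hm
        · have : u = 0 := T.eq_zero (by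
            have : ∀ k : Fin 3, k ≠ 0 → cls 1 0 k = 4 := by decide
            rw [this k hk0]; rfl) hm
          rw [this]; exact Submodule.zero_mem _
    have hl0 : ∀ v, O.z1 v = ω • v → O.t2 v = v → O.z2 v = ω ^ (0 : Fin 3).val • v → v = 0 := by
      intro v hv1 ht hv2
      exact eq_zero_of_neg h2 (ht.symm.trans (t100 v (hw10 v hv1 hv2)))
    -- the invariant subspace
    set W := O.W ω 0 0 0 ⊔ O.W ω 0 1 0 ⊔ O.W ω 1 0 0 ⊔ O.W ω 1 1 1 ⊔ O.W ω 1 1 2 with hW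
    have i0 : O.W ω 0 0 0 ≤ W := by
      rw [hW]; exact le_sup_left.trans (le_sup_left.trans (le_sup_left.trans le_sup_left))
    have i1 : O.W ω 0 1 0 ≤ W := by
      rw [hW]; exact le_sup_right.trans (le_sup_left.trans (le_sup_left.trans le_sup_left))
    have i2 : O.W ω 1 0 0 ≤ W := by rw [hW]; exact le_sup_right.trans (le_sup_left.trans le_sup_left)
    have i3 : O.W ω 1 1 1 ≤ W := by rw [hW]; exact le_sup_right.trans le_sup_left
    have i4 : O.W ω 1 1 2 ≤ W := by rw [hW]; exact le_sup_right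
    have key : ∀ T : Module.End K V, (∀ v ∈ O.W ω 0 0 0, T v ∈ W) → (∀ v ∈ O.W ω 0 1 0, T v ∈ W) →
        (∀ v ∈ O.W ω 1 0 0, T v ∈ W) → (∀ v ∈ O.W ω 1 1 1, T v ∈ W) → (∀ v ∈ O.W ω 1 1 2, T v ∈ W) →
        ∀ v ∈ W, T v ∈ W := by
      intro T k0 k1 k2 k3 k4
      have : W ≤ W.comap T := by
        conv_lhs => rw [hW]
        exact sup_le (sup_le (sup_le (sup_le k0 k1) k2) k3) k4
      exact this
    have y100 : ∀ v ∈ O.W ω 1 0 0, O.y v ∈ O.W ω 1 1 1 := fun v hv => W_y' R hω hv (by decide) (by decide)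
    have y111 : ∀ v ∈ O.W ω 1 1 1, O.y v ∈ O.W ω 1 1 2 := fun v hv => W_y' R hω hv (by decide) (by decide)
    have y112 : ∀ v ∈ O.W ω 1 1 2, O.y v ∈ O.W ω 1 0 0 := fun v hv => W_y' R hω hv (by decide) (by decide)
    have hj100 : ∀ v ∈ O.W ω 1 0 0, O.j v ∈ W ∧ O.j (O.y v) ∈ W ∧ O.j (O.y (O.y v)) ∈ W := by
      intro v hv
      have hv' := hv
      rw [mem_W, om_one, om_zero] at hv'
      have hx : O.x v = v := hv'.2.2
      exact jR R hω hv'.1 hx (ju_fix R hω h2 hl0 hv'.1 hx) (i2 hv) (i3 (y100 v hv)) (i4 (y111 _ (y100 v hv)))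
    have hjX : ∀ v ∈ Fi O.z1, O.j v ∈ W := by
      intro v hv
      have h1 := X_le R hω h3 T (Fz1_j R v hv)
      have h4 : O.W ω 0 2 0 ≤ W := by
        intro u hu
        rw [W2 u hu]; exact Submodule.zero_mem _
      exact (sup_le (sup_le i0 i1) h4) h1
    have hirr := hI W
      (key O.y
        (fun v hv => by rw [y_fix R hω h3 T (W_le_X 0 0 hv)]; exact i0 hv)
        (fun v hv => by rw [y_fix R hω h3 T (W_le_X 1 0 hv)]; exact i1 hv)
        (fun v hv => i3 (y100 v hv)) (fun v hv => i4 (y111 v hv)) (fun v hv => i2 (y112 v hv)))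
      (key O.s (fun v hv => i0 (W_s R hv)) (fun v hv => i2 (W_s R hv)) (fun v hv => i1 (W_s R hv))
        (fun v hv => i3 (W_s R hv)) (fun v hv => i4 (W_s R hv)))
      (key O.j (fun v hv => hjX v (W_le_X 0 0 hv)) (fun v hv => hjX v (W_le_X 1 0 hv)) (fun v hv => (hj100 v hv).1)
        (fun v hv => by
          have := (hj100 _ (y112 _ (y111 v hv))).2.1
          rwa [R.yyy] at this)
        (fun v hv => by
          have := (hj100 _ (y112 v hv)).2.2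
          rwa [R.yyy] at this))
    have d0 : finrank K (O.W ω 0 0 0) = m0 := T.dim 0 0 0
    have d2 : finrank K (O.W ω 1 0 0) = 1 := T.dim 1 0 0
    have d3 : finrank K (O.W ω 1 1 1) = 1 := T.dim 1 1 1
    have d4 : finrank K (O.W ω 1 1 2) = 1 := T.dim 1 1 2
    have f1 := Submodule.finrank_add_le_finrank_add_finrank (O.W ω 0 0 0) (O.W ω 0 1 0)
    have f2 := Submodule.finrank_add_le_finrank_add_finrank (O.W ω 0 0 0 ⊔ O.W ω 0 1 0) (O.W ω 1 0 0)
    have f3 := Submodule.finrank_add_le_finrank_add_finrank (O.W ω 0 0 0 ⊔ O.W ω 0 1 0 ⊔ O.W ω 1 0 0) (O.W ω 1 1 1)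
    have f4 := Submodule.finrank_add_le_finrank_add_finrank
      (O.W ω 0 0 0 ⊔ O.W ω 0 1 0 ⊔ O.W ω 1 0 0 ⊔ O.W ω 1 1 1) (O.W ω 1 1 2)
    rw [← hW] at f4
    have ht := T.tot
    rcases hirr with h | h
    · have h4 : v1 ∈ W := i1 hv1
      rw [h] at h4
      exact absurd ((Submodule.mem_bot K).1 h4) hv1n
    · rw [h, finrank_top] at f4
      omega

end plus

/-! ### `-1` acts as `-1` -/

section minus

set_option maxHeartbeats 1000000 in
theorem caseMinus (R : Rels O) (hω : Om ω) (h2 : (2 : K) ≠ 0) (h3 : (3 : K) ≠ 0) (T : Ty O ω m0 a b c 0)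
    (hI : Irr O) (hn : 2 ≤ finrank K V) (hn' : finrank K V ≤ 12) (hm : ∀ v, O.t1 (O.t2 v) = -v) :
    finrank K V = 4 := by
  have hm0 : m0 = 0 := by
    have d0 : finrank K (O.W ω 0 0 0) = m0 := T.dim 0 0 0
    rw [← d0, Submodule.finrank_eq_zero, eq_bot_iff]
    intro v hv
    rw [Submodule.mem_bot]
    have h1 := y_fix R hω h3 T (W_le_X 0 0 hv)
    have h4 := y_fix R hω h3 T (W_le_X 0 0 (W_s R hv))
    have e := R.ysys v
    rw [h4, R.ss, h1, h4, R.ss, h1, hm] at e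
    exact eq_zero_of_neg h2 e
  have hc : c = 0 := by
    by_contra hc
    have ht := T.tot
    rcases (by omega : c = 1 ∨ (c = 2 ∧ a = 0 ∧ b = 0)) with hc1 | ⟨hc2, ha, hb⟩
    · have d : finrank K (O.W ω 1 1 0) = 1 := (T.dim 1 1 0).trans hc1
      obtain ⟨⟨v1, hv1⟩, hv10, hv1s⟩ := finrank_eq_one_iff'.1 d
      have hgen : ∀ w ∈ O.W ω 1 1 0, ∃ r : K, w = r • v1 := by
        intro w hw
        obtain ⟨r, hr⟩ := hv1s ⟨w, hw⟩
        exact ⟨r, (congrArg Subtype.val hr).symm⟩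
      have hv1n : v1 ≠ 0 := fun h => hv10 (Subtype.ext h)
      obtain ⟨r, hr⟩ := hgen _ (show O.t2 v1 ∈ O.W ω 1 1 0 from W_t2' R hω hv1)
      obtain ⟨q, hq⟩ := hgen _ (show O.s v1 ∈ O.W ω 1 1 0 from W_s R hv1)
      have hq0 : q ≠ 0 := by
        rintro rfl
        rw [zero_smul] at hq
        exact hv1n (s_inj R hq)
      have hr2 : r * r = 1 := by
        have e := R.t2t2 v1
        rw [hr, map_smul, hr, smul_smul] at e
        have e2 : (r * r - 1) • v1 = 0 := by rw [sub_smul, e, one_smul, sub_self]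
        exact sub_eq_zero.1 ((smul_eq_zero.1 e2).resolve_right hv1n)
      have e1 := R.t1s v1
      rw [hq, hr, map_smul, map_smul, hq, smul_comm] at e1
      have e2 : q • (O.t1 v1 - r • v1) = 0 := by
        rw [smul_sub, e1, smul_comm, sub_self]
      have e3 : O.t1 v1 = r • v1 := sub_eq_zero.1 ((smul_eq_zero.1 e2).resolve_left hq0)
      have e4 := hm v1
      rw [hr, map_smul, e3, smul_smul, hr2, one_smul] at e4
      exact hv1n (eq_zero_of_neg h2 e4)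
    · subst ha hb
      obtain ⟨v, hv, hv0⟩ := T.exists_ne (i := 1) (j := 1) (k := 0) (by change c ≠ 0; exact hc)
      have hl := absent_w R hω h3 T (l := 0) (absent_a rfl)
      have tN : ∀ v ∈ O.W ω 1 1 0, O.t2 v = -v := by
        intro v hv
        rw [mem_W, om_one, om_zero] at hv
        exact t2_neg R hω h2 hl hv.1 hv.2.2
      have e1 := tN _ (W_s R hv)
      rw [R.t2s] at e1
      have e2 := congrArg O.s e1
      rw [R.ss, map_neg, R.ss] at e2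
      have e3 := hm v
      rw [tN v hv, map_neg, e2, neg_neg] at e3
      exact hv0 (eq_zero_of_neg h2 e3)
  subst hc hm0
  have key : ∀ (ω' : K) (hω' : Om ω') (a b : ℕ) (T' : Ty O ω' 0 a b 0 0), ∀ v ∈ O.W ω' 0 1 0, O.t2 v = v := by
    intro ω' hω' a b T' v hv
    have hl := absent_w R hω' h3 T' (l := 2) (absent_c rfl)
    have h1 := W_s R hv
    rw [mem_W, om_one, om_zero] at h1
    have h1x : O.x (O.s v) = O.s v := h1.2.2
    have h4 := t2_neg R hω' h2 hl h1.1 h1x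
    rw [R.t2s] at h4
    have h5 := congrArg O.s h4
    rw [R.ss, map_neg, R.ss] at h5
    have h6 := hm v
    rw [R.t1t2, h5, map_neg] at h6
    exact neg_injective h6
  have W0 : ∀ v ∈ O.W ω 0 0 0, v = 0 := fun v hv => T.eq_zero (i := 0) (j := 0) (k := 0) rfl hv
  have tX : ∀ v ∈ Fi O.z1, O.t2 v = v := by
    have : Fi O.z1 ≤ Fi O.t2 := by
      refine (X_le R hω h3 T).trans (sup_le (sup_le ?_ ?_) ?_)
      · intro v hv
        rw [W0 v hv]; exact Submodule.zero_mem _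
      · intro v hv; exact key ω hω a b T v hv
      · intro v hv
        exact key (ω ^ 2) hω.sq b a (T.sq hω) v (by rw [W_sq_010 hω]; exact hv)
    exact this
  have jX := j_fix R hω h2 (Fi O.z1) (Fz1_z2 R) (Fz1_j R) tX 0 (by
    intro v hv hv2
    exact W0 v (mem_W_X R hω h3 T hv hv2))
  have fin : ∀ (ω' : K) (hω' : Om ω') (a b : ℕ) (T' : Ty O ω' 0 a b 0 0), a ≠ 0 → finrank K V = 4 := by
    intro ω' hω' a b T' ha
    obtain ⟨v, hv, hv0⟩ := T'.exists_ne (i := 0) (j := 1) (k := 0) (by change a ≠ 0; exact ha)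
    have hl := absent_w R hω' h3 T' (l := 2) (absent_c rfl)
    have hX : v ∈ Fi O.z1 := W_le_X 1 0 hv
    have h := finrank_le_of_irr hI hv0 (close4 R hω' h2 hm hl hv (y_fix R hω' h3 T' hX) (jX v hX))
    have ht := T'.tot
    omega
  by_cases ha : a = 0
  · refine fin (ω ^ 2) hω.sq b a (T.sq hω) ?_
    rintro rfl
    have ht := T.tot
    omega
  · exact fin ω hω a b T ha

end minus

/-- **The degrees.** -/
theorem degrees [IsAlgClosed K] (R : Rels O) (h2 : (2 : K) ≠ 0) (h3 : (3 : K) ≠ 0) (hI : Irr O)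
    (hn : 2 ≤ finrank K V) (hn' : finrank K V ≤ 12) :
    ((∀ v, O.t1 (O.t2 v) = -v) → finrank K V = 4) ∧
    ((∀ v, O.t1 (O.t2 v) = v) → finrank K V = 5 ∨ finrank K V = 10 ∨
      (finrank K V = 6 ∧ ∀ ω : K, Om ω → Ty O ω 0 0 0 1 0)) := by
  obtain ⟨ω₀, e1, e2, e3⟩ := exists_omega h3
  have hω₀ : Om ω₀ := ⟨e1, e2, e3⟩
  refine ⟨fun hm => ?_, fun hp => ?_⟩
  · obtain ⟨m0, a, b, c, d, T⟩ := exists_ty R hω₀ h3
    have hd := d_zero R hω₀ h3 T hn'
    subst hd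
    exact caseMinus R hω₀ h2 h3 T hI hn hn' hm
  · have key : ∀ ω : K, Om ω → finrank K V = 5 ∨ finrank K V = 10 ∨ (finrank K V = 6 ∧ Ty O ω 0 0 0 1 0) := by
      intro ω hω
      obtain ⟨m0, a, b, c, d, T⟩ := exists_ty R hω h3
      have hd := d_zero R hω h3 T hn'
      subst hd
      have ht := T.tot
      by_cases hc : c = 0
      · subst hc
        rcases casePlusZero R hω h2 h3 T hI hn hn' hp with h | h
        · exact Or.inl h
        · exact Or.inr (Or.inl h)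
      · rcases (by omega : (a = 0 ∧ b = 0) ∨ (a = 1 ∧ b = 0) ∨ (a = 0 ∧ b = 1)) with ⟨ha, hb⟩ | ⟨ha, hb⟩ | ⟨ha, hb⟩
        · subst ha hb
          obtain ⟨h1, h4, h5⟩ := casePlusSix R hω h2 h3 T hc hI hn hp
          subst h4 h5
          exact Or.inr (Or.inr ⟨h1, T⟩)
        · subst ha hb
          have := m0_zero_of' R hω h2 h3 T hc hI hn hp
          omega
        · subst ha hb
          have := m0_zero_of' R hω.sq h2 h3 (T.sq hω) hc hI hn hp
          omega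
    rcases key ω₀ hω₀ with h | h | h
    · exact Or.inl h
    · exact Or.inr (Or.inl h)
    · refine Or.inr (Or.inr ⟨h.1, fun ω hω => ?_⟩)
      rcases key ω hω with h' | h' | h'
      · omega
      · omega
      · exact h'.2

end Cfsg.Agent.H659.Sp4
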