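import Cfsg.Agent.H659.Sp4Ops

/-!
# Irreducible representations of `Sp₄(3)` of degree ≤ 12 in characteristic ≠ 2, 3: the lemmas
-/

set_option autoImplicit false

namespace Cfsg.Agent.H659.Sp4

open Module Cfsg.Agent.H659.Triple

variable {K : Type*} [Field K] {V : Type*} [AddCommGroup V] [Module K V] {O : Ops K V} {ω : K} (R : Rels O)
  (hω : Om ω) (h2 : (2 : K) ≠ 0) (h3 : (3 : K) ≠ 0)

/-- irreducibility -/
def Irr (O : Ops K V) : Prop := ∀ W : Submodule K V, (∀ v ∈ W, O.y v ∈ W) → (∀ v ∈ W, O.s v ∈ W) →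
  (∀ v ∈ W, O.j v ∈ W) → W = ⊥ ∨ W = ⊤

section two

include h2

theorem eq_zero_of_neg {v : V} (h : v = -v) : v = 0 := by
  have h4 : (2 : K) • v = 0 := by
    rw [two_smul]
    nth_rewrite 2 [h]
    rw [add_neg_cancel]
  exact (smul_eq_zero.1 h4).resolve_left h2

end two

include R hω h2 in
/-- `Y` stable under `z2`, `j`, fixed by `t2`, one weight of `z2` missing: then `j` fixes `Y` -/
theorem j_fix (Y : Submodule K V) (hz : ∀ v ∈ Y, O.z2 v ∈ Y) (hj : ∀ v ∈ Y, O.j v ∈ Y) (ht : ∀ v ∈ Y, O.t2 v = v)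
    (l : Fin 3) (hl : ∀ v ∈ Y, O.z2 v = ω ^ l.val • v → v = 0) : ∀ v ∈ Y, O.j v = v := by
  have rel : ∀ w ∈ Y, w + ω ^ (2 * l.val) • O.z2 w + ω ^ l.val • O.z2 (O.z2 w) = 0 := fun w hw =>
    hl _ (Y.add_mem (Y.add_mem hw (Y.smul_mem _ (hz _ hw))) (Y.smul_mem _ (hz _ (hz _ hw))))
      (pr_eig hω R.z2z2z2 l w)
  have hc1 : ω ^ l.val ≠ 0 := pow_ne_zero _ hω.ne_zero
  have hc2 : ω ^ (2 * l.val) ≠ 0 := pow_ne_zero _ hω.ne_zero
  -- j'
  have jp_mem : ∀ w ∈ Y, O.z2 (O.j (O.z2 (O.z2 w))) ∈ Y := fun w hw => hz _ (hj _ (hz _ (hz _ hw)))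
  -- w with j w = -w, j' w = w
  have c1 : ∀ w ∈ Y, O.j w = -w → O.z2 (O.j (O.z2 (O.z2 w))) = w → w = 0 := by
    intro w hw h1 h1'
    have e1 := rel w hw
    have e2 : O.z2 (O.z2 (O.j (O.z2 w))) = -w := by
      rw [← R.jp, h1', h1]
    have e3 : O.j (O.z2 w) = -O.z2 w := by
      have := congrArg O.z2 e2
      rw [R.z2z2z2, map_neg] at this
      exact this
    have e4 : O.j (O.z2 (O.z2 w)) = O.z2 (O.z2 w) := by
      have := congrArg (fun u => O.z2 (O.z2 u)) h1'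
      simp only [R.z2z2z2] at this
      exact this
    have e5 := congrArg O.j e1
    rw [map_add, map_add, map_smul, map_smul, e3, e4, h1, map_zero] at e5
    have e6 : (2 * ω ^ l.val) • O.z2 (O.z2 w) = 0 := by
      have : (2 * ω ^ l.val) • O.z2 (O.z2 w) = (w + ω ^ (2 * l.val) • O.z2 w + ω ^ l.val • O.z2 (O.z2 w)) +
          (-w + ω ^ (2 * l.val) • -O.z2 w + ω ^ l.val • O.z2 (O.z2 w)) := by module
      rw [this, e1, e5, add_zero]
    have e7 := (smul_eq_zero.1 e6).resolve_left (mul_ne_zero h2 hc1)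
    have e8 := congrArg O.z2 e7
    rw [R.z2z2z2, map_zero] at e8
    exact e8
  have c2 : ∀ w ∈ Y, O.j w = -w → O.z2 (O.j (O.z2 (O.z2 w))) = -w → w = 0 := by
    intro w hw h1 h1'
    have e1 := rel w hw
    have e2 : O.z2 (O.z2 (O.j (O.z2 w))) = w := by
      rw [← R.jp, h1', map_neg, h1, neg_neg]
    have e3 : O.j (O.z2 w) = O.z2 w := by
      have := congrArg O.z2 e2
      rw [R.z2z2z2] at this
      exact this
    have e4 : O.j (O.z2 (O.z2 w)) = -O.z2 (O.z2 w) := by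
      have := congrArg (fun u => O.z2 (O.z2 u)) h1'
      simp only [R.z2z2z2, map_neg] at this
      exact this
    have e5 := congrArg O.j e1
    rw [map_add, map_add, map_smul, map_smul, e3, e4, h1, map_zero] at e5
    have e6 : (2 * ω ^ (2 * l.val)) • O.z2 w = 0 := by
      have : (2 * ω ^ (2 * l.val)) • O.z2 w = (w + ω ^ (2 * l.val) • O.z2 w + ω ^ l.val • O.z2 (O.z2 w)) +
          (-w + ω ^ (2 * l.val) • O.z2 w + ω ^ l.val • -O.z2 (O.z2 w)) := by module
      rw [this, e1, e5, add_zero]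
    have e7 := (smul_eq_zero.1 e6).resolve_left (mul_ne_zero h2 hc2)
    have e8 := congrArg (fun u => O.z2 (O.z2 u)) e7
    simp only [R.z2z2z2, map_zero] at e8
    exact e8
  intro v hv
  set w := v - O.j v with hw
  have hwY : w ∈ Y := Y.sub_mem hv (hj _ hv)
  have hjw : O.j w = -w := by
    rw [hw, map_sub, R.jj, ht v hv]; abel
  set w' := O.z2 (O.j (O.z2 (O.z2 w))) with hw'
  have hw'Y : w' ∈ Y := jp_mem w hwY
  -- j j' w = j' j w (as t2 = 1)
  have hjw' : O.j w' = -w' := by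
    have e1 : O.j w' = O.z2 (O.z2 (O.j (O.z2 w))) := R.jp w
    have e2 : O.z2 (O.j (O.z2 (O.z2 (O.j w)))) = O.t2 (O.z2 (O.z2 (O.j (O.z2 w)))) := R.pj w
    rw [ht _ (hz _ (hz _ (hj _ (hz _ hwY)))), ← e1, hjw, map_neg, map_neg, map_neg, map_neg] at e2
    exact e2.symm
  have hpw' : O.z2 (O.j (O.z2 (O.z2 w'))) = w := by
    rw [hw', R.z2z2z2, R.jj, ht _ (hz _ (hz _ hwY)), R.z2z2z2]
  have hz1 : w + w' = 0 := by
    refine c1 _ (Y.add_mem hwY hw'Y) ?_ ?_
    · rw [map_add, hjw, hjw']; abel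
    · rw [map_add, map_add, map_add, map_add, hpw', ← hw']; abel
  have hz2 : w - w' = 0 := by
    refine c2 _ (Y.sub_mem hwY hw'Y) ?_ ?_
    · rw [map_sub, hjw, hjw']; abel
    · rw [map_sub, map_sub, map_sub, map_sub, hpw', ← hw']; abel
  have hz : w = 0 := by
    have : (2 : K) • w = 0 := by
      rw [show (2 : K) • w = (w + w') + (w - w') by module, hz1, hz2, add_zero]
    exact (smul_eq_zero.1 this).resolve_left h2
  exact (sub_eq_zero.1 hz).symm

include R hω h2 in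
/-- on a subspace with `t2 = -1`: `j v` is not in the eigenspace of `v` -/
theorem j_move {v : V} (ht : O.t2 v = -v) {l : Fin 3} (hz : O.z2 v = ω ^ l.val • v)
    (hzj : O.z2 (O.j v) = ω ^ l.val • O.j v) : v = 0 := by
  have e := R.zj3 v
  have hjj : O.j (O.j v) = -v := by rw [R.jj, ht]
  rw [hzj, map_smul, hjj] at e
  simp only [map_smul, map_neg, hz, hzj] at e
  rw [ht] at e
  have e1 : ω ^ l.val • ω ^ l.val • ω ^ l.val • O.j v = O.j v := by
    rw [smul_smul, smul_smul, ← pow_add, ← pow_add, show l.val + l.val + l.val = 3 * l.val by ring, pow_mul, hω.c,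
      one_pow, one_smul]
  have e2 : O.j v = v := by
    have e3 : ω ^ l.val • -(ω ^ l.val • ω ^ l.val • O.j v) = -v := by
      simpa only [smul_neg, map_smul] using e
    rw [smul_neg, e1] at e3
    exact neg_injective e3
  have e4 := hjj
  rw [e2, e2] at e4
  exact eq_zero_of_neg h2 e4

include R in
/-- on a `j`-stable subspace with `z2 = 1` also `j = 1` -/
theorem j_fix_of_z2 (Y : Submodule K V) (hz : ∀ v ∈ Y, O.z2 v = v) (hj : ∀ v ∈ Y, O.j v ∈ Y) :
    ∀ v ∈ Y, O.j v = v := by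
  have ht : ∀ v ∈ Y, O.t2 v = O.j v := by
    intro v hv
    have e := R.zj3 v
    rw [hz _ (hj _ hv), hz _ (hj _ (hj _ hv)), hz _ (hj _ (hj _ (hj _ hv))), R.jj (O.j v), R.t2j] at e
    rw [← R.jj v] at e ⊢
    -- j (j (j (j v)))... 
    have e2 : O.j (O.j (O.j v)) = O.j (O.j v) := e
    have e3 : O.j (O.j v) = O.j v := by
      have h4 := congrArg O.j (congrArg O.j (congrArg O.j e2))
      have h5 : ∀ u, O.j (O.j (O.j (O.j u))) = u := fun u => by rw [R.jj, R.jj, R.t2t2]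
      rw [h5, h5] at h4
      exact h4
    exact e3
  intro v hv
  have h5 : O.j (O.j v) = O.j v := by rw [R.jj, ht v hv]
  have h7 : O.j (O.j (O.j (O.j v))) = v := by rw [R.jj, R.jj, R.t2t2]
  rw [h5, h5, h5] at h7
  exact h7

/-! ### subspaces -/

/-- an eigenspace -/
def Ei (T : Module.End K V) (c : K) : Submodule K V := LinearMap.eqLocus T (c • LinearMap.id)

theorem mem_Ei {T : Module.End K V} {c : K} {v : V} : v ∈ Ei T c ↔ T v = c • v := Iff.rfl

/-- the fixed space -/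
def Fi (T : Module.End K V) : Submodule K V := LinearMap.eqLocus T LinearMap.id

theorem mem_Fi {T : Module.End K V} {v : V} : v ∈ Fi T ↔ T v = v := Iff.rfl

include R in
theorem j4 (v : V) : O.j (O.j (O.j (O.j v))) = v := by rw [R.jj, R.jj, R.t2t2]

include R in
theorem j_inj {v : V} (h : O.j v = 0) : v = 0 := by
  rw [← j4 R v, h, map_zero, map_zero, map_zero]

include R in
theorem y_inj {v : V} (h : O.y v = 0) : v = 0 := by
  rw [← R.yyy v, h, map_zero, map_zero]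

include R in
theorem s_inj {v : V} (h : O.s v = 0) : v = 0 := by
  rw [← R.ss v, h, map_zero]

section fin

variable [FiniteDimensional K V]

theorem Ty.eq_zero {m0 a b c d : ℕ} (T : Ty O ω m0 a b c d) {i j k : Fin 3}
    (h : ![m0, a, b, c, d] (cls i j k) = 0) {v : V} (hv : v ∈ O.W ω i j k) : v = 0 := by
  have h1 := T.dim i j k
  rw [h] at h1
  rw [Submodule.finrank_eq_zero.1 h1] at hv
  exact (Submodule.mem_bot K).1 hv

omit [FiniteDimensional K V] in
theorem Ty.exists_ne {m0 a b c d : ℕ} (T : Ty O ω m0 a b c d) {i j k : Fin 3}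
    (h : ![m0, a, b, c, d] (cls i j k) ≠ 0) : ∃ v ∈ O.W ω i j k, v ≠ 0 := by
  apply Submodule.exists_mem_ne_zero_of_ne_bot
  intro hb
  apply h
  rw [← T.dim, hb, finrank_bot]

include hω h3 in
omit [FiniteDimensional K V] in
theorem three_sum {a b c : V} (e0 : a + b + c = 0) (e1 : a + ω ^ 2 • b + ω • c = 0) (e2 : a + ω • b + ω ^ 2 • c = 0) :
    a = 0 := by
  have e : (3 : K) • a = 0 := by
    have h4 : (3 : K) • a = (a + b + c) + (a + ω ^ 2 • b + ω • c) + (a + ω • b + ω ^ 2 • c) -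
        ((ω ^ 2 + ω + 1) • b + (ω ^ 2 + ω + 1) • c) := by module
    rw [h4, e0, e1, e2, hω.a, zero_smul, zero_smul]
    simp
  exact (smul_eq_zero.1 e).resolve_left h3

include R hω h3 in
theorem d_zero {m0 a b c d : ℕ} (T : Ty O ω m0 a b c d) (hn : finrank K V ≤ 12) : d = 0 := by
  by_contra hd
  have ht := T.tot
  have hd1 : d = 1 := by omega
  have hm : m0 = 0 := by omega
  have ha : a = 0 := by omega
  have hb : b = 0 := by omega
  obtain ⟨v, hv, hv0⟩ := T.exists_ne (i := 0) (j := 0) (k := 1) (by change d ≠ 0; exact hd)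
  have hyv : O.y v ∈ O.W ω 0 2 1 := W_y (i := 0) (j := 0) (k := 1) R hω hv
  have hyyv : O.y (O.y v) ∈ O.W ω 0 1 1 := W_y (i := 0) (j := 2) (k := 1) R hω hyv
  rw [mem_W] at hv hyv hyyv
  obtain ⟨a1, a2, a3⟩ := hv
  obtain ⟨b1, b2, b3⟩ := hyv
  obtain ⟨c1, c2, c3⟩ := hyyv
  change _ = ω ^ 0 • v at a1 a2
  change _ = ω ^ 0 • O.y v at b1
  change _ = ω ^ 2 • O.y v at b2
  change _ = ω ^ 0 • O.y (O.y v) at c1
  change _ = ω ^ 1 • O.y (O.y v) at c2
  rw [pow_zero, one_smul] at a1 a2 b1 c1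
  rw [pow_one] at c2
  set u := v + O.y v + O.y (O.y v) with hu
  have hu0 : u ≠ 0 := by
    intro h0
    have e1 : O.z2 u = 0 := by rw [h0, map_zero]
    have e2 : O.z2 (O.z2 u) = 0 := by rw [e1, map_zero]
    rw [hu] at h0
    have e3 : O.z2 u = v + ω ^ 2 • O.y v + ω • O.y (O.y v) := by
      rw [hu, map_add, map_add, a2, b2, c2]
    have e4 : O.z2 (O.z2 u) = v + ω • O.y v + ω ^ 2 • O.y (O.y v) := by
      rw [e3, map_add, map_add, map_smul, map_smul, a2, b2, c2, smul_smul, smul_smul]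
      congr 2
      · congr 1
        linear_combination ω * hω.c
      · ring
    exact hv0 (three_sum hω h3 h0 (e3.symm.trans e1) (e4.symm.trans e2))
  have hyu : O.y u = u := by
    rw [hu, map_add, map_add, R.yyy]; abel
  have hz1u : O.z1 u = u := by
    rw [hu, map_add, map_add, a1, b1, c1]
  have hw : O.j u ∈ Fi O.z1 ⊓ Fi O.x := Submodule.mem_inf.2 ⟨by rw [mem_Fi, R.z1j, hz1u], by
    rw [mem_Fi, ← R.jy, hyu]⟩
  have h0 : O.j u ∈ (⊥ : Submodule K V) := by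
    refine decomp hω h3 (T := O.z2) R.z2z2z2 (Fi O.z1 ⊓ Fi O.x) ⊥ ?_ ?_ hw
    · rintro w ⟨(w1 : O.z1 w = w), (w2 : O.x w = w)⟩
      exact Submodule.mem_inf.2 ⟨by rw [mem_Fi, R.z1z2, w1], by rw [mem_Fi, ← R.z2x, w2]⟩
    · rintro l w ⟨(w1 : O.z1 w = w), (w2 : O.x w = w)⟩ hl
      rw [Submodule.mem_bot]
      refine T.eq_zero (i := 0) (j := l) (k := 0) ?_ (mem_W.2 ⟨?_, hl, ?_⟩)
      · fin_cases l
        · exact hm
        · exact ha
        · exact hb
      · change _ = ω ^ 0 • w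
        rw [pow_zero, one_smul, w1]
      · change _ = ω ^ 0 • w
        rw [pow_zero, one_smul, w2]
  rw [Submodule.mem_bot] at h0
  exact hu0 (j_inj R h0)

variable {m0 a b c : ℕ} (T : Ty O ω m0 a b c 0)

include R hω h3 T in
theorem x_fix {v : V} (hv : O.z1 v = v) : O.x v = v := by
  refine decomp hω h3 (T := O.z2) R.z2z2z2 (Fi O.z1) (Fi O.x) ?_ ?_ (v := v) hv
  · intro w w1
    rw [mem_Fi] at w1 ⊢
    rw [R.z1z2, w1]
  · intro l w w1 hl
    refine decomp hω h3 (T := O.x) R.xxx (Fi O.z1 ⊓ Ei O.z2 (ω ^ l.val)) (Fi O.x) ?_ ?_ ⟨w1, hl⟩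
    · rintro u ⟨(u1 : O.z1 u = u), (u2 : O.z2 u = ω ^ l.val • u)⟩
      exact Submodule.mem_inf.2 ⟨by rw [mem_Fi, R.z1x, u1], by rw [mem_Ei, R.z2x, u2, map_smul]⟩
    · rintro k u ⟨(u1 : O.z1 u = u), (u2 : O.z2 u = ω ^ l.val • u)⟩ hk
      by_cases hk0 : k = 0
      · rw [mem_Fi, hk, hk0]
        change ω ^ 0 • u = u
        rw [pow_zero, one_smul]
      · have hu : u = 0 := by
          refine T.eq_zero (i := 0) (j := l) (k := k) ?_ (mem_W.2 ⟨?_, u2, hk⟩)
          · have : ∀ l k : Fin 3, k ≠ 0 → cls 0 l k = 4 := by decide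
            rw [this l k hk0]; rfl
          · change _ = ω ^ 0 • u
            rw [pow_zero, one_smul, u1]
        rw [hu]
        exact Submodule.zero_mem _

include R hω h3 T in
theorem y_fix {v : V} (hv : O.z1 v = v) : O.y v = v := by
  have e1 : O.z1 (O.j (O.j (O.j v))) = O.j (O.j (O.j v)) := by rw [R.z1j, R.z1j, R.z1j, hv]
  have e2 := R.jx (O.j (O.j (O.j v)))
  rw [x_fix R hω h3 T e1, j4 R] at e2
  have e3 := congrArg O.y e2
  rw [R.yyy] at e3
  exact e3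

include R hω h3 T in
theorem mem_W_X {v : V} (hv : O.z1 v = v) {l : Fin 3} (hl : O.z2 v = ω ^ l.val • v) : v ∈ O.W ω 0 l 0 := by
  refine mem_W.2 ⟨?_, hl, ?_⟩
  · change _ = ω ^ 0 • v
    rw [pow_zero, one_smul, hv]
  · change _ = ω ^ 0 • v
    rw [pow_zero, one_smul, x_fix R hω h3 T hv]

include R hω h3 T in
/-- no vector fixed by `z1`, `z2`, `j` -/
theorem no_fix (hI : Irr O) (hn : 2 ≤ finrank K V) {v : V} (hv1 : O.z1 v = v) (hv2 : O.z2 v = v)
    (hvj : O.j v = v) : v = 0 := by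
  have hy := y_fix R hω h3 T hv1
  have hys : O.y (O.s v) = O.s v := y_fix R hω h3 T (by rw [R.z1s, hv2])
  have hs : O.s v = v := by
    have e := R.s_eq v
    rw [hy, show O.t2 v = v by rw [← R.jj, hvj, hvj], hys, R.ss, hy, hy] at e
    exact e
  have key : ∀ T : Module.End K V, T v = v → ∀ w ∈ (K ∙ v), T w ∈ (K ∙ v) := by
    intro T hT w hw
    obtain ⟨c, rfl⟩ := Submodule.mem_span_singleton.1 hw
    rw [map_smul, hT]
    exact Submodule.smul_mem _ _ (Submodule.mem_span_singleton_self v)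
  rcases hI (K ∙ v) (key _ hy) (key _ hs) (key _ hvj) with h | h
  · exact Submodule.span_singleton_eq_bot.1 h
  · exfalso
    have h4 : finrank K (K ∙ v) ≤ 1 := by
      refine (finrank_span_le_card ({v} : Set V)).trans ?_
      simp
    rw [h, finrank_top] at h4
    omega

include R hω h3 T in
/-- an `L₂`-stable subspace of the fixed space of `z1` on which `z2` has only the eigenvalue 1 is zero -/
theorem Y_zero (hI : Irr O) (hn : 2 ≤ finrank K V) (Y : Submodule K V) (hY1 : ∀ v ∈ Y, O.z1 v = v)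
    (hYz : ∀ v ∈ Y, O.z2 v ∈ Y) (hYj : ∀ v ∈ Y, O.j v ∈ Y)
    (h : ∀ l : Fin 3, l ≠ 0 → ∀ v ∈ Y, O.z2 v = ω ^ l.val • v → v = 0) {v : V} (hv : v ∈ Y) : v = 0 := by
  have hz : ∀ v ∈ Y, O.z2 v = v := fun v hv =>
    fix_of_no_eigen hω.a hω.c (cube2 R) Y hYz h v hv
  exact no_fix R hω h3 T hI hn (hY1 v hv) (hz v hv) (j_fix_of_z2 R Y hz hYj v hv)

end fin

/-! ### the eigenspace of `z1` for `ω` -/

section omega

variable {l : Fin 3} (hl : ∀ v, O.z1 v = ω • v → O.t2 v = v → O.z2 v = ω ^ l.val • v → v = 0)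

include R hω h2 hl in
theorem jw_fix {v : V} (hv : O.z1 v = ω • v) (ht : O.t2 v = v) : O.j v = v := by
  refine j_fix R hω h2 (Ei O.z1 ω ⊓ Fi O.t2) ?_ ?_ (fun v hv => hv.2) l ?_ v ⟨hv, ht⟩
  · rintro w ⟨(w1 : O.z1 w = ω • w), (w2 : O.t2 w = w)⟩
    exact Submodule.mem_inf.2 ⟨by rw [mem_Ei, R.z1z2, w1, map_smul], by rw [mem_Fi, ← R.z2t2, w2]⟩
  · rintro w ⟨(w1 : O.z1 w = ω • w), (w2 : O.t2 w = w)⟩
    exact Submodule.mem_inf.2 ⟨by rw [mem_Ei, R.z1j, w1, map_smul], by rw [mem_Fi, R.t2j, w2]⟩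
  · rintro w ⟨w1, w2⟩ h
    exact hl w w1 w2 h

include R hω h2 hl in
/-- `t2 = -1` on the vectors fixed by `x` -/
theorem t2_neg {v : V} (hv : O.z1 v = ω • v) (hx : O.x v = v) : O.t2 v = -v := by
  set u := v + O.t2 v with hu
  have u1 : O.z1 u = ω • u := by rw [hu, map_add, R.z1t2, hv, map_smul, smul_add]
  have u2 : O.t2 u = u := by rw [hu, map_add, R.t2t2]; abel
  have u3 : O.x u = u := by rw [hu, map_add, R.xt2, hx, hx]
  have u4 := jw_fix R hω h2 hl u1 u2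
  have u5 : O.y u = u := by
    have e := R.jx u
    rw [u3, u4] at e
    have e' := congrArg O.y e
    rw [R.yyy] at e'
    exact e'
  have e := R.xy u
  rw [u5, u3, u1, map_smul, u5] at e
  have e2 : (1 - ω) • u = 0 := by rw [sub_smul, ← e, one_smul, sub_self]
  have e3 : u = 0 := (smul_eq_zero.1 e2).resolve_left (sub_ne_zero.2 (Ne.symm hω.b))
  rw [hu] at e3
  exact (neg_eq_of_add_eq_zero_right e3).symm

include R hω h2 hl in
theorem ju_fix {v : V} (hv : O.z1 v = ω • v) (hx : O.x v = v) :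
    O.j (O.y v - O.y (O.y v)) = O.y v - O.y (O.y v) := by
  have ht := t2_neg R hω h2 hl hv hx
  have e1 : O.t2 (O.y v) = -O.y (O.y v) := by rw [R.t2y, ht, map_neg, map_neg]
  apply jw_fix R hω h2 hl
  · rw [map_sub, R.z1y, R.z1y, R.z1y, hv, map_smul, map_smul, smul_sub]
  · rw [map_sub, e1, R.t2y, e1, map_neg, map_neg, R.yyy]
    abel

end omega

include R hω in
/-- the three-dimensional `Q`-submodule generated by `v` is stable under `j` -/
theorem jR {v : V} (hv : O.z1 v = ω • v) (hx : O.x v = v)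
    (hu : O.j (O.y v - O.y (O.y v)) = O.y v - O.y (O.y v)) {W : Submodule K V} (h0 : v ∈ W) (h1 : O.y v ∈ W)
    (h2 : O.y (O.y v) ∈ W) : O.j v ∈ W ∧ O.j (O.y v) ∈ W ∧ O.j (O.y (O.y v)) ∈ W := by
  have x1 : O.x (O.y v) = ω • O.y v := by rw [R.xy, hx, hv, map_smul]
  have x2 : O.x (O.y (O.y v)) = (ω ^ 2) • O.y (O.y v) := by
    rw [R.xy, x1, map_smul, R.z1y, hv, map_smul, map_smul, map_smul, smul_smul, pow_two]
  have e1 : O.j (O.y v) - O.j (O.y (O.y v)) = O.y v - O.y (O.y v) := by rw [← map_sub, hu]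
  have e2 : ω • O.j (O.y v) - (ω ^ 2) • O.j (O.y (O.y v)) = v - O.y v := by
    have e := R.jx (O.y v - O.y (O.y v))
    rw [hu, map_sub, x1, x2, map_sub, map_smul, map_smul, map_sub, map_sub, R.yyy] at e
    exact e
  have hc := hω.sub_ne
  have e3 : O.j (O.y v) = (ω - ω ^ 2)⁻¹ • (v - O.y v - (ω ^ 2) • (O.y v - O.y (O.y v))) := by
    rw [eq_inv_smul_iff₀ hc, ← e1, ← e2]; module
  have e4 : O.j (O.y (O.y v)) = (ω - ω ^ 2)⁻¹ • (v - O.y v - ω • (O.y v - O.y (O.y v))) := by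
    rw [eq_inv_smul_iff₀ hc, ← e1, ← e2]; module
  have e5 : O.j v = O.x (O.x (O.j (O.y v))) := by
    rw [R.jy, R.xxx]
  refine ⟨?_, ?_, ?_⟩
  · rw [e5, e3]
    simp only [map_smul, map_sub, hx, x1, x2]
    refine W.smul_mem _ (W.sub_mem (W.sub_mem h0 ?_) (W.smul_mem _ (W.sub_mem ?_ ?_)))
    · exact W.smul_mem _ (W.smul_mem _ h1)
    · exact W.smul_mem _ (W.smul_mem _ h1)
    · exact W.smul_mem _ (W.smul_mem _ h2)
  · rw [e3]
    exact W.smul_mem _ (W.sub_mem (W.sub_mem h0 h1) (W.smul_mem _ (W.sub_mem h1 h2)))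
  · rw [e4]
    exact W.smul_mem _ (W.sub_mem (W.sub_mem h0 h1) (W.smul_mem _ (W.sub_mem h1 h2)))

end Cfsg.Agent.H659.Sp4
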