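import Cfsg.Agent.H659.Sp4Ops
import Cfsg.Agent.H659.SevenU42

/-!
# The operators of a representation of `Sp₄(3)`
-/

set_option autoImplicit false

namespace Cfsg.Agent.H659.Sp4

open Module SevenU42

/-- `Sp₄(3)` -/
abbrev Sp := Matrix.symplecticGroup (Fin 2) (ZMod 3)

variable {K : Type*} [Field K] {V : Type*} [AddCommGroup V] [Module K V]

/-- the operators of a representation -/
def ops (ρ : Sp →* Module.End K V) : Ops K V where
  z1 := ρ (U 7 2)
  z2 := ρ (U 4 1)
  x := ρ (U 6 2)
  y := ρ (U 5 1)
  s := ρ sG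
  t1 := ρ hG
  t2 := ρ (jG * jG)
  j := ρ jG
  n := ρ nG

variable (ρ : Sp →* Module.End K V)

theorem e_of {a b : Sp} (h : a = b) (v : V) : ρ a v = ρ b v := by rw [h]

theorem e_one {a : Sp} (h : a = 1) (v : V) : ρ a v = v := by rw [h, map_one, Module.End.one_apply]

theorem rels : Rels (ops ρ) where
  z1z1z1 v := by simp only [ops, mul_app]; exact e_one ρ (Subtype.ext (by decide +kernel)) v
  z2z2z2 v := by simp only [ops, mul_app]; exact e_one ρ (Subtype.ext (by decide +kernel)) v
  xxx v := by simp only [ops, mul_app]; exact e_one ρ (Subtype.ext (by decide +kernel)) v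
  yyy v := by simp only [ops, mul_app]; exact e_one ρ (Subtype.ext (by decide +kernel)) v
  ss v := by simp only [ops, mul_app]; exact e_one ρ (Subtype.ext (by decide +kernel)) v
  t1t1 v := by simp only [ops, mul_app]; exact e_one ρ (Subtype.ext (by decide +kernel)) v
  t2t2 v := by simp only [ops, mul_app]; exact e_one ρ (Subtype.ext (by decide +kernel)) v
  t1t2 v := by simp only [ops, mul_app]; exact e_of ρ (Subtype.ext (by decide +kernel)) v
  jj v := by simp only [ops, mul_app]
  nn v := by simp only [ops, mul_app]; exact e_of ρ (Subtype.ext (by decide +kernel)) v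
  z1z2 v := by simp only [ops, mul_app]; exact e_of ρ (Subtype.ext (by decide +kernel)) v
  z1x v := by simp only [ops, mul_app]; exact e_of ρ (Subtype.ext (by decide +kernel)) v
  z2x v := by simp only [ops, mul_app]; exact e_of ρ (Subtype.ext (by decide +kernel)) v
  z1s v := by simp only [ops, mul_app]; exact e_of ρ (Subtype.ext (by decide +kernel)) v
  z2s v := by simp only [ops, mul_app]; exact e_of ρ (Subtype.ext (by decide +kernel)) v
  xs v := by simp only [ops, mul_app]; exact e_of ρ (Subtype.ext (by decide +kernel)) v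
  z1y v := by simp only [ops, mul_app]; exact e_of ρ (Subtype.ext (by decide +kernel)) v
  z2y v := by simp only [ops, mul_app]; exact e_of ρ (Subtype.ext (by decide +kernel)) v
  xy v := by simp only [ops, mul_app]; exact e_of ρ (Subtype.ext (by decide +kernel)) v
  z1t1 v := by simp only [ops, mul_app]; exact e_of ρ (Subtype.ext (by decide +kernel)) v
  z2t1 v := by simp only [ops, mul_app]; exact e_of ρ (Subtype.ext (by decide +kernel)) v
  xt1 v := by simp only [ops, mul_app]; exact e_of ρ (Subtype.ext (by decide +kernel)) v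
  z1t2 v := by simp only [ops, mul_app]; exact e_of ρ (Subtype.ext (by decide +kernel)) v
  z2t2 v := by simp only [ops, mul_app]; exact e_of ρ (Subtype.ext (by decide +kernel)) v
  xt2 v := by simp only [ops, mul_app]; exact e_of ρ (Subtype.ext (by decide +kernel)) v
  t1s v := by simp only [ops, mul_app]; exact e_of ρ (Subtype.ext (by decide +kernel)) v
  t2s v := by simp only [ops, mul_app]; exact e_of ρ (Subtype.ext (by decide +kernel)) v
  t1y v := by simp only [ops, mul_app]; exact e_of ρ (Subtype.ext (by decide +kernel)) v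
  t2y v := by simp only [ops, mul_app]; exact e_of ρ (Subtype.ext (by decide +kernel)) v
  z1j v := by simp only [ops, mul_app]; exact e_of ρ (Subtype.ext (by decide +kernel)) v
  t2j v := by simp only [ops, mul_app]; exact e_of ρ (Subtype.ext (by decide +kernel)) v
  t1j v := by simp only [ops, mul_app]; exact e_of ρ (Subtype.ext (by decide +kernel)) v
  jy v := by simp only [ops, mul_app]; exact e_of ρ (Subtype.ext (by decide +kernel)) v
  jx v := by simp only [ops, mul_app]; exact e_of ρ (Subtype.ext (by decide +kernel)) v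
  nz2 v := by simp only [ops, mul_app]; exact e_of ρ (Subtype.ext (by decide +kernel)) v
  nj v := by simp only [ops, mul_app]; exact e_of ρ (Subtype.ext (by decide +kernel)) v
  ysys v := by simp only [ops, mul_app]; exact e_of ρ (Subtype.ext (by decide +kernel)) v
  s_eq v := by simp only [ops, mul_app]; exact e_of ρ (Subtype.ext (by decide +kernel)) v
  sys v := by simp only [ops, mul_app]; exact e_of ρ (Subtype.ext (by decide +kernel)) v
  syys v := by simp only [ops, mul_app]; exact e_of ρ (Subtype.ext (by decide +kernel)) v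
  t2v v := by simp only [ops, mul_app]; exact e_of ρ (Subtype.ext (by decide +kernel)) v
  syy v := by simp only [ops, mul_app]; exact e_of ρ (Subtype.ext (by decide +kernel)) v
  sv v := by simp only [ops, mul_app]; exact e_of ρ (Subtype.ext (by decide +kernel)) v
  syv v := by simp only [ops, mul_app]; exact e_of ρ (Subtype.ext (by decide +kernel)) v
  zj3 v := by simp only [ops, mul_app]; exact e_of ρ (Subtype.ext (by decide +kernel)) v
  nz3 v := by simp only [ops, mul_app]; exact e_of ρ (Subtype.ext (by decide +kernel)) v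
  jp v := by simp only [ops, mul_app]; exact e_of ρ (Subtype.ext (by decide +kernel)) v
  pj v := by simp only [ops, mul_app]; exact e_of ρ (Subtype.ext (by decide +kernel)) v

/-- `Sp₄(3)` is generated by `y`, `s`, `j` -/
theorem gen_ysj (S : Subgroup Sp) (hy : U 5 1 ∈ S) (hs : sG ∈ S) (hj : jG ∈ S) : S = ⊤ := by
  have ex : U 6 2 = jG * U 5 1 * jG⁻¹ := by
    rw [eq_mul_inv_iff_mul_eq]; exact Subtype.ext (by decide +kernel)
  have hx : U 6 2 ∈ S := by rw [ex]; exact S.mul_mem (S.mul_mem hj hy) (S.inv_mem hj)
  have ez : U 7 2 = (U 5 1)⁻¹ * (U 6 2 * U 5 1 * (U 6 2)⁻¹) := by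
    rw [eq_inv_mul_iff_mul_eq, eq_mul_inv_iff_mul_eq]; exact Subtype.ext (by decide +kernel)
  have hz : U 7 2 ∈ S := by
    rw [ez]; exact S.mul_mem (S.inv_mem hy) (S.mul_mem (S.mul_mem hx hy) (S.inv_mem hx))
  have en : nG = sG * jG * sG := Subtype.ext (by decide +kernel)
  have hn : nG ∈ S := by rw [en]; exact S.mul_mem (S.mul_mem hs hj) hs
  exact gen S hz hx hy (S.mul_mem (S.mul_mem hn hz) (S.inv_mem hn)) (S.mul_mem (S.mul_mem hn hx) (S.inv_mem hn))
    (S.mul_mem (S.mul_mem hn hy) (S.inv_mem hn))

/-- a subspace invariant under `y`, `s`, `j` is invariant -/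
theorem inv_of_ysj [FiniteDimensional K V] (W : Submodule K V) (hy : ∀ v ∈ W, (ops ρ).y v ∈ W)
    (hs : ∀ v ∈ W, (ops ρ).s v ∈ W) (hj : ∀ v ∈ W, (ops ρ).j v ∈ W) (g : Sp) : ∀ v ∈ W, ρ g v ∈ W := by
  have key : ∀ g : Sp, (∀ v ∈ W, ρ g v ∈ W) → ∀ v ∈ W, ρ g⁻¹ v ∈ W := by
    intro g hg v hv
    have h1 : W.map (ρ g) = W := by
      apply Submodule.eq_of_le_of_finrank_eq
      · rintro _ ⟨w, hw, rfl⟩; exact hg w hw
      · exact (Submodule.equivMapOfInjective (ρ g) (H912.Bd.rho_injective ρ g) _).finrank_eq.symm
    rw [← h1] at hv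
    obtain ⟨w, hw, rfl⟩ := hv
    rw [mul_app, inv_mul_cancel, map_one, Module.End.one_apply]
    exact hw
  let S : Subgroup Sp :=
    { carrier := {g | ∀ v ∈ W, ρ g v ∈ W}
      mul_mem' := by
        intro a b ha hb v hv
        rw [← mul_app]
        exact ha _ (hb v hv)
      one_mem' := by
        intro v hv
        rw [map_one, Module.End.one_apply]; exact hv
      inv_mem' := by
        intro a ha
        exact key a ha }
  have hS := gen_ysj S hy hs hj
  have : g ∈ S := by rw [hS]; exact Subgroup.mem_top g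
  exact this

end Cfsg.Agent.H659.Sp4
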