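import Cfsg.Agent.H659.Sp4Core

/-!
# Irreducible representations of `Sp₄(3)` of degree ≤ 12 in characteristic ≠ 2, 3: the case analysis
-/

set_option autoImplicit false

namespace Cfsg.Agent.H659.Sp4

open Module Cfsg.Agent.H659.Triple

variable {K : Type*} [Field K] {V : Type*} [AddCommGroup V] [Module K V] {O : Ops K V} {ω : K} (R : Rels O)
  (hω : Om ω) (h2 : (2 : K) ≠ 0) (h3 : (3 : K) ≠ 0)

theorem om_one {v : V} : ω ^ (1 : Fin 3).val • v = ω • v := by
  change ω ^ 1 • v = ω • v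
  rw [pow_one]

theorem om_zero {v : V} : ω ^ (0 : Fin 3).val • v = v := by
  change ω ^ 0 • v = v
  rw [pow_zero, one_smul]

theorem om_two {v : V} : ω ^ (2 : Fin 3).val • v = ω ^ 2 • v := rfl

include R hω in
theorem W_y' {i j k j' k' : Fin 3} {v : V} (h : v ∈ O.W ω i j k) (hj : i + j + (k + k) = j') (hk : i + k = k') :
    O.y v ∈ O.W ω i j' k' := by
  rw [← hj, ← hk]
  exact W_y R hω h

include R hω in
theorem W_t2' {i j : Fin 3} {v : V} (h : v ∈ O.W ω i j 0) : O.t2 v ∈ O.W ω i j 0 :=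
  W_t2 (k := 0) R hω h

/-! ### the closing lemmas -/

include R hω in
/-- closing of type 6 -/
theorem close6 (hω2 : Om (ω ^ 2)) (h2 : (2 : K) ≠ 0) (hp : ∀ v, O.t1 (O.t2 v) = v)
    (hl : ∀ v, O.z1 v = ω • v → O.t2 v = v → O.z2 v = ω ^ (0 : Fin 3).val • v → v = 0)
    (hl' : ∀ v, O.z1 v = ω ^ 2 • v → O.t2 v = v → O.z2 v = (ω ^ 2) ^ (0 : Fin 3).val • v → v = 0)
    {v : V} (hv : v ∈ O.W ω 1 1 0) : ∃ W : Submodule K V, v ∈ W ∧ finrank K W ≤ 6 ∧ (∀ w ∈ W, O.y w ∈ W) ∧
      (∀ w ∈ W, O.s w ∈ W) ∧ (∀ w ∈ W, O.j w ∈ W) := by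
  have ht : ∀ v, O.t1 v = O.t2 v := fun v => by
    have := hp (O.t2 v)
    rwa [R.t2t2] at this
  set v' := O.y (O.s (O.y v)) with hv'
  have m1 : O.y v ∈ O.W ω 1 2 1 := W_y' R hω hv (by decide) (by decide)
  have m2 : O.s (O.y v) ∈ O.W ω 2 1 1 := W_s R m1
  have m3 : v' ∈ O.W ω 2 2 0 := W_y' R hω m2 (by decide) (by decide)
  rw [mem_W] at hv m3
  obtain ⟨a1, a2, a3⟩ := hv
  obtain ⟨b1, b2, b3⟩ := m3
  rw [om_one] at a1 a2
  rw [om_zero] at a3 b3
  rw [om_two] at b1 b2
  have tv : O.t2 v = -v := t2_neg R hω h2 hl a1 a3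
  have tv' : O.t2 v' = -v' := t2_neg R hω2 h2 hl' b1 b3
  have sv : O.s v = -v := by
    have e := R.t2v v
    rw [← hv', tv', hp] at e
    have e2 := congrArg (fun u => O.y (O.y (O.s (O.y (O.y u))))) e
    simp only [map_neg, R.yyy] at e2
    rw [hv'] at e2
    simp only [R.yyy, R.ss] at e2
    exact e2.symm
  have s1 : O.s (O.y v) = O.y (O.y v') := by rw [hv', R.yyy]
  have s2 : O.s (O.y (O.y v)) = O.y v' := by
    rw [R.syy, tv, map_neg, sv, neg_neg]
  have s3 : O.s v' = -v' := by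
    rw [hv', R.sv, tv, map_neg, map_neg, map_neg]
  have s4 : O.s (O.y v') = O.y (O.y v) := by
    rw [hv', R.syv, ht, tv, map_neg, sv, neg_neg]
  have s5 : O.s (O.y (O.y v')) = O.y v := by
    rw [← s1, R.ss]
  let S : Set V := {v, O.y v, O.y (O.y v), v', O.y v', O.y (O.y v')}
  have i0 : v ∈ Submodule.span K S := Submodule.subset_span (by simp [S])
  have i1 : O.y v ∈ Submodule.span K S := Submodule.subset_span (by simp [S])
  have i2 : O.y (O.y v) ∈ Submodule.span K S := Submodule.subset_span (by simp [S])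
  have i3 : v' ∈ Submodule.span K S := Submodule.subset_span (by simp [S])
  have i4 : O.y v' ∈ Submodule.span K S := Submodule.subset_span (by simp [S])
  have i5 : O.y (O.y v') ∈ Submodule.span K S := Submodule.subset_span (by simp [S])
  have key : ∀ T : Module.End K V, (∀ w ∈ S, T w ∈ Submodule.span K S) →
      ∀ w ∈ Submodule.span K S, T w ∈ Submodule.span K S := by
    intro T hT w hw
    have : Submodule.span K S ≤ (Submodule.span K S).comap T := Submodule.span_le.2 hT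
    exact this hw
  have j1 := jR R hω a1 a3 (ju_fix R hω h2 hl a1 a3) i0 i1 i2
  have j2 := jR R hω2 b1 b3 (ju_fix R hω2 h2 hl' b1 b3) i3 i4 i5
  refine ⟨Submodule.span K S, i0, ?_, ?_, ?_, ?_⟩
  · classical
    have hS : S = (({v, O.y v, O.y (O.y v), v', O.y v', O.y (O.y v')} : Finset V) : Set V) := by simp [S]
    rw [hS]
    refine (finrank_span_finset_le_card _).trans ?_
    exact Finset.card_le_six
  · refine key O.y ?_
    rintro w (rfl | rfl | rfl | rfl | rfl | rfl)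
    · exact i1
    · exact i2
    · rw [R.yyy]; exact i0
    · exact i4
    · exact i5
    · rw [R.yyy]; exact i3
  · refine key O.s ?_
    rintro w (rfl | rfl | rfl | rfl | rfl | rfl)
    · rw [sv]; exact neg_mem i0
    · rw [s1]; exact i5
    · rw [s2]; exact i4
    · rw [s3]; exact neg_mem i3
    · rw [s4]; exact i2
    · rw [s5]; exact i1
  · refine key O.j ?_
    rintro w (rfl | rfl | rfl | rfl | rfl | rfl)
    · exact j1.1
    · exact j1.2.1
    · exact j1.2.2
    · exact j2.1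
    · exact j2.2.1
    · exact j2.2.2

include R hω in
/-- closing of type 4 -/
theorem close4 (h2 : (2 : K) ≠ 0) (hm : ∀ v, O.t1 (O.t2 v) = -v) {l : Fin 3}
    (hl : ∀ v, O.z1 v = ω • v → O.t2 v = v → O.z2 v = ω ^ l.val • v → v = 0)
    {m : V} (hv : m ∈ O.W ω 0 1 0) (hy : O.y m = m) (hj : O.j m = m) :
    ∃ W : Submodule K V, m ∈ W ∧ finrank K W ≤ 4 ∧ (∀ w ∈ W, O.y w ∈ W) ∧
      (∀ w ∈ W, O.s w ∈ W) ∧ (∀ w ∈ W, O.j w ∈ W) := by
  have tm : O.t2 m = m := by rw [← R.jj, hj, hj]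
  have tm1 : O.t1 m = -m := by
    have := hm m
    rwa [tm] at this
  have m1 : O.s m ∈ O.W ω 1 0 0 := W_s R hv
  rw [mem_W] at m1
  obtain ⟨b1, b2, b3⟩ := m1
  rw [om_one] at b1
  rw [om_zero] at b2 b3
  have s1 : O.s (O.y (O.s m)) = O.y (O.s m) := by rw [R.sys, hy, tm]
  have s2 : O.s (O.y (O.y (O.s m))) = -O.y (O.y (O.s m)) := by
    rw [R.syys, tm1, map_neg, hy, map_neg, map_neg, map_neg]
  let S : Set V := {m, O.s m, O.y (O.s m), O.y (O.y (O.s m))}
  have i0 : m ∈ Submodule.span K S := Submodule.subset_span (by simp [S])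
  have i1 : O.s m ∈ Submodule.span K S := Submodule.subset_span (by simp [S])
  have i2 : O.y (O.s m) ∈ Submodule.span K S := Submodule.subset_span (by simp [S])
  have i3 : O.y (O.y (O.s m)) ∈ Submodule.span K S := Submodule.subset_span (by simp [S])
  have key : ∀ T : Module.End K V, (∀ w ∈ S, T w ∈ Submodule.span K S) →
      ∀ w ∈ Submodule.span K S, T w ∈ Submodule.span K S := by
    intro T hT w hw
    have : Submodule.span K S ≤ (Submodule.span K S).comap T := Submodule.span_le.2 hT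
    exact this hw
  have j1 := jR R hω b1 b3 (ju_fix R hω h2 hl b1 b3) i1 i2 i3
  refine ⟨Submodule.span K S, i0, ?_, ?_, ?_, ?_⟩
  · classical
    have hS : S = (({m, O.s m, O.y (O.s m), O.y (O.y (O.s m))} : Finset V) : Set V) := by simp [S]
    rw [hS]
    refine (finrank_span_finset_le_card _).trans ?_
    exact Finset.card_le_four
  · refine key O.y ?_
    rintro w (rfl | rfl | rfl | rfl)
    · rw [hy]; exact i0
    · exact i2
    · exact i3
    · rw [R.yyy]; exact i1
  · refine key O.s ?_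
    rintro w (rfl | rfl | rfl | rfl)
    · exact i1
    · rw [R.ss]; exact i0
    · rw [s1]; exact i2
    · rw [s2]; exact neg_mem i3
  · refine key O.j ?_
    rintro w (rfl | rfl | rfl | rfl)
    · rw [hj]; exact i0
    · exact j1.1
    · exact j1.2.1
    · exact j1.2.2

theorem finrank_le_of_irr [FiniteDimensional K V] (hI : Irr O) {v : V} (hv : v ≠ 0) {N : ℕ}
    (h : ∃ W : Submodule K V, v ∈ W ∧ finrank K W ≤ N ∧ (∀ w ∈ W, O.y w ∈ W) ∧
      (∀ w ∈ W, O.s w ∈ W) ∧ (∀ w ∈ W, O.j w ∈ W)) : finrank K V ≤ N := by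
  obtain ⟨W, h1, h2, h3, h4, h5⟩ := h
  rcases hI W h3 h4 h5 with h | h
  · rw [h] at h1
    exact absurd ((Submodule.mem_bot K).1 h1) hv
  · rw [h, finrank_top] at h2
    exact h2

/-! ### dimensions -/

section dims

variable [FiniteDimensional K V]

include R hω h2 in
theorem two_mul_le (Y Z : Submodule K V) (hYj : ∀ v ∈ Y, O.j v ∈ Y) (ht : ∀ v ∈ Y, O.t2 v = -v) (hZ : Z ≤ Y)
    {l : Fin 3} (hZl : ∀ v ∈ Z, O.z2 v = ω ^ l.val • v) : 2 * finrank K Z ≤ finrank K Y := by
  have hinj : Function.Injective O.j := Function.LeftInverse.injective (g := O.j * O.j * O.j) (j4 R)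
  have e1 : finrank K (Z.map O.j) = finrank K Z :=
    (Submodule.equivMapOfInjective O.j hinj _).finrank_eq.symm
  have e2 : Z ⊓ Z.map O.j = ⊥ := by
    rw [eq_bot_iff]
    rintro v ⟨hv, w, hw, rfl⟩
    have h0 : w = 0 := j_move R hω h2 (ht w (hZ hw)) (hZl w hw) (hZl _ hv)
    rw [h0, map_zero]
    exact Submodule.zero_mem _
  have e3 := Submodule.finrank_sup_add_finrank_inf_eq Z (Z.map O.j)
  rw [e2, finrank_bot, e1] at e3
  have e4 : Z ⊔ Z.map O.j ≤ Y := by
    refine sup_le hZ ?_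
    rintro _ ⟨w, hw, rfl⟩
    exact hYj w (hZ hw)
  have e5 := Submodule.finrank_mono e4
  omega

include R h2 in
theorem even_of (Y : Submodule K V) (hYj : ∀ v ∈ Y, O.j v ∈ Y) (hYz : ∀ v ∈ Y, O.z2 v ∈ Y)
    (ht : ∀ v ∈ Y, O.t2 v = -v) : Even (finrank K Y) := by
  let J : Module.End K Y := O.j.restrict hYj
  let Z : Module.End K Y := O.z2.restrict hYz
  let J' : Module.End K Y := Z * J * Z * Z
  have e1 : J' * J = -(J * J') := by
    apply LinearMap.ext
    intro v
    apply Subtype.ext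
    change O.z2 (O.j (O.z2 (O.z2 (O.j v)))) = -(O.j (O.z2 (O.j (O.z2 (O.z2 v)))))
    rw [R.pj, R.jp, ht _ (hYz _ (hYz _ (hYj _ (hYz _ v.2))))]
  have e2 := congrArg LinearMap.det e1
  rw [← neg_one_smul K, LinearMap.det_smul, map_mul LinearMap.det J' J, map_mul LinearMap.det J J',
    mul_comm (LinearMap.det J)] at e2
  have hJ : LinearMap.det J ≠ 0 := by
    have h1 : J * J = -1 := by
      apply LinearMap.ext
      intro v
      apply Subtype.ext
      change O.j (O.j v) = -v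
      rw [R.jj, ht _ v.2]
    have h4 := congrArg LinearMap.det h1
    rw [map_mul, ← neg_one_smul K, LinearMap.det_smul, map_one, mul_one] at h4
    intro h0
    rw [h0, zero_mul] at h4
    exact pow_ne_zero _ (neg_ne_zero.2 one_ne_zero) h4.symm
  have hZ : LinearMap.det Z ≠ 0 := by
    have h1 : Z * Z * Z = 1 := by
      apply LinearMap.ext
      intro v
      apply Subtype.ext
      change O.z2 (O.z2 (O.z2 v)) = v
      rw [R.z2z2z2]
    have h4 := congrArg LinearMap.det h1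
    rw [map_mul, map_mul, map_one] at h4
    intro h0
    rw [h0, zero_mul, zero_mul] at h4
    exact zero_ne_one h4
  have hJ' : LinearMap.det J' ≠ 0 := by
    change LinearMap.det (Z * J * Z * Z) ≠ 0
    rw [map_mul, map_mul, map_mul]
    exact mul_ne_zero (mul_ne_zero (mul_ne_zero hZ hJ) hZ) hZ
  by_contra hodd
  rw [Nat.not_even_iff_odd] at hodd
  rw [hodd.neg_one_pow] at e2
  have e3 : LinearMap.det J' * LinearMap.det J = 0 := eq_zero_of_neg (K := K) h2 (by rw [← neg_one_mul]; exact e2)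
  exact (mul_ne_zero hJ' hJ) e3

variable {m0 a b c : ℕ} (T : Ty O ω m0 a b c 0)

include R hω h3 T in
theorem X_le : Fi O.z1 ≤ O.W ω 0 0 0 ⊔ O.W ω 0 1 0 ⊔ O.W ω 0 2 0 := by
  intro v hv
  refine decomp hω h3 (T := O.z2) R.z2z2z2 (Fi O.z1) _ ?_ ?_ hv
  · intro w w1
    rw [mem_Fi] at w1 ⊢
    rw [R.z1z2, w1]
  · intro l w w1 hl
    have := mem_W_X R hω h3 T w1 hl
    fin_cases l
    · exact Submodule.mem_sup_left (Submodule.mem_sup_left this)
    · exact Submodule.mem_sup_left (Submodule.mem_sup_right this)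
    · exact Submodule.mem_sup_right this

omit [FiniteDimensional K V] in
theorem W_le_X (l k : Fin 3) : O.W ω 0 l k ≤ Fi O.z1 := by
  intro v hv
  rw [mem_W, om_zero] at hv
  exact hv.1

include R hω h3 T in
theorem finrank_X : finrank K (Fi O.z1) = m0 + a + b := by
  apply le_antisymm
  · refine (Submodule.finrank_mono (X_le R hω h3 T)).trans ?_
    refine (Submodule.finrank_add_le_finrank_add_finrank _ _).trans ?_
    have h4 := Submodule.finrank_add_le_finrank_add_finrank (O.W ω 0 0 0) (O.W ω 0 1 0)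
    have d0 : finrank K (O.W ω 0 0 0) = m0 := T.dim 0 0 0
    have d1 : finrank K (O.W ω 0 1 0) = a := T.dim 0 1 0
    have d2 : finrank K (O.W ω 0 2 0) = b := T.dim 0 2 0
    omega
  · have hinj : Function.Injective (fun l : Fin 3 => ((0 : Fin 3), l, (0 : Fin 3))) := by
      intro a b hab
      simpa using hab
    have hs := SevenU42.sum_finrank_le_of_le ((indep_W R hω h3).comp hinj) (Fi O.z1) (fun l => W_le_X l 0)
    rw [Fin.sum_univ_three] at hs
    have d0 : finrank K (O.W ω 0 0 0) = m0 := T.dim 0 0 0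
    have d1 : finrank K (O.W ω 0 1 0) = a := T.dim 0 1 0
    have d2 : finrank K (O.W ω 0 2 0) = b := T.dim 0 2 0
    rw [← d0, ← d1, ← d2]
    exact hs

include R hω h3 T in
/-- a missing weight of `z2` on the eigenspace of `z1` -/
theorem absent {i l : Fin 3} (h : ∀ k, ![m0, a, b, c, 0] (cls i l k) = 0) {v : V} (hv : O.z1 v = ω ^ i.val • v)
    (hl : O.z2 v = ω ^ l.val • v) : v = 0 := by
  have : v ∈ (⊥ : Submodule K V) := by
    refine decomp hω h3 (T := O.x) R.xxx (Ei O.z1 (ω ^ i.val) ⊓ Ei O.z2 (ω ^ l.val)) ⊥ ?_ ?_ ⟨hv, hl⟩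
    · rintro u ⟨(u1 : O.z1 u = ω ^ i.val • u), (u2 : O.z2 u = ω ^ l.val • u)⟩
      exact Submodule.mem_inf.2 ⟨by rw [mem_Ei, R.z1x, u1, map_smul], by rw [mem_Ei, R.z2x, u2, map_smul]⟩
    · rintro k u ⟨(u1 : O.z1 u = ω ^ i.val • u), (u2 : O.z2 u = ω ^ l.val • u)⟩ hk
      rw [Submodule.mem_bot]
      exact T.eq_zero (h k) (mem_W.2 ⟨u1, u2, hk⟩)
  exact (Submodule.mem_bot K).1 this

end dims

end Cfsg.Agent.H659.Sp4
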