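import Cfsg.Agent.H659.SevenU42Core

/-!
# Representations of `Sp₄(3)` in characteristic ≠ 2, 3: operators and weights

`Ops` : nine operators, `Rels` : relations between them (relations of `Sp₄(3)`), `W` : weight spaces of the normal
subgroup `3³` of a parabolic subgroup.
-/

set_option autoImplicit false

namespace Cfsg.Agent.H659.Sp4

open Module Cfsg.Agent.H659.Triple

/-- the operators -/
structure Ops (K : Type*) [Field K] (V : Type*) [AddCommGroup V] [Module K V] where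
  z1 : Module.End K V
  z2 : Module.End K V
  x : Module.End K V
  y : Module.End K V
  s : Module.End K V
  t1 : Module.End K V
  t2 : Module.End K V
  j : Module.End K V
  n : Module.End K V

variable {K : Type*} [Field K] {V : Type*} [AddCommGroup V] [Module K V]

/-- the relations -/
structure Rels (O : Ops K V) : Prop where
  z1z1z1 : ∀ v, O.z1 (O.z1 (O.z1 v)) = v
  z2z2z2 : ∀ v, O.z2 (O.z2 (O.z2 v)) = v
  xxx : ∀ v, O.x (O.x (O.x v)) = v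
  yyy : ∀ v, O.y (O.y (O.y v)) = v
  ss : ∀ v, O.s (O.s v) = v
  t1t1 : ∀ v, O.t1 (O.t1 v) = v
  t2t2 : ∀ v, O.t2 (O.t2 v) = v
  t1t2 : ∀ v, O.t1 (O.t2 v) = O.t2 (O.t1 v)
  jj : ∀ v, O.j (O.j v) = O.t2 v
  nn : ∀ v, O.n (O.n v) = O.t1 v
  z1z2 : ∀ v, O.z1 (O.z2 v) = O.z2 (O.z1 v)
  z1x : ∀ v, O.z1 (O.x v) = O.x (O.z1 v)
  z2x : ∀ v, O.z2 (O.x v) = O.x (O.z2 v)
  z1s : ∀ v, O.z1 (O.s v) = O.s (O.z2 v)
  z2s : ∀ v, O.z2 (O.s v) = O.s (O.z1 v)
  xs : ∀ v, O.x (O.s v) = O.s (O.x v)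
  z1y : ∀ v, O.z1 (O.y v) = O.y (O.z1 v)
  z2y : ∀ v, O.z2 (O.y v) = O.y (O.z1 (O.z2 (O.x (O.x v))))
  xy : ∀ v, O.x (O.y v) = O.y (O.z1 (O.x v))
  z1t1 : ∀ v, O.z1 (O.t1 v) = O.t1 (O.z1 v)
  z2t1 : ∀ v, O.z2 (O.t1 v) = O.t1 (O.z2 v)
  xt1 : ∀ v, O.x (O.t1 v) = O.t1 (O.x (O.x v))
  z1t2 : ∀ v, O.z1 (O.t2 v) = O.t2 (O.z1 v)
  z2t2 : ∀ v, O.z2 (O.t2 v) = O.t2 (O.z2 v)
  xt2 : ∀ v, O.x (O.t2 v) = O.t2 (O.x (O.x v))
  t1s : ∀ v, O.t1 (O.s v) = O.s (O.t2 v)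
  t2s : ∀ v, O.t2 (O.s v) = O.s (O.t1 v)
  t1y : ∀ v, O.t1 (O.y v) = O.y (O.y (O.t1 v))
  t2y : ∀ v, O.t2 (O.y v) = O.y (O.y (O.t2 v))
  z1j : ∀ v, O.z1 (O.j v) = O.j (O.z1 v)
  t2j : ∀ v, O.t2 (O.j v) = O.j (O.t2 v)
  t1j : ∀ v, O.t1 (O.j v) = O.j (O.t1 v)
  jy : ∀ v, O.j (O.y v) = O.x (O.j v)
  jx : ∀ v, O.j (O.x v) = O.y (O.y (O.j v))
  nz2 : ∀ v, O.n (O.z2 v) = O.z2 (O.n v)
  nj : ∀ v, O.n (O.j v) = O.j (O.n v)
  ysys : ∀ v, O.y (O.s (O.y (O.s (O.y (O.s (O.y (O.s v))))))) = O.t1 (O.t2 v)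
  s_eq : ∀ v, O.s v = O.y (O.y (O.s (O.y (O.s (O.t2 (O.y v))))))
  sys : ∀ v, O.s (O.y (O.s v)) = O.y (O.s (O.t2 (O.y v)))
  syys : ∀ v, O.s (O.y (O.y (O.s v))) = O.y (O.y (O.s (O.y (O.t1 v))))
  t2v : ∀ v, O.t2 (O.y (O.s (O.y v))) = O.y (O.s (O.y (O.s (O.t1 (O.t2 v)))))
  syy : ∀ v, O.s (O.y (O.y v)) = O.y (O.y (O.s (O.y (O.s (O.t2 v)))))
  sv : ∀ v, O.s (O.y (O.s (O.y v))) = O.y (O.s (O.y (O.t2 v)))
  syv : ∀ v, O.s (O.y (O.y (O.s (O.y v)))) = O.y (O.y (O.s (O.t1 v)))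
  zj3 : ∀ v, O.z2 (O.j (O.z2 (O.j (O.z2 (O.j v))))) = O.t2 v
  nz3 : ∀ v, O.n (O.z1 (O.n (O.z1 (O.n (O.z1 v))))) = O.t1 v
  jp : ∀ v, O.j (O.z2 (O.j (O.z2 (O.z2 v)))) = O.z2 (O.z2 (O.j (O.z2 v)))
  pj : ∀ v, O.z2 (O.j (O.z2 (O.z2 (O.j v)))) = O.t2 (O.z2 (O.z2 (O.j (O.z2 v))))

/-- a primitive cube root of unity -/
structure Om (ω : K) : Prop where
  a : ω ^ 2 + ω + 1 = 0
  b : ω ≠ 1
  c : ω ^ 3 = 1

theorem Om.ne_zero {ω : K} (h : Om ω) : ω ≠ 0 := by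
  rintro rfl
  have := h.a
  norm_num at this

theorem Om.sq {ω : K} (h : Om ω) : Om (ω ^ 2) where
  a := by linear_combination h.a + (ω) * h.c
  b := by
    intro h2
    apply h.b
    have := h.c
    linear_combination h.c - ω * h2
  c := by
    linear_combination (ω ^ 3 + 1) * h.c

theorem Om.sq_sq {ω : K} (h : Om ω) : (ω ^ 2) ^ 2 = ω := by linear_combination ω * h.c

theorem Om.sub_ne {ω : K} (h : Om ω) : ω - ω ^ 2 ≠ 0 := by
  intro h0
  have : ω * (1 - ω) = 0 := by linear_combination h0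
  rcases mul_eq_zero.1 this with h4 | h4
  · exact h.ne_zero h4
  · exact h.b (sub_eq_zero.1 h4).symm

section lin

variable {ω : K} (hω : Om ω) (h3 : (3 : K) ≠ 0)

include hω in
theorem pow_two_fin (a : Fin 3) : ω ^ a.val * ω ^ (2 * a.val) = 1 := by
  rw [← pow_add, show a.val + 2 * a.val = 3 * a.val by ring, pow_mul, hω.c, one_pow]

theorem pow_four_fin (a : Fin 3) : ω ^ a.val * ω ^ a.val = ω ^ (2 * a.val) := by
  rw [← pow_add, two_mul]

/-- the projection on an eigenspace, up to the factor 3 -/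
def pr (ω : K) (T : Module.End K V) (a : Fin 3) (v : V) : V := v + ω ^ (2 * a.val) • T v + ω ^ a.val • T (T v)

include hω in
theorem pr_eig {T : Module.End K V} (hT : ∀ v, T (T (T v)) = v) (a : Fin 3) (v : V) :
    T (pr ω T a v) = ω ^ a.val • pr ω T a v := by
  unfold pr
  rw [map_add, map_add, map_smul, map_smul, hT, smul_add, smul_add, smul_smul, smul_smul, pow_two_fin hω,
    pow_four_fin, one_smul]
  abel

include hω in
theorem pr_sum (T : Module.End K V) (v : V) : pr ω T 0 v + pr ω T 1 v + pr ω T 2 v = (3 : K) • v := by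
  unfold pr
  have e1 : (1 : K) + ω ^ 2 + ω ^ 4 = 0 := by linear_combination hω.a + ω * hω.c
  have e2 : (1 : K) + ω + ω ^ 2 = 0 := by linear_combination hω.a
  have e3 : (1 : K) • T v + ω ^ 2 • T v + ω ^ 4 • T v = 0 := by rw [← add_smul, ← add_smul, e1, zero_smul]
  have e4 : (1 : K) • T (T v) + ω • T (T v) + ω ^ 2 • T (T v) = 0 := by rw [← add_smul, ← add_smul, e2, zero_smul]
  have e5 : (v + ω ^ (2 * (0 : Fin 3).val) • T v + ω ^ (0 : Fin 3).val • T (T v)) +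
      (v + ω ^ (2 * (1 : Fin 3).val) • T v + ω ^ (1 : Fin 3).val • T (T v)) +
      (v + ω ^ (2 * (2 : Fin 3).val) • T v + ω ^ (2 : Fin 3).val • T (T v)) =
      (v + v + v) + ((1 : K) • T v + ω ^ 2 • T v + ω ^ 4 • T v) +
        ((1 : K) • T (T v) + ω • T (T v) + ω ^ 2 • T (T v)) := by
    change (v + ω ^ 0 • T v + ω ^ 0 • T (T v)) + (v + ω ^ 2 • T v + ω ^ 1 • T (T v)) +
      (v + ω ^ 4 • T v + ω ^ 2 • T (T v)) = _
    rw [pow_zero, pow_one]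
    abel
  rw [e5, e3, e4, add_zero, add_zero]
  rw [show (3 : K) = 1 + 1 + 1 by norm_num, add_smul, add_smul, one_smul]

include hω h3 in
/-- decomposition into eigenvectors inside a stable subspace -/
theorem decomp {T : Module.End K V} (hT : ∀ v, T (T (T v)) = v) (D S : Submodule K V) (hD : ∀ v ∈ D, T v ∈ D)
    (h : ∀ a : Fin 3, ∀ v ∈ D, T v = ω ^ a.val • v → v ∈ S) {v : V} (hv : v ∈ D) : v ∈ S := by
  have key : ∀ a, pr ω T a v ∈ S := fun a => h a _ (by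
    unfold pr
    exact D.add_mem (D.add_mem hv (D.smul_mem _ (hD _ hv))) (D.smul_mem _ (hD _ (hD _ hv)))) (pr_eig hω hT a v)
  have h5 : (3 : K) • v ∈ S := by
    rw [← pr_sum hω T v]
    exact S.add_mem (S.add_mem (key 0) (key 1)) (key 2)
  have h6 := S.smul_mem (3 : K)⁻¹ h5
  rwa [smul_smul, inv_mul_cancel₀ h3, one_smul] at h6

end lin

namespace Ops

/-- the weight spaces -/
def W (O : Ops K V) (ω : K) (i j k : Fin 3) : Submodule K V := E3 O.z1 O.z2 O.x ω (i, j, k)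

end Ops

variable {O : Ops K V} {ω : K}

theorem mem_W {i j k : Fin 3} {v : V} :
    v ∈ O.W ω i j k ↔ O.z1 v = ω ^ i.val • v ∧ O.z2 v = ω ^ j.val • v ∧ O.x v = ω ^ k.val • v := mem_E3

theorem pow_add_self (hω : Om ω) (a : Fin 3) : ω ^ (a + a).val = (ω ^ 2) ^ a.val := by
  rw [pow_add_fin hω.c, ← pow_mul, ← pow_add, two_mul]

theorem W_sq (hω : Om ω) (i j k : Fin 3) : O.W (ω ^ 2) i j k = O.W ω (i + i) (j + j) (k + k) := by
  ext v
  rw [mem_W, mem_W, pow_add_self hω, pow_add_self hω, pow_add_self hω]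

variable (R : Rels O)

include R in
theorem W_s {i j k : Fin 3} {v : V} (h : v ∈ O.W ω i j k) : O.s v ∈ O.W ω j i k := by
  rw [mem_W] at h ⊢
  obtain ⟨e1, e2, e3⟩ := h
  exact ⟨by rw [R.z1s, e2, map_smul], by rw [R.z2s, e1, map_smul], by rw [R.xs, e3, map_smul]⟩

include R in
theorem W_t1 (hω : Om ω) {i j k : Fin 3} {v : V} (h : v ∈ O.W ω i j k) : O.t1 v ∈ O.W ω i j (k + k) := by
  rw [mem_W] at h ⊢
  obtain ⟨e1, e2, e3⟩ := h
  refine ⟨by rw [R.z1t1, e1, map_smul], by rw [R.z2t1, e2, map_smul], ?_⟩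
  rw [R.xt1, e3, map_smul, e3, smul_smul, map_smul, pow_add_fin hω.c]

include R in
theorem W_t2 (hω : Om ω) {i j k : Fin 3} {v : V} (h : v ∈ O.W ω i j k) : O.t2 v ∈ O.W ω i j (k + k) := by
  rw [mem_W] at h ⊢
  obtain ⟨e1, e2, e3⟩ := h
  refine ⟨by rw [R.z1t2, e1, map_smul], by rw [R.z2t2, e2, map_smul], ?_⟩
  rw [R.xt2, e3, map_smul, e3, smul_smul, map_smul, pow_add_fin hω.c]

include R in
theorem W_y (hω : Om ω) {i j k : Fin 3} {v : V} (h : v ∈ O.W ω i j k) :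
    O.y v ∈ O.W ω i (i + j + (k + k)) (i + k) := by
  rw [mem_W] at h ⊢
  obtain ⟨e1, e2, e3⟩ := h
  refine ⟨by rw [R.z1y, e1, map_smul], ?_, ?_⟩
  · rw [R.z2y]
    simp only [map_smul, e2, e1, e3, smul_smul, pow_add_fin hω.c]
    congr 1
    ring
  · rw [R.xy]
    simp only [map_smul, e1, e3, smul_smul, pow_add_fin hω.c]
    congr 1
    ring

include R in
theorem comm12 : O.z1 * O.z2 = O.z2 * O.z1 := LinearMap.ext R.z1z2
include R in
theorem comm13 : O.z1 * O.x = O.x * O.z1 := LinearMap.ext R.z1x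
include R in
theorem comm23 : O.z2 * O.x = O.x * O.z2 := LinearMap.ext R.z2x
include R in
theorem cube1 : O.z1 ^ 3 = 1 := by
  rw [pow_succ, pow_two]; exact LinearMap.ext R.z1z1z1
include R in
theorem cube2 : O.z2 ^ 3 = 1 := by
  rw [pow_succ, pow_two]; exact LinearMap.ext R.z2z2z2
include R in
theorem cube3 : O.x ^ 3 = 1 := by
  rw [pow_succ, pow_two]; exact LinearMap.ext R.xxx

section dims

variable [FiniteDimensional K V]

include R in
theorem sum_W [IsAlgClosed K] (hω : Om ω) (h3 : (3 : K) ≠ 0) :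
    ∑ t : Fin 3 × Fin 3 × Fin 3, finrank K (O.W ω t.1 t.2.1 t.2.2) = finrank K V :=
  sum_E3 (comm12 R) (comm13 R) (comm23 R) (cube1 R) (cube2 R) (cube3 R) h3 hω.a hω.b hω.c

include R in
theorem indep_W (hω : Om ω) (h3 : (3 : K) ≠ 0) :
    iSupIndep fun t : Fin 3 × Fin 3 × Fin 3 => O.W ω t.1 t.2.1 t.2.2 :=
  indep_E3 (comm12 R) (comm13 R) (comm23 R) (cube1 R) (cube2 R) (cube3 R) h3 hω.a hω.b hω.c

theorem finrank_le_of_inj {T T' : Module.End K V} (hT : ∀ v, T' (T v) = v) {P Q : Submodule K V}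
    (h : ∀ v ∈ P, T v ∈ Q) : finrank K P ≤ finrank K Q := by
  have hi : Function.Injective T := Function.LeftInverse.injective hT
  have h1 : P.map T ≤ Q := by
    rintro _ ⟨v, hv, rfl⟩
    exact h v hv
  refine le_trans (le_of_eq ?_) (Submodule.finrank_mono h1)
  exact (Submodule.equivMapOfInjective T hi _).finrank_eq

/-- the five classes of weights: `(0,0,0)`, `(0,1,0)`, `(0,2,0)`, `(1,1,0)`, `(0,0,1)` -/
def cls (i j k : Fin 3) : Fin 5 :=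
  if k * k + 2 * (i * j) = 1 then 4 else if k * k + 2 * (i * j) = 2 then 3 else
    if i = 0 ∧ j = 0 then 0 else if i = 1 ∨ j = 1 then 1 else 2

theorem orbits (m : Fin 3 → Fin 3 → Fin 3 → ℕ) (hs : ∀ i j k, m i j k ≤ m j i k) (hh : ∀ i j k, m i j k ≤ m i j (k + k))
    (hy : ∀ i j k, m i j k ≤ m i (i + j + (k + k)) (i + k)) :
    ∀ i j k, m i j k = ![m 0 0 0, m 0 1 0, m 0 2 0, m 1 1 0, m 0 0 1] (cls i j k) := by
  have hs' : ∀ i j k, m i j k = m j i k := fun i j k => le_antisymm (hs i j k) (hs j i k)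
  have hh' : ∀ i j k, m i j k = m i j (k + k) := by
    intro i j k
    refine le_antisymm (hh i j k) ((hh i j (k + k)).trans (le_of_eq ?_))
    rw [SevenU42.fin1]
  have hy' : ∀ i j k, m i j k = m i (i + j + (k + k)) (i + k) := by
    intro i j k
    refine le_antisymm (hy i j k) ((hy _ _ _).trans ((hy _ _ _).trans (le_of_eq ?_)))
    rw [SevenU42.fin2, SevenU42.fin3]
  have a1 : m 0 1 0 = m 1 0 0 := hs' 0 1 0
  have a2 : m 0 1 1 = m 1 0 1 := hs' 0 1 1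
  have a3 : m 0 1 2 = m 1 0 2 := hs' 0 1 2
  have a4 : m 0 2 0 = m 2 0 0 := hs' 0 2 0
  have a5 : m 0 2 1 = m 2 0 1 := hs' 0 2 1
  have a6 : m 0 2 2 = m 2 0 2 := hs' 0 2 2
  have a7 : m 1 2 0 = m 2 1 0 := hs' 1 2 0
  have a8 : m 1 2 1 = m 2 1 1 := hs' 1 2 1
  have a9 : m 1 2 2 = m 2 1 2 := hs' 1 2 2
  have b1 : m 0 0 1 = m 0 0 2 := hh' 0 0 1
  have b2 : m 0 1 1 = m 0 1 2 := hh' 0 1 1
  have b3 : m 0 2 1 = m 0 2 2 := hh' 0 2 1
  have b4 : m 1 0 1 = m 1 0 2 := hh' 1 0 1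
  have b5 : m 1 1 1 = m 1 1 2 := hh' 1 1 1
  have b6 : m 1 2 1 = m 1 2 2 := hh' 1 2 1
  have b7 : m 2 0 1 = m 2 0 2 := hh' 2 0 1
  have b8 : m 2 1 1 = m 2 1 2 := hh' 2 1 1
  have b9 : m 2 2 1 = m 2 2 2 := hh' 2 2 1
  have c1 : m 0 0 1 = m 0 2 1 := hy' 0 0 1
  have c2 : m 0 1 1 = m 0 0 1 := hy' 0 1 1
  have c5 : m 1 0 0 = m 1 1 1 := hy' 1 0 0
  have c6 : m 1 0 1 = m 1 0 2 := hy' 1 0 1
  have c7 : m 1 0 2 = m 1 2 0 := hy' 1 0 2
  have c8 : m 1 1 0 = m 1 2 1 := hy' 1 1 0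
  have c14 : m 2 0 0 = m 2 2 2 := hy' 2 0 0
  have c15 : m 2 0 1 = m 2 1 0 := hy' 2 0 1
  have c17 : m 2 1 0 = m 2 0 2 := hy' 2 1 0
  have c18 : m 2 1 1 = m 2 2 0 := hy' 2 1 1
  intro i j k
  fin_cases i <;> fin_cases j <;> fin_cases k
  · rfl
  · rfl
  · change m 0 0 2 = m 0 0 1; omega
  · rfl
  · change m 0 1 1 = m 0 0 1; omega
  · change m 0 1 2 = m 0 0 1; omega
  · rfl
  · change m 0 2 1 = m 0 0 1; omega
  · change m 0 2 2 = m 0 0 1; omega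
  · change m 1 0 0 = m 0 1 0; omega
  · change m 1 0 1 = m 0 0 1; omega
  · change m 1 0 2 = m 0 0 1; omega
  · rfl
  · change m 1 1 1 = m 0 1 0; omega
  · change m 1 1 2 = m 0 1 0; omega
  · change m 1 2 0 = m 0 0 1; omega
  · change m 1 2 1 = m 1 1 0; omega
  · change m 1 2 2 = m 1 1 0; omega
  · change m 2 0 0 = m 0 2 0; omega
  · change m 2 0 1 = m 0 0 1; omega
  · change m 2 0 2 = m 0 0 1; omega
  · change m 2 1 0 = m 0 0 1; omega
  · change m 2 1 1 = m 1 1 0; omega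
  · change m 2 1 2 = m 1 1 0; omega
  · change m 2 2 0 = m 1 1 0; omega
  · change m 2 2 1 = m 0 2 0; omega
  · change m 2 2 2 = m 0 2 0; omega

/-- the type of a representation: the multiplicities of the five classes of weights -/
structure Ty (O : Ops K V) (ω : K) (m0 a b c d : ℕ) : Prop where
  dim : ∀ i j k, finrank K (O.W ω i j k) = ![m0, a, b, c, d] (cls i j k)
  tot : finrank K V = m0 + 4 * (a + b) + 6 * c + 12 * d

include R in
theorem exists_ty [IsAlgClosed K] (hω : Om ω) (h3 : (3 : K) ≠ 0) : ∃ m0 a b c d, Ty O ω m0 a b c d := by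
  have h := orbits (fun i j k => finrank K (O.W ω i j k))
    (fun i j k => finrank_le_of_inj R.ss fun v hv => W_s R hv)
    (fun i j k => finrank_le_of_inj R.t1t1 fun v hv => W_t1 R hω hv)
    (fun i j k => finrank_le_of_inj (T := O.y) (T' := O.y * O.y) R.yyy fun v hv => W_y R hω hv)
  have hsum := sum_W R hω h3
  refine ⟨_, _, _, _, _, h, ?_⟩
  have h' : ∀ t : Fin 3 × Fin 3 × Fin 3, finrank K (O.W ω t.1 t.2.1 t.2.2) = _ := fun t => h t.1 t.2.1 t.2.2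
  rw [← hsum, Finset.sum_congr rfl fun t _ => h' t]
  simp only [Fintype.sum_prod_type, Fin.sum_univ_three]
  simp only [show cls 0 0 0 = 0 from rfl, show cls 0 0 1 = 4 from rfl, show cls 0 0 2 = 4 from rfl,
    show cls 0 1 0 = 1 from rfl, show cls 0 1 1 = 4 from rfl, show cls 0 1 2 = 4 from rfl,
    show cls 0 2 0 = 2 from rfl, show cls 0 2 1 = 4 from rfl, show cls 0 2 2 = 4 from rfl,
    show cls 1 0 0 = 1 from rfl, show cls 1 0 1 = 4 from rfl, show cls 1 0 2 = 4 from rfl,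
    show cls 1 1 0 = 3 from rfl, show cls 1 1 1 = 1 from rfl, show cls 1 1 2 = 1 from rfl,
    show cls 1 2 0 = 4 from rfl, show cls 1 2 1 = 3 from rfl, show cls 1 2 2 = 3 from rfl,
    show cls 2 0 0 = 2 from rfl, show cls 2 0 1 = 4 from rfl, show cls 2 0 2 = 4 from rfl,
    show cls 2 1 0 = 4 from rfl, show cls 2 1 1 = 3 from rfl, show cls 2 1 2 = 3 from rfl,
    show cls 2 2 0 = 3 from rfl, show cls 2 2 1 = 2 from rfl, show cls 2 2 2 = 2 from rfl]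
  generalize finrank K (O.W ω 0 0 0) = A
  generalize finrank K (O.W ω 0 1 0) = B
  generalize finrank K (O.W ω 0 2 0) = C
  generalize finrank K (O.W ω 1 1 0) = D
  generalize finrank K (O.W ω 0 0 1) = E
  change _ = _
  simp only [Matrix.cons_val_zero, Matrix.cons_val_one, Matrix.cons_val]
  ring

omit [FiniteDimensional K V] in
theorem Ty.sq {m0 a b c d : ℕ} (hω : Om ω) (T : Ty O ω m0 a b c d) : Ty O (ω ^ 2) m0 b a c d where
  dim := by
    intro i j k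
    rw [W_sq hω, T.dim]
    have : ∀ i j k : Fin 3, (cls i j k = 1 ∧ cls (i + i) (j + j) (k + k) = 2) ∨
        (cls i j k = 2 ∧ cls (i + i) (j + j) (k + k) = 1) ∨
        (cls i j k = 0 ∧ cls (i + i) (j + j) (k + k) = 0) ∨
        (cls i j k = 3 ∧ cls (i + i) (j + j) (k + k) = 3) ∨
        (cls i j k = 4 ∧ cls (i + i) (j + j) (k + k) = 4) := by decide
    rcases this i j k with ⟨h, h'⟩ | ⟨h, h'⟩ | ⟨h, h'⟩ | ⟨h, h'⟩ | ⟨h, h'⟩ <;> rw [h, h'] <;> rfl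
  tot := by rw [T.tot]; ring

end dims

end Cfsg.Agent.H659.Sp4
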