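import Cfsg.Agent.H659.Sp4Cases
import Cfsg.Agent.H659.Sp4Inst
import Cfsg.Agent.H659.AcIrr

/-!
# Two six-dimensional irreducible representations of `Sp₄(3)` with trivial centre are isomorphic
-/

set_option autoImplicit false

namespace Cfsg.Agent.H659.Sp4

open Module SevenU42 Ac

variable {K : Type*} [Field K] {V₁ V₂ : Type*} [AddCommGroup V₁] [Module K V₁] [AddCommGroup V₂] [Module K V₂]
  (ρ₁ : Sp →* Module.End K V₁) (ρ₂ : Sp →* Module.End K V₂)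

theorem irr_of [FiniteDimensional K V₁] (h : ∀ L : Submodule K V₁, (∀ g, ∀ v ∈ L, ρ₁ g v ∈ L) → L = ⊥ ∨ L = ⊤) :
    Irr (ops ρ₁) := fun W hy hs hj => h W (inv_of_ysj ρ₁ W hy hs hj)

/-- `-1` -/
def negG : Sp := hG * (jG * jG)

theorem negG_val : negG.1 = -1 := by decide +kernel

theorem negG_sq : negG * negG = 1 := Subtype.ext (by decide +kernel)

theorem t1t2_eq (v : V₁) : (ops ρ₁).t1 ((ops ρ₁).t2 v) = ρ₁ negG v := by
  simp only [ops, mul_app, negG]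

theorem iso_of_six [FiniteDimensional K V₁] [FiniteDimensional K V₂] (h2 : (2 : K) ≠ 0) (h3 : (3 : K) ≠ 0)
    (h₁ : ∀ L : Submodule K V₁, (∀ g, ∀ v ∈ L, ρ₁ g v ∈ L) → L = ⊥ ∨ L = ⊤)
    (h₂ : ∀ L : Submodule K V₂, (∀ g, ∀ v ∈ L, ρ₂ g v ∈ L) → L = ⊥ ∨ L = ⊤)
    (hp₁ : ∀ v, ρ₁ negG v = v) (hp₂ : ∀ v, ρ₂ negG v = v) {ω : K} (hω : Om ω)
    (T₁ : Ty (ops ρ₁) ω 0 0 0 1 0) (T₂ : Ty (ops ρ₂) ω 0 0 0 1 0) :
    ∃ e : V₁ ≃ₗ[K] V₂, ∀ g w, e (ρ₁ g w) = ρ₂ g (e w) := by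
  have R₁ := rels ρ₁
  have R₂ := rels ρ₂
  obtain ⟨v₁, hv₁, hv₁0⟩ := T₁.exists_ne (i := 1) (j := 1) (k := 0) (by change 1 ≠ 0; exact one_ne_zero)
  obtain ⟨v₂, hv₂, hv₂0⟩ := T₂.exists_ne (i := 1) (j := 1) (k := 0) (by change 1 ≠ 0; exact one_ne_zero)
  have a₁ := hyp6 R₁ hω h3 T₁
  have a₂ := hyp6 R₂ hω h3 T₂
  rw [mem_W] at hv₁ hv₂
  have hW : (v₁, v₂) ∈ (ops (prodRep ρ₁ ρ₂)).W ω 1 1 0 := by
    rw [mem_W]
    exact ⟨Prod.ext hv₁.1 hv₂.1, Prod.ext hv₁.2.1 hv₂.2.1, Prod.ext hv₁.2.2 hv₂.2.2⟩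
  obtain ⟨W, hvW, hW6, hy, hs, hj⟩ := close6 (rels (prodRep ρ₁ ρ₂)) hω hω.sq h2
    (fun v => by
      rw [t1t2_eq]
      exact Prod.ext (hp₁ _) (hp₂ _))
    (fun v b1 b2 b3 => Prod.ext
      (a₁.1 v.1 (congrArg Prod.fst b1) (congrArg Prod.fst b2) (congrArg Prod.fst b3))
      (a₂.1 v.2 (congrArg Prod.snd b1) (congrArg Prod.snd b2) (congrArg Prod.snd b3)))
    (fun v b1 b2 b3 => Prod.ext
      (a₁.2 v.1 (congrArg Prod.fst b1) (congrArg Prod.fst b2) (congrArg Prod.fst b3))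
      (a₂.2 v.2 (congrArg Prod.snd b1) (congrArg Prod.snd b2) (congrArg Prod.snd b3))) hW
  have e₁ : finrank K V₁ = 6 := T₁.tot
  have e₂ : finrank K V₂ = 6 := T₂.tot
  exact exists_iso ρ₁ ρ₂ h₁ h₂ e₁ e₂ W (inv_of_ysj _ W hy hs hj) hW6 hvW hv₁0 hv₂0

/-- the centre acts by a sign -/
theorem neg_sign [FiniteDimensional K V₁] (h₁ : ∀ L : Submodule K V₁, (∀ g, ∀ v ∈ L, ρ₁ g v ∈ L) → L = ⊥ ∨ L = ⊤) :
    (∀ v, ρ₁ negG v = v) ∨ (∀ v, ρ₁ negG v = -v) := by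
  have hc : ∀ g : Sp, g * negG = negG * g := by
    intro g
    apply Subtype.ext
    change g.1 * negG.1 = negG.1 * g.1
    rw [negG_val, mul_neg, neg_mul, mul_one, one_mul]
  have hinv : ∀ v, ρ₁ negG (ρ₁ negG v) = v := by
    intro v
    rw [mul_app, negG_sq, map_one, Module.End.one_apply]
  rcases h₁ (Fi (ρ₁ negG)) (by
    intro g v hv
    rw [mem_Fi] at hv ⊢
    rw [mul_app, ← hc, ← mul_app, hv]) with h | h
  · right
    intro v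
    have h4 : v + ρ₁ negG v ∈ Fi (ρ₁ negG) := by
      rw [mem_Fi, map_add, hinv, add_comm]
    rw [h, Submodule.mem_bot] at h4
    exact (neg_eq_of_add_eq_zero_right h4).symm
  · left
    intro v
    have h4 : v ∈ Fi (ρ₁ negG) := by rw [h]; trivial
    exact h4

end Cfsg.Agent.H659.Sp4
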