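import Cfsg.Prelude.Def_Blocks
import Cfsg.Agent.Characters.Core
import Cfsg.Agent.Characters.ClassMul
import Cfsg.Agent.Blocks.Basic
import Cfsg.Agent.Blocks.PPart
import Cfsg.Agent.Blocks.PrincipalSection
import Cfsg.Agent.S0925

/-!
# Class structure constants inside the principal block

`structure_vanish` : if no element with `p`-part `x` is a product of two conjugates of the
involution `t` then the principal-block part of the structure constant vanishes at `x`.
-/

set_option autoImplicit false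

open Cfsg
open scoped ComplexConjugate

namespace Cfsg.Agent.H659.StructConst

open Subgroup Cfsg.Agent.Characters.Core Cfsg.Agent.Blocks

variable {G : Type*} [Group G] [Finite G] {p : ℕ} [Fact p.Prime]

omit [Finite G] [Fact p.Prime] in
theorem isPPart_inv {z y : G} (h : IsPPart p z y) : IsPPart p z⁻¹ y⁻¹ := by
  obtain ⟨w, rfl, hcm, ⟨k, hk⟩, hw⟩ := h
  refine ⟨w⁻¹, ?_, hcm.inv_inv, ⟨k, by rw [orderOf_inv, hk]⟩, by rwa [orderOf_inv]⟩
  rw [← mul_inv_rev, hcm.eq]

theorem structure_vanish {M : Ideal AlgInt} (hM : IsPModular p M) (t x : G)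
    (hx : ∃ k : ℕ, orderOf x = p ^ k)
    (hno : ∀ z : G, IsPPart p z x⁻¹ → ∀ a b : G, a * t * a⁻¹ * (b * t * b⁻¹) ≠ z) :
    ∑ᶠ χ ∈ principalBlock M G, ((χ : G → ℂ) t) ^ 2 / (χ : G → ℂ) 1 * (χ : G → ℂ) x = 0 := by
  classical
  have : Finite (IrrCharacter G) := finite_irr
  have := Fintype.ofFinite (IrrCharacter G)
  have := Fintype.ofFinite G
  set c : IrrCharacter G → ℂ := fun χ => ((χ : G → ℂ) t) ^ 2 / (χ : G → ℂ) 1 with hc
  set θ : G → ℂ := ∑ χ : IrrCharacter G, c χ • (χ : G → ℂ) with hθ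
  have hθcl : IsClassFunction G θ := by
    intro g h
    rw [hθ]
    simp only [Finset.sum_apply, Pi.smul_apply]
    refine Finset.sum_congr rfl fun χ _ => ?_
    rw [Basic.irr_conj χ.2]
  have hzero : ∀ z y : G, IsPPart p z y → IsConj x y → θ z = 0 := by
    intro z y hzy hy
    obtain ⟨g, hg⟩ := isConj_iff.1 hy
    have h1 := Characters.ClassMul.card_conj_mul_conj t t z⁻¹
    have hy' : IsPPart p z⁻¹ y⁻¹ := isPPart_inv hzy
    have h0 : Nat.card {q : G × G // q.1 * t * q.1⁻¹ * (q.2 * t * q.2⁻¹) = z⁻¹} = 0 := by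
      have : IsEmpty {q : G × G // q.1 * t * q.1⁻¹ * (q.2 * t * q.2⁻¹) = z⁻¹} := by
        refine ⟨fun q => ?_⟩
        have h2 := PPart.isPPart_conj hy' g⁻¹
        have h3 : g⁻¹ * y⁻¹ * (g⁻¹)⁻¹ = x⁻¹ := by
          rw [← hg]
          group
        rw [h3] at h2
        refine hno _ h2 (g⁻¹ * q.1.1) (g⁻¹ * q.1.2) ?_
        have h4 : q.1.1 * t * q.1.1⁻¹ * (q.1.2 * t * q.1.2⁻¹) = z⁻¹ := q.2
        have h5 : g⁻¹ * z⁻¹ * (g⁻¹)⁻¹ =
            g⁻¹ * (q.1.1 * t * q.1.1⁻¹ * (q.1.2 * t * q.1.2⁻¹)) * (g⁻¹)⁻¹ := by rw [h4]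
        rw [h5]
        group
      exact Nat.card_of_isEmpty
    rw [h0, Nat.cast_zero] at h1
    have hne : (Nat.card G : ℂ) ≠ 0 := card_ne_zero_complex
    have h2 := (mul_eq_zero.1 h1.symm).resolve_left hne
    rw [← h2, hθ]
    simp only [Finset.sum_apply, Pi.smul_apply, smul_eq_mul, hc]
    refine Finset.sum_congr rfl fun χ _ => ?_
    rw [isCharacter_apply_inv (isIrr_isCharacter χ.2) z, Complex.conj_conj]
    ring
  have key := (S0925.result (G := G) p M hM).1 θ hθcl x hx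
    (fun u z huz hxz => hzero u z huz hxz)
    (principalBlock M G) PrincipalSection.isPBlock_principalBlock x x
    (PPart.isPPart_of_isPGroup hx) (IsConj.refl x)
  rw [← key]
  unfold blockPart
  refine finsum_mem_congr rfl fun χ _ => ?_
  have h6 : ∀ inst : Fintype G, @classInner G _ inst θ (χ : G → ℂ) = c χ :=
    fun inst => @classInner_sum_smul_irr G _ inst _ c χ
  rw [h6]

end Cfsg.Agent.H659.StructConst
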