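import Cfsg.Agent.H912.Bd1

/-!
# Joint eigenspaces of three commuting operators of order 3

`A B C` commuting endomorphisms of a finite-dimensional space over an algebraically closed field in which `3 ≠ 0`, with
`A³ = B³ = C³ = 1`; `E3 A B C ω (i, j, k)` is the joint eigenspace with eigenvalues `ω^i, ω^j, ω^k`.
-/

set_option autoImplicit false

namespace Cfsg.Agent.H659.Triple

open Module

variable {K : Type*} [Field K] {V : Type*} [AddCommGroup V] [Module K V]

/-- The joint eigenspace. -/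
def E3 (A B C : Module.End K V) (ω : K) (t : Fin 3 × Fin 3 × Fin 3) : Submodule K V :=
  A.eigenspace (ω ^ t.1.val) ⊓ B.eigenspace (ω ^ t.2.1.val) ⊓ C.eigenspace (ω ^ t.2.2.val)

theorem mem_E3 {A B C : Module.End K V} {ω : K} {t : Fin 3 × Fin 3 × Fin 3} {v : V} :
    v ∈ E3 A B C ω t ↔ A v = ω ^ t.1.val • v ∧ B v = ω ^ t.2.1.val • v ∧ C v = ω ^ t.2.2.val • v := by
  simp only [E3, Submodule.mem_inf, Module.End.mem_eigenspace_iff, and_assoc]

theorem exists_omega [IsAlgClosed K] (h3 : (3 : K) ≠ 0) : ∃ ω : K, ω ^ 2 + ω + 1 = 0 ∧ ω ≠ 1 ∧ ω ^ 3 = 1 := by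
  obtain ⟨ω, hω⟩ := IsAlgClosed.exists_root (Polynomial.X ^ 2 + Polynomial.X + 1 : Polynomial K) (by
    have : (Polynomial.X ^ 2 + Polynomial.X + 1 : Polynomial K).degree = 2 := by compute_degree!
    rw [this]; norm_num)
  have h : ω ^ 2 + ω + 1 = 0 := by simpa [Polynomial.IsRoot] using hω
  refine ⟨ω, h, ?_, ?_⟩
  · rintro rfl
    apply h3
    linear_combination h
  · linear_combination (ω - 1) * h

section Omega

variable {ω : K} (h : ω ^ 2 + ω + 1 = 0) (h1 : ω ≠ 1) (h3 : ω ^ 3 = 1)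

include h3 in
theorem pow_add_fin (a b : Fin 3) : ω ^ (a + b).val = ω ^ a.val * ω ^ b.val := by
  fin_cases a <;> fin_cases b <;> simp <;>
    first | linear_combination (0 : K) * h3 | linear_combination (-1 : K) * h3 | linear_combination (-ω) * h3

include h h1 h3 in
theorem pow_inj_fin {a b : Fin 3} (hab : ω ^ a.val = ω ^ b.val) : a = b := by
  have h0 : ω ≠ 0 := by
    rintro rfl
    norm_num at h3
  have h2 : ω ^ 2 ≠ 1 := by
    intro h2
    apply h1
    linear_combination h3 - ω * h2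
  have h12 : ω ≠ ω ^ 2 := by
    intro h12
    apply h1
    have : ω * (ω - 1) = 0 := by linear_combination -h12
    rcases mul_eq_zero.1 this with h4 | h4
    · exact absurd h4 h0
    · exact sub_eq_zero.1 h4
  fin_cases a <;> fin_cases b <;> simp at hab ⊢
  · exact h1 hab.symm
  · exact h2 hab.symm
  · exact h1 hab
  · exact h12 hab
  · rcases hab with hab | hab
    · exact h1 hab
    · exact h2 (by rw [hab]; ring)
  · exact h12 hab.symm

include h h3 in
theorem exists_pow {μ : K} (hμ : μ ^ 3 = 1) : ∃ a : Fin 3, μ = ω ^ a.val := by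
  have h4 : (μ - 1) * ((μ - ω) * (μ - ω ^ 2)) = 0 := by
    linear_combination hμ - (μ - 1) * μ * h + (μ - 1) * h3
  rcases mul_eq_zero.1 h4 with h5 | h5
  · exact ⟨0, by simpa using sub_eq_zero.1 h5⟩
  rcases mul_eq_zero.1 h5 with h6 | h6
  · exact ⟨1, by simpa using sub_eq_zero.1 h6⟩
  · exact ⟨2, by simpa using sub_eq_zero.1 h6⟩

end Omega

section Dec

variable [IsAlgClosed K] [FiniteDimensional K V] {A B C : Module.End K V} (hAB : A * B = B * A) (hAC : A * C = C * A)
  (hBC : B * C = C * B) (hA : A ^ 3 = 1) (hB : B ^ 3 = 1) (hC : C ^ 3 = 1) (h3 : (3 : K) ≠ 0) {ω : K}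
  (h : ω ^ 2 + ω + 1 = 0) (h1 : ω ≠ 1) (hω : ω ^ 3 = 1)

/-- The eigenvalue function of a triple. -/
def chi (ω : K) (t : Fin 3 × Fin 3 × Fin 3) : Fin 3 → K := ![ω ^ t.1.val, ω ^ t.2.1.val, ω ^ t.2.2.val]

omit [IsAlgClosed K] in
include hA hB hC h3 in
theorem E3_eq (χ : Fin 3 → K) : (⨅ i, (![A, B, C] i).maxGenEigenspace (χ i)) =
    A.eigenspace (χ 0) ⊓ B.eigenspace (χ 1) ⊓ C.eigenspace (χ 2) := by
  have e1 := H912.Bd.maxGen_eq (K := K) (N := 3) (by exact_mod_cast h3) hA
  have e2 := H912.Bd.maxGen_eq (K := K) (N := 3) (by exact_mod_cast h3) hB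
  have e3 := H912.Bd.maxGen_eq (K := K) (N := 3) (by exact_mod_cast h3) hC
  rw [← e1, ← e2, ← e3]
  apply le_antisymm
  · refine le_inf (le_inf ?_ ?_) ?_
    · exact iInf_le (fun i => (![A, B, C] i).maxGenEigenspace (χ i)) 0
    · exact iInf_le (fun i => (![A, B, C] i).maxGenEigenspace (χ i)) 1
    · exact iInf_le (fun i => (![A, B, C] i).maxGenEigenspace (χ i)) 2
  · refine le_iInf fun i => ?_
    fin_cases i
    · exact inf_le_left.trans inf_le_left
    · exact inf_le_left.trans inf_le_right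
    · exact inf_le_right

omit [IsAlgClosed K] [FiniteDimensional K V] in
include hAB hAC hBC in
theorem comm3 (i j : Fin 3) : Commute (![A, B, C] i) (![A, B, C] j) := by
  fin_cases i <;> fin_cases j
  · exact Commute.refl _
  · exact hAB
  · exact hAC
  · exact hAB.symm
  · exact Commute.refl _
  · exact hBC
  · exact hAC.symm
  · exact hBC.symm
  · exact Commute.refl _

omit [IsAlgClosed K] in
include h h1 hω in
theorem chi_injective : Function.Injective (chi ω) := by
  intro s t hst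
  have e0 := congrFun hst 0
  have e1 := congrFun hst 1
  have e2 := congrFun hst 2
  exact Prod.ext (pow_inj_fin h h1 hω e0) (Prod.ext (pow_inj_fin h h1 hω e1) (pow_inj_fin h h1 hω e2))

omit [IsAlgClosed K] in
include hAB hAC hBC hA hB hC h3 h h1 hω in
theorem indep_E3 : iSupIndep (E3 A B C ω) := by
  have h4 := Module.End.independent_iInf_maxGenEigenspace_of_forall_mapsTo (![A, B, C]) (by
    intro i j φ
    exact Module.End.mapsTo_maxGenEigenspace_of_comm (comm3 hAB hAC hBC j i) φ)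
  have h5 := h4.comp (chi_injective h h1 hω)
  have h6 : ((fun χ : Fin 3 → K => ⨅ i, (![A, B, C] i).maxGenEigenspace (χ i)) ∘ chi ω) = E3 A B C ω := by
    funext t
    exact E3_eq hA hB hC h3 (chi ω t)
  rwa [h6] at h5

omit [IsAlgClosed K] [FiniteDimensional K V] in
theorem pow_eigen {T : Module.End K V} (hT : T ^ 3 = 1) {μ : K} {v : V} (hv : v ≠ 0) (hTv : T v = μ • v) : μ ^ 3 = 1 := by
  have e : (T ^ 3) v = μ ^ 3 • v := by
    rw [pow_succ, pow_succ, pow_one, Module.End.mul_apply, Module.End.mul_apply, hTv, map_smul, hTv, map_smul, map_smul,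
      hTv, smul_smul, smul_smul]
    congr 1
    ring
  rw [hT, Module.End.one_apply] at e
  have : (μ ^ 3 - 1) • v = 0 := by rw [sub_smul, ← e, one_smul, sub_self]
  exact sub_eq_zero.1 ((smul_eq_zero.1 this).resolve_right hv)

include hAB hAC hBC hA hB hC h3 h hω in
theorem iSup_E3 : ⨆ t, E3 A B C ω t = ⊤ := by
  have h4 := Module.End.iSup_iInf_maxGenEigenspace_eq_top_of_iSup_maxGenEigenspace_eq_top_of_commute (![A, B, C])
    (fun i j _ => comm3 hAB hAC hBC i j) (fun i => Module.End.iSup_maxGenEigenspace_eq_top _)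
  rw [eq_top_iff, ← h4]
  refine iSup_le fun χ => ?_
  rw [E3_eq hA hB hC h3 χ]
  by_cases hbot : A.eigenspace (χ 0) ⊓ B.eigenspace (χ 1) ⊓ C.eigenspace (χ 2) = ⊥
  · rw [hbot]; exact bot_le
  · obtain ⟨v, hv, hv0⟩ := Submodule.exists_mem_ne_zero_of_ne_bot hbot
    obtain ⟨⟨hvA, hvB⟩, hvC⟩ := hv
    obtain ⟨a, ha⟩ := exists_pow h hω (pow_eigen hA hv0 (Module.End.mem_eigenspace_iff.1 hvA))
    obtain ⟨b, hb⟩ := exists_pow h hω (pow_eigen hB hv0 (Module.End.mem_eigenspace_iff.1 hvB))
    obtain ⟨c, hc⟩ := exists_pow h hω (pow_eigen hC hv0 (Module.End.mem_eigenspace_iff.1 hvC))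
    rw [ha, hb, hc]
    exact le_iSup (E3 A B C ω) (a, b, c)

include hAB hAC hBC hA hB hC h3 h h1 hω in
theorem sum_E3 : ∑ t, finrank K (E3 A B C ω t) = finrank K V := by
  classical
  have hi := DirectSum.isInternal_submodule_of_iSupIndep_of_iSup_eq_top
    (indep_E3 hAB hAC hBC hA hB hC h3 h h1 hω) (iSup_E3 hAB hAC hBC hA hB hC h3 h hω)
  have e := (LinearEquiv.ofBijective (DirectSum.coeLinearMap (E3 A B C ω)) hi).finrank_eq
  rw [← e, Module.finrank_directSum]

omit [IsAlgClosed K] [FiniteDimensional K V] in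
include h hω in
/-- An operator of order dividing 3 without non-trivial eigenvectors in an invariant subspace fixes it pointwise. -/
theorem fix_of_no_eigen {T : Module.End K V} (hT : T ^ 3 = 1) (D : Submodule K V) (hTD : ∀ v ∈ D, T v ∈ D)
    (hno : ∀ a : Fin 3, a ≠ 0 → ∀ v ∈ D, T v = ω ^ a.val • v → v = 0) : ∀ v ∈ D, T v = v := by
  intro v hv
  have hT3 : T (T (T v)) = v := by
    have := congrArg (fun f : Module.End K V => f v) hT
    simpa [pow_succ, Module.End.mul_apply] using this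
  set u := T v - v with hu
  have huD : u ∈ D := D.sub_mem (hTD v hv) hv
  have hTu : T u ∈ D := hTD u huD
  have e1 : T (T u) + T u + u = 0 := by
    rw [hu, map_sub, map_sub, hT3]
    abel
  have e2 : T u - ω ^ 2 • u = 0 := by
    refine hno 1 (by decide) _ (D.sub_mem hTu (D.smul_mem _ huD)) ?_
    rw [map_sub, map_smul]
    have e3 : T (T u) = -T u - u := by
      rw [eq_sub_iff_add_eq, eq_neg_iff_add_eq_zero]
      rw [← e1]; abel
    rw [e3]
    have c1 : ω ^ (1 : Fin 3).val • (T u - ω ^ 2 • u) = ω • T u - (ω ^ 3) • u := by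
      change ω ^ 1 • _ = _
      rw [pow_one, smul_sub, smul_smul]
      congr 2
      ring
    rw [c1, hω, one_smul]
    have c2 : ω ^ 2 = -ω - 1 := by linear_combination h
    rw [c2]
    module
  have e4 : u = 0 := hno 2 (by decide) u huD (sub_eq_zero.1 e2)
  exact sub_eq_zero.1 e4

end Dec

end Cfsg.Agent.H659.Triple
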