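import Cfsg.Agent.H659.Sp4Main
import Cfsg.Agent.H659.HeisLine
import Cfsg.Agent.LieRecognition.RankOneAbstract

/-!
# Representations of `SU₃(3)` of degree ≤ 12, characteristic ≠ 3: the fixed space of the centre of a Sylow 3-subgroup
-/

set_option autoImplicit false

namespace Cfsg.Agent.H659.U3

open Module
open Cfsg.Agent.H659.Sp4 (Om Fi Ei mem_Fi mem_Ei eq_zero_of_neg decomp finrank_le_of_inj om_zero)
open Cfsg.Agent.H659.Triple

variable {G : Type*} [Group G]

/-- the group data -/
structure BD (B U : Subgroup G) (z x y h w : G) : Prop where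
  data : Cfsg.Agent.LieRecognition.RankOneAbstract.Data B U w
  hB : ∀ b ∈ B, ∃ u ∈ U, ∃ k : ℕ, b = u * h ^ k
  gen : ∀ u ∈ U, ∃ a b c : ℕ, u = x ^ a * y ^ b * z ^ c
  xU : x ∈ U
  yU : y ∈ U
  z3 : z ^ 3 = 1
  x3 : x ^ 3 = 1
  y3 : y ^ 3 = 1
  xy : x * y = z * (y * x)
  zx : z * x = x * z
  zy : z * y = y * z
  zh : z * h = h * (z * z)
  xh : x * h = h * (x * (y * z))
  yh : y * h = h * (x * (x * (y * (z * z))))
  hw : h * w = w * h ^ 5
  h8 : h ^ 8 = 1

variable {K : Type*} [Field K] {V : Type*} [AddCommGroup V] [Module K V] {B U : Subgroup G} {z x y h w : G}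
  (H : BD B U z x y h w) (ρ : G →* Module.End K V)

theorem mul_app (a b : G) (v : V) : ρ a (ρ b v) = ρ (a * b) v := by rw [map_mul, Module.End.mul_apply]

theorem comb8 (m : Fin 3 → Fin 3 → ℕ) (h : ∀ j k, m j k ≤ m (j + k) (j + j + k)) :
    ∀ j k, (j ≠ 0 ∨ k ≠ 0) → m j k = m 0 1 := by
  have c1 : m 0 1 ≤ m 1 1 := h 0 1
  have c2 : m 1 1 ≤ m 2 0 := h 1 1
  have c3 : m 2 0 ≤ m 2 1 := h 2 0
  have c4 : m 2 1 ≤ m 0 2 := h 2 1
  have c5 : m 0 2 ≤ m 2 2 := h 0 2
  have c6 : m 2 2 ≤ m 1 0 := h 2 2
  have c7 : m 1 0 ≤ m 1 2 := h 1 0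
  have c8 : m 1 2 ≤ m 0 1 := h 1 2
  intro j k hjk
  fin_cases j <;> fin_cases k
  · rcases hjk with h | h <;> exact absurd rfl h
  · rfl
  · change m 0 2 = m 0 1; omega
  · change m 1 0 = m 0 1; omega
  · change m 1 1 = m 0 1; omega
  · change m 1 2 = m 0 1; omega
  · change m 2 0 = m 0 1; omega
  · change m 2 1 = m 0 1; omega
  · change m 2 2 = m 0 1; omega

section D

variable [FiniteDimensional K V] [IsAlgClosed K] (h3 : (3 : K) ≠ 0)

include H h3 in
/-- `U` acts trivially on the fixed space of `z` if its dimension is at most 7 -/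
theorem xy_fix (hD : finrank K (Fi (ρ z)) ≤ 7) {v : V} (hv : ρ z v = v) : ρ x v = v ∧ ρ y v = v := by
  obtain ⟨ω, w1, w2, w3⟩ := exists_omega h3
  have hω : Om ω := ⟨w1, w2, w3⟩
  have hxD : ∀ v ∈ Fi (ρ z), ρ x v ∈ Fi (ρ z) := by
    intro v hv
    rw [mem_Fi] at hv ⊢
    rw [mul_app, H.zx, ← mul_app, hv]
  have hyD : ∀ v ∈ Fi (ρ z), ρ y v ∈ Fi (ρ z) := by
    intro v hv
    rw [mem_Fi] at hv ⊢
    rw [mul_app, H.zy, ← mul_app, hv]
  have hhD : ∀ v ∈ Fi (ρ z), ρ h v ∈ Fi (ρ z) := by
    intro v hv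
    rw [mem_Fi] at hv ⊢
    rw [mul_app, H.zh, ← mul_app, ← mul_app, hv, hv]
  have hhD' : ∀ v ∈ Fi (ρ z), ρ h⁻¹ v ∈ Fi (ρ z) := by
    intro v hv
    have e : h⁻¹ = h ^ 7 := by
      rw [inv_eq_iff_mul_eq_one, ← pow_succ']; exact H.h8
    rw [e]
    have : ∀ k : ℕ, ρ (h ^ k) v ∈ Fi (ρ z) := by
      intro k
      induction k with
      | zero => rw [pow_zero, map_one]; exact hv
      | succ k ih => rw [pow_succ', ← mul_app]; exact hhD _ ih
    exact this 7
  let X : Module.End K (Fi (ρ z)) := (ρ x).restrict hxD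
  let Y : Module.End K (Fi (ρ z)) := (ρ y).restrict hyD
  let Hh : Module.End K (Fi (ρ z)) := (ρ h).restrict hhD
  let Hh' : Module.End K (Fi (ρ z)) := (ρ h⁻¹).restrict hhD'
  have hXY : X * Y = Y * X := by
    ext v
    change ρ x (ρ y v) = ρ y (ρ x v)
    have hv : ρ z (ρ (y * x) v) = ρ (y * x) v := by
      have := hyD _ (hxD _ v.2)
      rw [← mul_app]; exact this
    rw [mul_app, H.xy, ← mul_app, hv, mul_app]
  have hX3 : X ^ 3 = 1 := by
    ext v
    rw [pow_succ, pow_two]
    change ρ x (ρ x (ρ x v)) = v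
    rw [mul_app, mul_app, ← pow_two, ← pow_succ, H.x3, map_one, Module.End.one_apply]
  have hY3 : Y ^ 3 = 1 := by
    ext v
    rw [pow_succ, pow_two]
    change ρ y (ρ y (ρ y v)) = v
    rw [mul_app, mul_app, ← pow_two, ← pow_succ, H.y3, map_one, Module.End.one_apply]
  have hz : ∀ v : Fi (ρ z), ρ z (v : V) = v := fun v => v.2
  have hXH : ∀ v, X (Hh v) = Hh (X (Y v)) := by
    intro v
    apply Subtype.ext
    change ρ x (ρ h v) = ρ h (ρ x (ρ y v))
    rw [mul_app, H.xh, ← mul_app, ← mul_app, ← mul_app, hz]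
  have hYH : ∀ v, Y (Hh v) = Hh (X (X (Y v))) := by
    intro v
    apply Subtype.ext
    change ρ y (ρ h v) = ρ h (ρ x (ρ x (ρ y v)))
    rw [mul_app, H.yh, ← mul_app, ← mul_app, ← mul_app, ← mul_app, ← mul_app, hz, hz]
  have hm : ∀ j k, finrank K (E3 (1 : Module.End K (Fi (ρ z))) X Y ω (0, j, k)) ≤
      finrank K (E3 (1 : Module.End K (Fi (ρ z))) X Y ω (0, j + k, j + j + k)) := by
    intro j k
    refine finrank_le_of_inj (T := Hh) (T' := Hh') ?_ ?_
    · intro v
      apply Subtype.ext
      change ρ h⁻¹ (ρ h v) = v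
      rw [mul_app, inv_mul_cancel, map_one, Module.End.one_apply]
    · intro v hv
      rw [mem_E3] at hv ⊢
      obtain ⟨-, a2, a3⟩ := hv
      refine ⟨?_, ?_, ?_⟩
      · rw [om_zero, Module.End.one_apply]
      · rw [hXH, a3, map_smul, map_smul, a2, map_smul, smul_smul]
        change _ = ω ^ (j + k).val • _
        rw [pow_add_fin hω.c, mul_comm]
      · rw [hYH, a3, map_smul, map_smul, map_smul, a2, map_smul, a2, map_smul, map_smul, smul_smul, smul_smul]
        change _ = ω ^ (j + j + k).val • _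
        rw [pow_add_fin hω.c, pow_add_fin hω.c]
        congr 1; ring
  have hc := comb8 _ hm
  have hsum := sum_E3 (A := (1 : Module.End K (Fi (ρ z)))) (B := X) (C := Y) (by rw [one_mul, mul_one])
    (by rw [one_mul, mul_one]) hXY (one_pow 3) hX3 hY3 h3 hω.a hω.b hω.c
  simp only [Fintype.sum_prod_type, Fin.sum_univ_three] at hsum
  have b1 := hc 0 2 (by decide)
  have b2 := hc 1 0 (by decide)
  have b3 := hc 1 1 (by decide)
  have b4 := hc 1 2 (by decide)
  have b5 := hc 2 0 (by decide)
  have b6 := hc 2 1 (by decide)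
  have b7 := hc 2 2 (by decide)
  have h01 : finrank K (E3 (1 : Module.End K (Fi (ρ z))) X Y ω (0, 0, 1)) = 0 := by
    omega
  have hzero : ∀ j k, (j ≠ 0 ∨ k ≠ 0) → ∀ v ∈ E3 (1 : Module.End K (Fi (ρ z))) X Y ω (0, j, k), v = 0 := by
    intro j k hjk v hv
    have e := (hc j k hjk).trans h01
    rw [Submodule.finrank_eq_zero.1 e] at hv
    exact (Submodule.mem_bot K).1 hv
  have hX3' : ∀ v, X (X (X v)) = v := fun v => by
    have := congrArg (fun f : Module.End K (Fi (ρ z)) => f v) hX3
    simpa [pow_succ, Module.End.mul_apply] using this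
  have hY3' : ∀ v, Y (Y (Y v)) = v := fun v => by
    have := congrArg (fun f : Module.End K (Fi (ρ z)) => f v) hY3
    simpa [pow_succ, Module.End.mul_apply] using this
  have hmem : (⟨v, hv⟩ : Fi (ρ z)) ∈ E3 (1 : Module.End K (Fi (ρ z))) X Y ω (0, 0, 0) := by
    refine decomp hω h3 hX3' ⊤ _ (fun _ _ => trivial) ?_ (v := (⟨v, hv⟩ : Fi (ρ z))) trivial
    intro a v _ hva
    refine decomp hω h3 hY3' (Ei X (ω ^ a.val)) _ ?_ ?_ (v := v) hva
    · intro u hu
      rw [mem_Ei] at hu ⊢
      rw [← Module.End.mul_apply, hXY, Module.End.mul_apply, hu, map_smul]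
    · intro b u hu hub
      by_cases hab : a = 0 ∧ b = 0
      · obtain ⟨rfl, rfl⟩ := hab
        rw [mem_E3]
        exact ⟨by rw [om_zero, Module.End.one_apply], hu, hub⟩
      · have : u = 0 := hzero a b (by
          by_contra hcon
          push Not at hcon
          exact hab hcon) u (by
            rw [mem_E3]
            exact ⟨by rw [om_zero, Module.End.one_apply], hu, hub⟩)
        rw [this]; exact Submodule.zero_mem _
  rw [mem_E3, om_zero] at hmem
  exact ⟨congrArg Subtype.val hmem.2.1, congrArg Subtype.val hmem.2.2⟩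

omit [FiniteDimensional K V] [IsAlgClosed K] in
include H in
theorem e_comm_s {s : G} (hs : s ∈ U) (v : V) :
    (ρ s v + ρ z (ρ s v) + ρ (z * z) (ρ s v)) = ρ s (v + ρ z v + ρ (z * z) v) := by
  obtain ⟨a, b, c, rfl⟩ := H.gen s hs
  have hx : ∀ k : ℕ, z * x ^ k = x ^ k * z := fun k => (Commute.pow_right (show Commute z x from H.zx) k)
  have hy : ∀ k : ℕ, z * y ^ k = y ^ k * z := fun k => (Commute.pow_right (show Commute z y from H.zy) k)
  have hzz : ∀ k : ℕ, z * z ^ k = z ^ k * z := fun k => (Commute.pow_right (show Commute z z from rfl) k)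
  have hc : z * (x ^ a * y ^ b * z ^ c) = (x ^ a * y ^ b * z ^ c) * z := by
    rw [← mul_assoc, ← mul_assoc, hx, mul_assoc (x ^ a), hy, ← mul_assoc, mul_assoc _ z, hzz, ← mul_assoc]
  generalize hg : x ^ a * y ^ b * z ^ c = g at hc
  rw [map_add, map_add, mul_app, mul_app, mul_app, mul_app, mul_assoc z, hc, ← mul_assoc, hc, mul_assoc]

include H h3 in
theorem borel_cases (hz : ρ z ≠ 1) (hirr : ∀ L : Submodule K V, (∀ g, ∀ v ∈ L, ρ g v ∈ L) → L = ⊥ ∨ L = ⊤)
    (h12 : finrank K V ≤ 12) :
    (finrank K V = 7) ∨ (finrank K V = 8 ∧ ∀ v, ρ z v = v → ρ (h ^ 4) v = -v) ∨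
      ((finrank K V = 6 ∨ finrank K V = 12) ∧ ∀ v, ρ z v = v → v = 0) := by
  obtain ⟨ω, w1, w2, w3⟩ := exists_omega h3
  have hω : Om ω := ⟨w1, w2, w3⟩
  have hT3 : (ρ z) ^ 3 = 1 := by rw [← map_pow, H.z3, map_one]
  have hT3' : ∀ v, ρ z (ρ z (ρ z v)) = v := by
    intro v
    rw [mul_app, mul_app, ← pow_two, ← pow_succ, H.z3, map_one, Module.End.one_apply]
  have hinv : ∀ v, ρ h⁻¹ (ρ h v) = v := fun v => by
    rw [mul_app, inv_mul_cancel, map_one, Module.End.one_apply]
  -- dimensions
  have hsum : finrank K (Fi (ρ z)) + finrank K (Ei (ρ z) ω) + finrank K (Ei (ρ z) (ω ^ 2)) = finrank K V := by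
    have := HeisLine.sum_eigen hT3 h3 w1 w2 w3
    rw [Fin.sum_univ_three] at this
    have e0 : (ρ z).eigenspace (ω ^ (0 : Fin 3).val) = Fi (ρ z) := by
      ext v
      rw [Module.End.mem_eigenspace_iff, mem_Fi]
      change ρ z v = ω ^ 0 • v ↔ _
      rw [pow_zero, one_smul]
    have e1 : (ρ z).eigenspace (ω ^ (1 : Fin 3).val) = Ei (ρ z) ω := by
      ext v
      rw [Module.End.mem_eigenspace_iff, mem_Ei]
      change ρ z v = ω ^ 1 • v ↔ _
      rw [pow_one]
    have e2 : (ρ z).eigenspace (ω ^ (2 : Fin 3).val) = Ei (ρ z) (ω ^ 2) := by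
      ext v
      rw [Module.End.mem_eigenspace_iff, mem_Ei]
      rfl
    rw [e0, e1, e2] at this
    exact this
  have hsw : ∀ c : K, ∀ v, ρ z v = c • v → ρ z (ρ h v) = (c ^ 2) • ρ h v := by
    intro c v hv
    rw [mul_app, H.zh, ← mul_app, ← mul_app, hv, map_smul, hv, smul_smul, map_smul, pow_two]
  have d12 : finrank K (Ei (ρ z) ω) ≤ finrank K (Ei (ρ z) (ω ^ 2)) :=
    finrank_le_of_inj hinv (fun v hv => hsw _ _ hv)
  have d21 : finrank K (Ei (ρ z) (ω ^ 2)) ≤ finrank K (Ei (ρ z) ω) :=
    finrank_le_of_inj hinv (fun v hv => by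
      rw [mem_Ei]
      refine (hsw _ _ hv).trans ?_
      congr 1
      linear_combination ω * w3)
  have hstab : ∀ (u : G), z * u = u * z → ∀ v ∈ Ei (ρ z) ω, ρ u v ∈ Ei (ρ z) ω := by
    intro u hu v hv
    rw [mem_Ei] at hv ⊢
    rw [mul_app, hu, ← mul_app, hv, map_smul]
  have hdvd : 3 ∣ finrank K (Ei (ρ z) ω) := by
    have hp := HeisLine.pow_finrank ρ (z := z) H.xy (ω := ω) (Ei (ρ z) ω) (hstab x H.zx)
      (hstab x⁻¹ (Commute.inv_right (show Commute z x from H.zx))) (hstab y H.zy)
      (hstab y⁻¹ (Commute.inv_right (show Commute z y from H.zy))) (fun v hv => hv)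
    have ho : orderOf ω = 3 := orderOf_eq_prime w3 w2
    rw [← ho]
    exact orderOf_dvd_of_pow_eq_one hp
  have hpos : finrank K (Ei (ρ z) ω) ≠ 0 := by
    intro h0
    have h0' : finrank K (Ei (ρ z) (ω ^ 2)) = 0 := by omega
    apply hz
    ext v
    rw [Module.End.one_apply]
    have : v ∈ Fi (ρ z) := by
      refine decomp hω h3 hT3' ⊤ _ (fun _ _ => trivial) ?_ (v := v) trivial
      intro a v _ hva
      fin_cases a
      · rw [mem_Fi]
        rw [hva]; exact om_zero
      · have hm : v ∈ Ei (ρ z) ω := by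
          rw [mem_Ei, hva]; change ω ^ 1 • v = _; rw [pow_one]
        rw [Submodule.finrank_eq_zero.1 h0] at hm
        rw [(Submodule.mem_bot K).1 hm]; exact Submodule.zero_mem _
      · have hm : v ∈ Ei (ρ z) (ω ^ 2) := hva
        rw [Submodule.finrank_eq_zero.1 h0'] at hm
        rw [(Submodule.mem_bot K).1 hm]; exact Submodule.zero_mem _
    exact this
  obtain ⟨m, hm⟩ := hdvd
  by_cases hD0 : finrank K (Fi (ρ z)) = 0
  · right; right
    refine ⟨?_, ?_⟩
    · omega
    · intro v hv
      have hm : v ∈ Fi (ρ z) := hv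
      rw [Submodule.finrank_eq_zero.1 hD0] at hm
      exact (Submodule.mem_bot K).1 hm
  have hD6 : finrank K (Fi (ρ z)) ≤ 6 := by omega
  have hDge : finrank K (Fi (ρ z)) + 6 = finrank K V ∨ 12 < finrank K V := by omega
  have hDn : finrank K (Fi (ρ z)) + 6 = finrank K V := by omega
  have hxy := fun v (hv : ρ z v = v) => xy_fix H ρ h3 (by omega) hv
  -- `U` fixes the fixed space
  have hU : ∀ u ∈ U, ∀ v, ρ z v = v → ρ u v = v := by
    intro u hu v hv
    obtain ⟨a, b, c, rfl⟩ := H.gen u hu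
    have hpow : ∀ g : G, ρ g v = v → ∀ k : ℕ, ρ (g ^ k) v = v := by
      intro g hg k
      induction k with
      | zero => rw [pow_zero, map_one, Module.End.one_apply]
      | succ k ih => rw [pow_succ, ← mul_app, hg, ih]
    rw [← mul_app, ← mul_app, hpow z hv, hpow y (hxy v hv).2, hpow x (hxy v hv).1]
  -- the projection
  let e : V → V := fun v => v + ρ z v + ρ (z * z) v
  have he_add : ∀ u v, e (u + v) = e u + e v := by
    intro u v
    simp only [e, map_add]; abel
  have he_smul : ∀ (c : K) v, e (c • v) = c • e v := by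
    intro c v
    simp only [e, map_smul, smul_add]
  have heD : ∀ v, ρ z (e v) = e v := by
    intro v
    simp only [e, map_add, mul_app]
    rw [← mul_assoc, ← pow_two, ← pow_succ, H.z3, map_one, Module.End.one_apply]
    abel
  have he3 : ∀ v, ρ z v = v → e v = (3 : K) • v := by
    intro v hv
    simp only [e]
    rw [← mul_app, hv, hv]
    module
  have hes : ∀ s ∈ U, ∀ v, e (ρ s v) = ρ s (e v) := fun s hs v => e_comm_s H ρ hs v
  have heh : ∀ v, e (ρ h v) = ρ h (e v) := by
    intro v
    have a1 : ρ z (ρ h v) = ρ h (ρ (z * z) v) := by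
      rw [mul_app, mul_app, H.zh]
    have a2 : ρ (z * z) (ρ h v) = ρ h (ρ z v) := by
      rw [mul_app, mul_app, mul_assoc, H.zh, ← mul_assoc, H.zh]
      have : h * (z * z) * (z * z) = h * z := by
        have hz4 : z * z * (z * z) = z := by
          rw [← pow_two z, ← pow_add, show 2 + 2 = 3 + 1 from rfl, pow_succ, H.z3, one_mul]
        rw [mul_assoc, hz4]
      rw [this]
    simp only [e]
    rw [a1, a2, map_add, map_add]
    abel
  -- the span argument
  have key : ∀ v, v ≠ 0 → ρ z v = v → ∀ l : K, ρ h v = l • v → ∀ u ∈ Fi (ρ z), u ∈ Submodule.span K {v, e (ρ w v)} := by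
    intro v hv0 hv l hl
    have hhk : ∀ k : ℕ, ρ (h ^ k) v = l ^ k • v := by
      intro k
      induction k with
      | zero => rw [pow_zero, map_one, Module.End.one_apply, pow_zero, one_smul]
      | succ k ih => rw [pow_succ, ← mul_app, hl, map_smul, ih, smul_smul, pow_succ, mul_comm]
    have hB : ∀ b ∈ B, ∃ c : K, ρ b v = c • v := by
      intro b hb
      obtain ⟨u, hu, k, rfl⟩ := H.hB b hb
      exact ⟨l ^ k, by rw [← mul_app, hhk, map_smul, hU u hu v hv]⟩
    have hg : ∀ g : G, e (ρ g v) ∈ Submodule.span K {v, e (ρ w v)} := by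
      intro g
      by_cases hgB : g ∈ B
      · obtain ⟨c, hc⟩ := hB g hgB
        rw [hc, he_smul, he3 v hv]
        exact Submodule.smul_mem _ _ (Submodule.smul_mem _ _ (Submodule.subset_span (Set.mem_insert _ _)))
      · obtain ⟨s, hs, hsg⟩ := H.data.bruhat g hgB
        obtain ⟨c, hc⟩ := hB _ hsg
        have e1 : ρ g v = c • ρ s (ρ w v) := by
          have : g = s * w * ((s * w)⁻¹ * g) := by group
          rw [this, ← mul_app, hc, map_smul, mul_app]
        rw [e1, he_smul, hes s hs, hU s hs _ (heD _)]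
        exact Submodule.smul_mem _ _ (Submodule.subset_span (Set.mem_insert_of_mem _ rfl))
    let L : Submodule K V := Submodule.span K (Set.range fun g => ρ g v)
    have hL : L = ⊤ := by
      rcases hirr L (by
        intro g u hu
        induction hu using Submodule.span_induction with
        | mem u hu =>
          obtain ⟨g', rfl⟩ := hu
          exact Submodule.subset_span ⟨g * g', (mul_app ρ g g' v).symm⟩
        | zero => rw [map_zero]; exact Submodule.zero_mem _
        | add a b _ _ ha hb => rw [map_add]; exact Submodule.add_mem _ ha hb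
        | smul c a _ ha => rw [map_smul]; exact Submodule.smul_mem _ _ ha) with h | h
      · exfalso
        apply hv0
        have : v ∈ L := Submodule.subset_span ⟨1, by change ρ 1 v = v; rw [map_one]; rfl⟩
        rw [h] at this
        exact (Submodule.mem_bot K).1 this
      · exact h
    have hall : ∀ u, e u ∈ Submodule.span K {v, e (ρ w v)} := by
      intro u
      have hu : u ∈ L := by rw [hL]; trivial
      induction hu using Submodule.span_induction with
      | mem u hu => obtain ⟨g, rfl⟩ := hu; exact hg g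
      | zero =>
        have : e 0 = 0 := by simp only [e, map_zero, add_zero]
        rw [this]; exact Submodule.zero_mem _
      | add a b _ _ ha hb => rw [he_add]; exact Submodule.add_mem _ ha hb
      | smul c a _ ha => rw [he_smul]; exact Submodule.smul_mem _ _ ha
    intro u hu
    have := hall u
    rw [he3 u hu] at this
    exact (Submodule.smul_mem_iff _ h3).1 this
  have hhD : ∀ v ∈ Fi (ρ z), ρ h v ∈ Fi (ρ z) := by
    intro v hv
    rw [mem_Fi] at hv ⊢
    rw [mul_app, H.zh, ← mul_app, ← mul_app, hv, hv]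
  have : Nontrivial (Fi (ρ z)) := Module.nontrivial_of_finrank_pos (R := K) (Nat.pos_of_ne_zero hD0)
  obtain ⟨l, hl⟩ := Module.End.exists_eigenvalue ((ρ h).restrict hhD)
  obtain ⟨v, hv⟩ := hl.exists_hasEigenvector
  have hvl : ρ h (v : V) = l • (v : V) := congrArg Subtype.val hv.apply_eq_smul
  have hv0 : (v : V) ≠ 0 := fun h0 => hv.2 (Subtype.ext h0)
  have hvz : ρ z (v : V) = v := v.2
  have hspan := key v hv0 hvz l hvl
  have hw' : ρ h (e (ρ w (v : V))) = l ^ 5 • e (ρ w (v : V)) := by
    rw [← heh, mul_app, H.hw, ← mul_app]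
    have hhk : ∀ k : ℕ, ρ (h ^ k) (v : V) = l ^ k • (v : V) := by
      intro k
      induction k with
      | zero => rw [pow_zero, map_one, Module.End.one_apply, pow_zero, one_smul]
      | succ k ih => rw [pow_succ, ← mul_app, hvl, map_smul, ih, smul_smul, pow_succ, mul_comm]
    rw [hhk, map_smul, he_smul]
  have hl8 : l ^ 8 = 1 := by
    have hhk : ∀ k : ℕ, ρ (h ^ k) (v : V) = l ^ k • (v : V) := by
      intro k
      induction k with
      | zero => rw [pow_zero, map_one, Module.End.one_apply, pow_zero, one_smul]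
      | succ k ih => rw [pow_succ, ← mul_app, hvl, map_smul, ih, smul_smul, pow_succ, mul_comm]
    have h8 := hhk 8
    rw [H.h8, map_one, Module.End.one_apply] at h8
    have : (1 - l ^ 8) • (v : V) = 0 := by rw [sub_smul, one_smul, ← h8, sub_self]
    exact (sub_eq_zero.1 ((smul_eq_zero.1 this).resolve_right hv0)).symm
  by_cases hl4 : l ^ 4 = 1
  · -- `h` is the scalar `l` on the fixed space
    left
    have hscal : ∀ u ∈ Fi (ρ z), ρ h u = l • u := by
      intro u hu
      have := hspan u hu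
      rw [Submodule.mem_span_pair] at this
      obtain ⟨a, b, rfl⟩ := this
      rw [map_add, map_smul, map_smul, hvl, hw', show l ^ 5 = l by linear_combination l * hl4,
        smul_add l (a • (v : V)), smul_comm l a, smul_comm l b]
    let M : Module.End K (Fi (ρ z)) :=
      { toFun := fun u => ⟨e (ρ w (u : V)), heD _⟩
        map_add' := by
          intro a b
          apply Subtype.ext
          change e (ρ w ((a : V) + b)) = e (ρ w a) + e (ρ w b)
          rw [map_add, he_add]
        map_smul' := by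
          intro c a
          apply Subtype.ext
          change e (ρ w (c • (a : V))) = c • e (ρ w a)
          rw [map_smul, he_smul] }
    obtain ⟨m', hm'⟩ := Module.End.exists_eigenvalue M
    obtain ⟨v', hv'⟩ := hm'.exists_hasEigenvector
    have hv'l : e (ρ w (v' : V)) = m' • (v' : V) := congrArg Subtype.val hv'.apply_eq_smul
    have hv'0 : (v' : V) ≠ 0 := fun h0 => hv'.2 (Subtype.ext h0)
    have hle : Fi (ρ z) ≤ Submodule.span K {(v' : V)} := by
      intro u hu
      have := key v' hv'0 v'.2 l (hscal _ v'.2) u hu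
      rw [hv'l, Submodule.mem_span_pair] at this
      obtain ⟨a, b, rfl⟩ := this
      rw [Submodule.mem_span_singleton]
      exact ⟨a + b * m', by rw [add_smul, mul_smul]⟩
    have h1 : finrank K (Fi (ρ z)) ≤ 1 :=
      (Submodule.finrank_mono hle).trans (finrank_span_singleton hv'0).le
    omega
  · have hl4' : l ^ 4 = -1 := by
      have : (l ^ 4 - 1) * (l ^ 4 + 1) = 0 := by linear_combination hl8
      rcases mul_eq_zero.1 this with h | h
      · exact absurd (sub_eq_zero.1 h) hl4
      · exact eq_neg_of_add_eq_zero_left h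
    have hle : Fi (ρ z) ≤ Submodule.span K {(v : V), e (ρ w (v : V))} := hspan
    have h2' : finrank K (Fi (ρ z)) ≤ 2 := by
      refine (Submodule.finrank_mono hle).trans ?_
      classical
      have := finrank_span_finset_le_card (R := K) ({(v : V), e (ρ w (v : V))} : Finset V)
      rw [Finset.coe_pair] at this
      exact this.trans Finset.card_le_two
    have h4 : ∀ u, ρ z u = u → ρ (h ^ 4) u = -u := by
      intro u hu
      have hpow : ∀ (c : K) (u : V), ρ h u = c • u → ρ (h ^ 4) u = c ^ 4 • u := by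
        intro c u hc
        rw [show h ^ 4 = h * (h * (h * h)) by rw [pow_succ', pow_succ', pow_two], ← mul_app, ← mul_app, ← mul_app]
        simp only [hc, map_smul, smul_smul]
        congr 1; ring
      have := hspan u hu
      rw [Submodule.mem_span_pair] at this
      obtain ⟨a, b, rfl⟩ := this
      have e5 : (l ^ 5) ^ 4 = -1 := by
        linear_combination (l^16 - l^12 + l^8 - l^4 + 1) * hl4'
      rw [map_add, map_smul, map_smul, hpow l _ hvl, hpow (l ^ 5) _ hw', hl4', e5]
      module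
    rcases Nat.lt_or_ge (finrank K (Fi (ρ z))) 2 with h | h
    · left; omega
    · right; left
      exact ⟨by omega, h4⟩

end D

end Cfsg.Agent.H659.U3
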