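import Cfsg.Agent.H659.Sp4Core

/-!
# Representations of `SU₃(3)` in characteristic ≠ 2, 3 in which no vector is fixed by `z` and `t`

`z` a transvection, `t` the central involution of the `SL₂(3)` that contains `z`.
-/

set_option autoImplicit false

namespace Cfsg.Agent.H659.U3

open Module
open Cfsg.Agent.H659.Sp4 (Om Fi Ei mem_Fi mem_Ei eq_zero_of_neg)

/-- the operators -/
structure Ops (K : Type*) [Field K] (V : Type*) [AddCommGroup V] [Module K V] where
  z : Module.End K V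
  τ : Module.End K V
  i : Module.End K V
  j : Module.End K V
  t : Module.End K V
  t1 : Module.End K V
  c : Module.End K V
  r : Module.End K V

variable {K : Type*} [Field K] {V : Type*} [AddCommGroup V] [Module K V]

/-- the relations -/
structure Rels (O : Ops K V) : Prop where
  zzz : ∀ v, O.z (O.z (O.z v)) = v
  τττ : ∀ v, O.τ (O.τ (O.τ v)) = v
  ii : ∀ v, O.i (O.i v) = O.t v
  jj : ∀ v, O.j (O.j v) = O.t v
  tt : ∀ v, O.t (O.t v) = v
  ji : ∀ v, O.j (O.i v) = O.t (O.i (O.j v))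
  zi : ∀ v, O.z (O.i v) = O.j (O.z v)
  jp : ∀ v, O.i (O.z (O.i (O.z (O.z v)))) = O.z (O.z (O.i (O.z v)))
  pj : ∀ v, O.z (O.i (O.z (O.z (O.i v)))) = O.t (O.z (O.z (O.i (O.z v))))
  iz : ∀ v, O.i (O.z v) = O.z (O.t (O.j (O.i v)))
  tz : ∀ v, O.t (O.z v) = O.z (O.t v)
  ti : ∀ v, O.t (O.i v) = O.i (O.t v)
  tj : ∀ v, O.t (O.j v) = O.j (O.t v)
  t1c : ∀ v, O.t1 v = O.c (O.i v)
  cz : ∀ v, O.c (O.z v) = O.z (O.c v)
  t1t : ∀ v, O.t1 (O.t v) = O.t (O.t1 v)
  t1t1 : ∀ v, O.t1 (O.t1 v) = v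
  τt : ∀ v, O.τ (O.t v) = O.t1 (O.τ v)
  τt1 : ∀ v, O.τ (O.t1 v) = O.t (O.t1 (O.τ v))
  iτ : ∀ v, O.i (O.τ v) = O.τ (O.r v)
  rr : ∀ v, O.r (O.r v) = O.t (O.t1 v)
  rt : ∀ v, O.r (O.t v) = O.t (O.r v)
  rz : ∀ v, O.r (O.z v) = O.z (O.z (O.j (O.r v)))
  iττ : ∀ v, O.i (O.τ (O.τ (O.i (O.r v)))) = O.τ (O.τ v)
  jτ : ∀ v, O.j (O.τ v) = O.τ (O.τ (O.t (O.j v)))
  jττ : ∀ v, O.j (O.τ (O.τ v)) = O.τ (O.r (O.r (O.j v)))

/-- irreducibility -/
def Irr (O : Ops K V) : Prop := ∀ W : Submodule K V, (∀ v ∈ W, O.z v ∈ W) → (∀ v ∈ W, O.τ v ∈ W) → W = ⊥ ∨ W = ⊤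

variable {O : Ops K V} (R : Rels O) (h2 : (2 : K) ≠ 0)

include R h2 in
/-- the quaternion group acts trivially on the fixed space of `t` -/
theorem i_fix (H : ∀ v, O.z v = v → O.t v = v → v = 0) {v : V} (hv : O.t v = v) : O.i v = v := by
  have rel : ∀ w, O.t w = w → w + O.z w + O.z (O.z w) = 0 := by
    intro w hw
    apply H
    · rw [map_add, map_add, R.zzz]; abel
    · rw [map_add, map_add, R.tz, R.tz, R.tz, hw]
  have c1 : ∀ w, O.t w = w → O.i w = -w → O.z (O.i (O.z (O.z w))) = w → w = 0 := by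
    intro w hw h1 h1'
    have e1 := rel w hw
    have e2 : O.z (O.z (O.i (O.z w))) = -w := by
      rw [← R.jp, h1', h1]
    have e3 : O.i (O.z w) = -O.z w := by
      have := congrArg O.z e2
      rw [R.zzz, map_neg] at this
      exact this
    have e4 : O.i (O.z (O.z w)) = O.z (O.z w) := by
      have := congrArg (fun u => O.z (O.z u)) h1'
      simp only [R.zzz] at this
      exact this
    have e5 := congrArg O.i e1
    rw [map_add, map_add, e3, e4, h1, map_zero] at e5
    have e6 : (2 : K) • O.z (O.z w) = 0 := by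
      have : (2 : K) • O.z (O.z w) = (w + O.z w + O.z (O.z w)) + (-w + -O.z w + O.z (O.z w)) := by module
      rw [this, e1, e5, add_zero]
    have e7 := (smul_eq_zero.1 e6).resolve_left h2
    have e8 := congrArg O.z e7
    rw [R.zzz, map_zero] at e8
    exact e8
  have c2 : ∀ w, O.t w = w → O.i w = -w → O.z (O.i (O.z (O.z w))) = -w → w = 0 := by
    intro w hw h1 h1'
    have e1 := rel w hw
    have e2 : O.z (O.z (O.i (O.z w))) = w := by
      rw [← R.jp, h1', map_neg, h1, neg_neg]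
    have e3 : O.i (O.z w) = O.z w := by
      have := congrArg O.z e2
      rw [R.zzz] at this
      exact this
    have e4 : O.i (O.z (O.z w)) = -O.z (O.z w) := by
      have := congrArg (fun u => O.z (O.z u)) h1'
      simp only [R.zzz, map_neg] at this
      exact this
    have e5 := congrArg O.i e1
    rw [map_add, map_add, e3, e4, h1, map_zero] at e5
    have e6 : (2 : K) • O.z w = 0 := by
      have : (2 : K) • O.z w = (w + O.z w + O.z (O.z w)) + (-w + O.z w + -O.z (O.z w)) := by module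
      rw [this, e1, e5, add_zero]
    have e7 := (smul_eq_zero.1 e6).resolve_left h2
    have e8 := congrArg (fun u => O.z (O.z u)) e7
    simp only [R.zzz, map_zero] at e8
    exact e8
  set w := v - O.i v with hw
  have hwt : O.t w = w := by rw [hw, map_sub, R.ti, hv]
  have hjw : O.i w = -w := by
    rw [hw, map_sub, R.ii, hv]; abel
  set w' := O.z (O.i (O.z (O.z w))) with hw'
  have hw't : O.t w' = w' := by rw [hw', R.tz, R.ti, R.tz, R.tz, hwt]
  have hjw' : O.i w' = -w' := by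
    have e1 : O.i w' = O.z (O.z (O.i (O.z w))) := R.jp w
    have e2 : O.z (O.i (O.z (O.z (O.i w)))) = O.t (O.z (O.z (O.i (O.z w)))) := R.pj w
    rw [← e1, R.ti, hw't, hjw, map_neg, map_neg, map_neg, map_neg] at e2
    exact e2.symm
  have hpw' : O.z (O.i (O.z (O.z w'))) = w := by
    rw [hw', R.zzz, R.ii, R.tz, R.tz, hwt, R.zzz]
  have hz1 : w + w' = 0 := by
    refine c1 _ (by rw [map_add, hwt, hw't]) ?_ ?_
    · rw [map_add, hjw, hjw']; abel
    · rw [map_add, map_add, map_add, map_add, hpw', ← hw']; abel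
  have hz2 : w - w' = 0 := by
    refine c2 _ (by rw [map_sub, hwt, hw't]) ?_ ?_
    · rw [map_sub, hjw, hjw']; abel
    · rw [map_sub, map_sub, map_sub, map_sub, hpw', ← hw']; abel
  have hz : w = 0 := by
    have : (2 : K) • w = 0 := by
      rw [show (2 : K) • w = (w + w') + (w - w') by module, hz1, hz2, add_zero]
    exact (smul_eq_zero.1 this).resolve_left h2
  exact (sub_eq_zero.1 hz).symm

include R in
theorem j_fix (Hi : ∀ v, O.t v = v → O.i v = v) {v : V} (hv : O.t v = v) : O.j v = v := by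
  have h1 := R.zi (O.z (O.z v))
  rw [R.zzz, Hi _ (by rw [R.tz, R.tz, hv]), R.zzz] at h1
  exact h1.symm

include R in
/-- the Klein four-group has no fixed vector -/
theorem E_fix (hI : Irr O) (hV : ∃ v : V, v ≠ 0) (H : ∀ v, O.z v = v → O.t v = v → v = 0)
    (Hi : ∀ v, O.t v = v → O.i v = v) {v : V} (hv : O.t v = v) (hv1 : O.t1 v = v) : v = 0 := by
  have hz : ∀ v ∈ Fi O.t ⊓ Fi O.t1, O.z v ∈ Fi O.t ⊓ Fi O.t1 := by
    rintro v ⟨(a1 : O.t v = v), (a2 : O.t1 v = v)⟩
    have b1 : O.t (O.z v) = O.z v := by rw [R.tz, a1]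
    refine Submodule.mem_inf.2 ⟨b1, ?_⟩
    rw [mem_Fi, R.t1c, Hi _ b1, R.cz]
    rw [R.t1c, Hi _ a1] at a2
    rw [a2]
  have hτ : ∀ v ∈ Fi O.t ⊓ Fi O.t1, O.τ v ∈ Fi O.t ⊓ Fi O.t1 := by
    rintro v ⟨(a1 : O.t v = v), (a2 : O.t1 v = v)⟩
    have b1 : O.t1 (O.τ v) = O.τ v := by rw [← R.τt, a1]
    refine Submodule.mem_inf.2 ⟨?_, b1⟩
    have b2 := R.τt1 v
    rw [a2, b1] at b2
    exact b2.symm
  rcases hI _ hz hτ with h | h
  · have : v ∈ Fi O.t ⊓ Fi O.t1 := Submodule.mem_inf.2 ⟨hv, hv1⟩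
    rw [h] at this
    exact (Submodule.mem_bot K).1 this
  · exfalso
    obtain ⟨u, hu⟩ := hV
    have ht : ∀ v, O.t v = v := fun v => by
      have : v ∈ Fi O.t ⊓ Fi O.t1 := by rw [h]; trivial
      exact this.1
    have hi : ∀ v, O.i v = v := fun v => Hi v (ht v)
    have hr : ∀ v, O.r v = v := fun v => by
      have h1 := R.iτ v
      rw [hi] at h1
      have h4 := congrArg (fun u => O.τ (O.τ u)) h1
      simp only [R.τττ] at h4
      exact h4.symm
    have hj : ∀ v, O.j v = v := fun v => j_fix R Hi (ht v)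
    have h1 := R.rz u
    rw [hr, hr, hj] at h1
    have h4 := congrArg (fun u => O.z (O.z u)) h1
    simp only [R.zzz] at h4
    exact hu (H u h4.symm (ht u))

/-- hypotheses that pass to direct sums -/
structure Hyp (O : Ops K V) : Prop where
  fi : ∀ v, O.t v = v → O.i v = v
  ft1 : ∀ v, O.t v = v → O.t1 v = -v

include R h2 in
theorem hyp_of (hI : Irr O) (hV : ∃ v : V, v ≠ 0) (H : ∀ v, O.z v = v → O.t v = v → v = 0) : Hyp O := by
  have Hi : ∀ v, O.t v = v → O.i v = v := fun v hv => i_fix R h2 H hv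
  refine ⟨Hi, fun v hv => ?_⟩
  have h0 : v + O.t1 v = 0 := by
    apply E_fix R hI hV H Hi
    · rw [map_add, ← R.t1t, hv]
    · rw [map_add, R.t1t1, add_comm]
  exact (neg_eq_of_add_eq_zero_right h0).symm

section F

variable (Hy : Hyp O)

include R Hy

/-- on the fixed space of `t1`, `t = -1` -/
theorem f1 {v : V} (hv : O.t1 v = v) : O.t v = -v := by
  have e1 := R.τt (O.τ (O.τ v))
  rw [R.τττ, hv] at e1
  have e2 : O.t (O.τ (O.τ v)) = O.τ (O.τ v) := by
    have := congrArg (fun u => O.τ (O.τ u)) e1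
    simp only [R.τττ] at this
    exact this
  have e3 := Hy.ft1 _ e2
  have e4 := R.τt1 (O.τ (O.τ v))
  rw [e3, map_neg, R.τττ, hv] at e4
  exact e4.symm

/-- on the fixed space of `t t1`, `t = -1` -/
theorem f2 {v : V} (hv : O.t (O.t1 v) = v) : O.t v = -v := by
  have e1 : O.t (O.τ v) = O.τ v := by
    have h1 := R.τt (O.t1 v)
    rw [hv, R.τt1, R.t1t, R.t1t1] at h1
    exact h1.symm
  have e3 := Hy.ft1 _ e1
  rw [← R.τt] at e3
  have := congrArg (fun u => O.τ (O.τ u)) e3
  simp only [R.τττ, map_neg] at this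
  exact this

theorem tτ {v : V} (hv : O.t v = v) : O.t (O.τ v) = -O.τ v := f1 R Hy (by rw [← R.τt, hv])

theorem tττ {v : V} (hv : O.t v = v) : O.t (O.τ (O.τ v)) = -O.τ (O.τ v) := by
  refine f2 R Hy ?_
  rw [← R.τt1, ← R.τt, hv]

include h2

theorem three_dvd [FiniteDimensional K V] : 3 ∣ finrank K V := by
  let F2 : Submodule K V := Fi (O.t * O.t1)
  have mF2 : ∀ v, v ∈ F2 ↔ O.t (O.t1 v) = v := fun v => Iff.rfl
  have d01 : finrank K (Fi O.t) ≤ finrank K (Fi O.t1) :=
    Sp4.finrank_le_of_inj (T := O.τ) (T' := O.τ * O.τ) R.τττ (fun v hv => by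
      rw [mem_Fi] at hv ⊢; rw [← R.τt, hv])
  have d12 : finrank K (Fi O.t1) ≤ finrank K F2 :=
    Sp4.finrank_le_of_inj (T := O.τ) (T' := O.τ * O.τ) R.τττ (fun v hv => by
      rw [mem_Fi] at hv; rw [mF2, ← R.τt1, hv])
  have d20 : finrank K F2 ≤ finrank K (Fi O.t) :=
    Sp4.finrank_le_of_inj (T := O.τ) (T' := O.τ * O.τ) R.τττ (fun v hv => by
      rw [mF2] at hv
      rw [mem_Fi]
      have h1 := R.τt (O.t1 v)
      rw [hv, R.τt1, R.t1t, R.t1t1] at h1
      exact h1.symm)
  have s1 : Ei O.t (-1) = Fi O.t1 ⊔ F2 := by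
    apply le_antisymm
    · intro u hu
      rw [mem_Ei, neg_one_smul] at hu
      have a1 : u + O.t1 u ∈ Fi O.t1 := by rw [mem_Fi, map_add, R.t1t1, add_comm]
      have a2 : u - O.t1 u ∈ F2 := by
        rw [mF2, map_sub, R.t1t1, map_sub, ← R.t1t, hu, map_neg]; abel
      have a3 : u = (2 : K)⁻¹ • (u + O.t1 u) + (2 : K)⁻¹ • (u - O.t1 u) := by
        rw [← smul_add]
        rw [eq_inv_smul_iff₀ h2]
        module
      rw [a3]
      exact Submodule.add_mem_sup (Submodule.smul_mem _ _ a1) (Submodule.smul_mem _ _ a2)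
    · refine sup_le ?_ ?_
      · intro v hv
        rw [mem_Ei, neg_one_smul]
        exact f1 R Hy hv
      · intro v hv
        rw [mem_Ei, neg_one_smul]
        exact f2 R Hy hv
  have s2 : Fi O.t1 ⊓ F2 = ⊥ := by
    rw [eq_bot_iff]
    rintro v ⟨(a1 : O.t1 v = v), (a2 : O.t (O.t1 v) = v)⟩
    have a3 := f1 R Hy a1
    rw [a1, a3] at a2
    rw [Submodule.mem_bot]
    exact eq_zero_of_neg h2 a2.symm
  have s3 : Fi O.t ⊔ Ei O.t (-1) = ⊤ := by
    rw [eq_top_iff]
    intro u _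
    have a1 : u + O.t u ∈ Fi O.t := by rw [mem_Fi, map_add, R.tt, add_comm]
    have a2 : u - O.t u ∈ Ei O.t (-1) := by
      rw [mem_Ei, neg_one_smul, map_sub, R.tt]; abel
    have a3 : u = (2 : K)⁻¹ • (u + O.t u) + (2 : K)⁻¹ • (u - O.t u) := by
      rw [← smul_add]
      rw [eq_inv_smul_iff₀ h2]
      module
    rw [a3]
    exact Submodule.add_mem_sup (Submodule.smul_mem _ _ a1) (Submodule.smul_mem _ _ a2)
  have s4 : Fi O.t ⊓ Ei O.t (-1) = ⊥ := by
    rw [eq_bot_iff]
    rintro v ⟨(a1 : O.t v = v), (a2 : O.t v = (-1 : K) • v)⟩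
    rw [neg_one_smul] at a2
    rw [Submodule.mem_bot]
    exact eq_zero_of_neg h2 (a1.symm.trans a2)
  have e1 := Submodule.finrank_sup_add_finrank_inf_eq (Fi O.t1) F2
  have e2 := Submodule.finrank_sup_add_finrank_inf_eq (Fi O.t) (Ei O.t (-1))
  rw [← s1, s2, finrank_bot] at e1
  rw [s3, s4, finrank_bot, finrank_top] at e2
  exact ⟨finrank K (Fi O.t), by omega⟩

omit h2 Hy in
/-- `(A')` -/
theorem rel_A (hq : ∀ v, O.z (O.z v) = -v - O.z v) {w : V} (hw : O.t w = -w) :
    O.z (O.j w + O.i (O.j w)) = w - O.i (O.j w) := by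
  have hji : ∀ v, O.t v = -v → O.i (O.z v) = -O.z (O.j (O.i v)) := by
    intro v hv
    rw [R.iz, R.tj, R.ti, hv, map_neg, map_neg, map_neg]
  have ti : O.t (O.i w) = -O.i w := by rw [R.ti, hw, map_neg]
  set v := -O.i w with hv
  have hvt : O.t v = -v := by rw [hv, map_neg, ti]
  have hiv : O.i v = w := by rw [hv, map_neg, R.ii, hw, neg_neg]
  have e1 : O.i (O.z (O.z v)) = O.z (O.j (O.z (O.j w))) := by
    rw [hji (O.z v) (by rw [R.tz, hvt, map_neg]), hji v hvt, hiv, map_neg, map_neg, neg_neg]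
  have e2 : O.i (O.z (O.z v)) = -w + O.z (O.j w) := by
    rw [hq, map_sub, map_neg, hji v hvt, hiv]; abel
  have e3 : O.z (O.j (O.z (O.j w))) = -O.i (O.j w) - O.z (O.i (O.j w)) := by
    rw [← R.zi, hq]
  rw [map_add]
  have e4 := e1.symm.trans e2
  rw [e3] at e4
  have : O.z (O.j w) = -O.i (O.j w) - O.z (O.i (O.j w)) + w := by rw [e4]; abel
  rw [this]; abel

omit Hy in
/-- `z` on the `-1`-eigenspace of `t` -/
theorem z_eq (hq : ∀ v, O.z (O.z v) = -v - O.z v) {x : V} (hx : O.t x = -x) :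
    O.z x = (-(2 : K)⁻¹) • (x + O.i x + O.j x + O.i (O.j x)) := by
  have tj : O.t (O.j x) = -O.j x := by rw [R.tj, hx, map_neg]
  have tij : O.t (O.i (O.j x)) = -O.i (O.j x) := by rw [R.ti, tj, map_neg]
  have e := rel_A R hq (w := O.j x + O.i (O.j x)) (by rw [map_add, tj, tij]; abel)
  have j1 : O.j (O.i (O.j x)) = O.i x := by
    rw [R.ji, R.jj, hx, map_neg, map_neg, R.ti, hx, map_neg, neg_neg]
  have j2 : O.j (O.j x + O.i (O.j x)) = -x + O.i x := by rw [map_add, R.jj, hx, j1]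
  rw [j2] at e
  have i1 : O.i (-x + O.i x) = -O.i x - x := by rw [map_add, map_neg, R.ii, hx]; abel
  rw [i1] at e
  have e2 : O.z ((-(2 : K)) • x) = x + O.i x + O.j x + O.i (O.j x) := by
    have h5 : (-(2 : K)) • x = -x + O.i x + (-O.i x - x) := by module
    rw [h5, e]; abel
  rw [← e2, map_smul, smul_smul]
  rw [show (-(2 : K)⁻¹) * -2 = 1 by field_simp, one_smul]

/-- the closing lemma -/
theorem close (hq : ∀ v, O.z (O.z v) = -v - O.z v) {v : V} (hv : O.t v = v) {l : K} (hl : l * l = -1)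
    (hr : O.r v = l • v) : ∃ W : Submodule K V, v ∈ W ∧ finrank K W ≤ 6 ∧ (∀ w ∈ W, O.z w ∈ W) ∧
      (∀ w ∈ W, O.τ w ∈ W) := by
  have hjf : ∀ u, O.t u = u → O.j u = u := fun u hu => j_fix R Hy.fi hu
  set v' := O.z v + (2 : K)⁻¹ • v with hv'
  have tv' : O.t v' = v' := by rw [hv', map_add, map_smul, R.tz, hv]
  have rv' : O.r v' = (-l) • v' := by
    rw [hv', map_add, map_smul, R.rz, hr, map_smul, map_smul, map_smul, hjf v hv, hq]
    match_scalars <;> field_simp <;> ring
  have zv : O.z v = v' - (2 : K)⁻¹ • v := by rw [hv']; abel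
  have zv' : O.z v' = (-(4 : K)⁻¹ * 3) • v - (2 : K)⁻¹ • v' := by
    have h4 : (4 : K) ≠ 0 := by
      have : (4 : K) = 2 * 2 := by norm_num
      rw [this]; exact mul_ne_zero h2 h2
    rw [hv', map_add, map_smul, hq, ← sub_eq_zero]
    have : -v - O.z v + (2 : K)⁻¹ • O.z v - ((-(4 : K)⁻¹ * 3) • v - (2 : K)⁻¹ • (O.z v + (2 : K)⁻¹ • v)) = 0 := by
      match_scalars <;> field_simp <;> ring
    exact this
  -- the images under `τ`
  have key : ∀ (u : V) (m : K), O.t u = u → O.r u = m • u → m * m = -1 → ∀ W : Submodule K V, O.τ u ∈ W →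
      O.τ (O.τ u) ∈ W → O.z (O.τ u) ∈ W ∧ O.z (O.τ (O.τ u)) ∈ W := by
    intro u m hu hru hm W m1 m2
    have hm0 : m ≠ 0 := by
      rintro rfl
      rw [zero_mul] at hm
      exact one_ne_zero (neg_eq_zero.1 hm.symm)
    have a1 : O.i (O.τ u) = m • O.τ u := by rw [R.iτ, hru, map_smul]
    have a2 : O.i (O.τ (O.τ u)) = (-m) • O.τ (O.τ u) := by
      have e := R.iττ u
      rw [hru, map_smul, map_smul, map_smul, map_smul, Hy.fi u hu] at e
      have e2 : (-m) • m • O.i (O.τ (O.τ u)) = (-m) • O.τ (O.τ u) := by rw [e]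
      rw [smul_smul, show -m * m = 1 by linear_combination -hm, one_smul] at e2
      exact e2
    have a3 : O.j (O.τ u) = O.τ (O.τ u) := by rw [R.jτ, hjf u hu, hu]
    have a4 : O.j (O.τ (O.τ u)) = -O.τ u := by
      rw [R.jττ, hjf u hu, hru, map_smul, hru, smul_smul, hm, neg_one_smul, map_neg]
    constructor
    · rw [z_eq R h2 hq (tτ R Hy hu), a3, a1, a2]
      exact W.smul_mem _ (W.add_mem (W.add_mem (W.add_mem m1 (W.smul_mem _ m1)) m2) (W.smul_mem _ m2))
    · rw [z_eq R h2 hq (tττ R Hy hu), a4, a2, map_neg, a1]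
      exact W.smul_mem _ (W.add_mem (W.add_mem (W.add_mem m2 (W.smul_mem _ m2)) (W.neg_mem m1))
        (W.neg_mem (W.smul_mem _ m1)))
  let S : Set V := {v, v', O.τ v, O.τ v', O.τ (O.τ v), O.τ (O.τ v')}
  have i0 : v ∈ Submodule.span K S := Submodule.subset_span (by simp [S])
  have i1 : v' ∈ Submodule.span K S := Submodule.subset_span (by simp [S])
  have i2 : O.τ v ∈ Submodule.span K S := Submodule.subset_span (by simp [S])
  have i3 : O.τ v' ∈ Submodule.span K S := Submodule.subset_span (by simp [S])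
  have i4 : O.τ (O.τ v) ∈ Submodule.span K S := Submodule.subset_span (by simp [S])
  have i5 : O.τ (O.τ v') ∈ Submodule.span K S := Submodule.subset_span (by simp [S])
  have keyS : ∀ T : Module.End K V, (∀ w ∈ S, T w ∈ Submodule.span K S) →
      ∀ w ∈ Submodule.span K S, T w ∈ Submodule.span K S := by
    intro T hT w hw
    have : Submodule.span K S ≤ (Submodule.span K S).comap T := Submodule.span_le.2 hT
    exact this hw
  have k1 := key v l hv hr hl _ i2 i4
  have k2 := key v' (-l) tv' rv' (by rw [neg_mul_neg]; exact hl) _ i3 i5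
  refine ⟨Submodule.span K S, i0, ?_, ?_, ?_⟩
  · classical
    have hS : S = (({v, v', O.τ v, O.τ v', O.τ (O.τ v), O.τ (O.τ v')} : Finset V) : Set V) := by simp [S]
    rw [hS]
    refine (finrank_span_finset_le_card _).trans ?_
    exact Finset.card_le_six
  · refine keyS O.z ?_
    rintro w (rfl | rfl | rfl | rfl | rfl | rfl)
    · rw [zv]; exact Submodule.sub_mem _ i1 (Submodule.smul_mem _ _ i0)
    · rw [zv']; exact Submodule.sub_mem _ (Submodule.smul_mem _ _ i0) (Submodule.smul_mem _ _ i1)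
    · exact k1.1
    · exact k2.1
    · exact k1.2
    · exact k2.2
  · refine keyS O.τ ?_
    rintro w (rfl | rfl | rfl | rfl | rfl | rfl)
    · exact i2
    · exact i3
    · exact i4
    · exact i5
    · rw [R.τττ]; exact i0
    · rw [R.τττ]; exact i1

/-- an eigenvector -/
theorem exists_vec (h3 : (3 : K) ≠ 0) (hq : ∀ v, O.z (O.z v) = -v - O.z v) (hV : ∃ v : V, v ≠ 0) {l : K}
    (hl : l * l = -1) : ∃ v : V, v ≠ 0 ∧ O.t v = v ∧ O.r v = l • v := by
  have hjf : ∀ u, O.t u = u → O.j u = u := fun u hu => j_fix R Hy.fi hu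
  -- a non-zero vector fixed by `t`
  obtain ⟨u, hu0, hu⟩ : ∃ u : V, u ≠ 0 ∧ O.t u = u := by
    obtain ⟨w, hw⟩ := hV
    by_contra hcon
    push Not at hcon
    have A0 : ∀ u, O.t u = u → u = 0 := fun u hu => by
      by_contra h; exact hcon u h hu
    have A1 : ∀ u, O.t1 u = u → u = 0 := by
      intro u hu
      have e1 : O.t (O.τ (O.τ u)) = O.τ (O.τ u) := by
        have h1 := R.τt (O.τ (O.τ u))
        rw [R.τττ, hu] at h1
        have := congrArg (fun u => O.τ (O.τ u)) h1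
        simp only [R.τττ] at this
        exact this
      have e2 := A0 _ e1
      have := congrArg O.τ e2
      rw [R.τττ, map_zero] at this
      exact this
    have ht : ∀ u, O.t u = -u := fun u => by
      have := A0 (u + O.t u) (by rw [map_add, R.tt, add_comm])
      exact (neg_eq_of_add_eq_zero_right this).symm
    have ht1 : ∀ u, O.t1 u = -u := fun u => by
      have := A1 (u + O.t1 u) (by rw [map_add, R.t1t1, add_comm])
      exact (neg_eq_of_add_eq_zero_right this).symm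
    have e := f2 R Hy (v := w) (by rw [ht1, map_neg, ht, neg_neg])
    have h6 := R.τt1 w
    rw [ht1, ht1, map_neg, map_neg, ht, neg_neg] at h6
    have h7 : O.τ w = 0 := eq_zero_of_neg h2 h6.symm
    have := congrArg (fun u => O.τ (O.τ u)) h7
    simp only [R.τττ, map_zero] at this
    exact hw this
  have hrr : O.r (O.r u) = -u := by rw [R.rr, Hy.ft1 u hu, map_neg, hu]
  by_cases hw : O.r u + l • u = 0
  · have hru : O.r u = (-l) • u := by rw [neg_smul]; exact eq_neg_of_add_eq_zero_left hw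
    refine ⟨O.z u + (2 : K)⁻¹ • u, ?_, by rw [map_add, map_smul, R.tz, hu], ?_⟩
    · intro h0
      have e1 : O.z u = (-(2 : K)⁻¹) • u := by rw [neg_smul]; exact eq_neg_of_add_eq_zero_left h0
      have e2 := R.zzz u
      rw [e1, map_smul, map_smul, e1, map_smul, e1, smul_smul, smul_smul] at e2
      have e3 : ((9 : K) * (8 : K)⁻¹) • u = 0 := by
        have h8 : (8 : K) ≠ 0 := by
          have : (8 : K) = 2 * 2 * 2 := by norm_num
          rw [this]; exact mul_ne_zero (mul_ne_zero h2 h2) h2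
        have : ((9 : K) * (8 : K)⁻¹) • u = u - (-(2 : K)⁻¹ * -(2 : K)⁻¹ * -(2 : K)⁻¹) • u := by
          match_scalars
          field_simp
          norm_num
        rw [this, e2, sub_self]
      have h8 : (8 : K) ≠ 0 := by
        have : (8 : K) = 2 * 2 * 2 := by norm_num
        rw [this]; exact mul_ne_zero (mul_ne_zero h2 h2) h2
      have h9 : (9 : K) ≠ 0 := by
        have : (9 : K) = 3 * 3 := by norm_num
        rw [this]; exact mul_ne_zero h3 h3
      exact hu0 ((smul_eq_zero.1 e3).resolve_left (mul_ne_zero h9 (inv_ne_zero h8)))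
    · rw [map_add, map_smul, R.rz, hru, map_smul, map_smul, map_smul, hjf u hu, hq]
      match_scalars <;> field_simp <;> ring
  · refine ⟨_, hw, by rw [map_add, map_smul, ← R.rt, hu], ?_⟩
    rw [map_add, map_smul, hrr, smul_add, smul_smul, hl, neg_one_smul, add_comm]

end F

end Cfsg.Agent.H659.U3
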