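import Cfsg.Agent.H659.U3Borel
import Cfsg.Agent.H659.U3Core
import Cfsg.Agent.H906.U3Def
import Cfsg.Agent.ChevalleyStructure.NineField

/-!
# The group `SU₃(3)` over the explicit field with nine elements; its generators and relations
-/

set_option autoImplicit false

namespace Cfsg.Agent.H659.U3

open Module Cfsg.Agent.ChevalleyStructure.NineField Cfsg.Agent.UThreeGen.MatGroup Cfsg.Agent.H906
open scoped Matrix

/-- conjugation of `F₉` -/
def σ9 : F9 →+* F9 where
  toFun x := ⟨x.re, -x.im⟩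
  map_one' := by decide +kernel
  map_mul' := by decide +kernel
  map_zero' := by decide +kernel
  map_add' := by decide +kernel

instance fact9 : Fact (∀ x, σ9 (σ9 x) = x) := ⟨by decide +kernel⟩

theorem σ9_pow (x : F9) : σ9 x = x ^ 3 := by revert x; decide +kernel

/-- the group -/
abbrev SU := SUG σ9

/-- an element of `SU₃(3)` from its matrix -/
def mkg (M : Matrix (Fin 3) (Fin 3) F9) (hd : M.det = 1) (h : Mᵀ * Gm F9 * M.map σ9 = Gm F9) : SU := ⟨⟨M, hd⟩, h⟩

/-- `z` in the Heisenberg group -/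
def z0 : HG σ9 := ⟨0, ⟨0, 1⟩, by decide +kernel⟩
/-- `x` in the Heisenberg group -/
def x0 : HG σ9 := ⟨1, ⟨2, 0⟩, by decide +kernel⟩
/-- `y` in the Heisenberg group -/
def y0 : HG σ9 := ⟨⟨0, 1⟩, ⟨2, 0⟩, by decide +kernel⟩
/-- a generator of the multiplicative group -/
def a0 : F9ˣ := ⟨⟨1, 1⟩, ⟨2, 1⟩, by decide +kernel, by decide +kernel⟩

/-- `z` -/
def zG : SU := emb σ9 z0
/-- `x` -/
def xG : SU := emb σ9 x0
/-- `y` -/
def yG : SU := emb σ9 y0
/-- `h` -/
def hG : SU := tor σ9 a0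
/-- `w` -/
def wG : SU := wel σ9
/-- `i` -/
def iG : SU := mkg !![⟨1, 0⟩, ⟨0, 0⟩, ⟨0, 1⟩; ⟨0, 0⟩, ⟨1, 0⟩, ⟨0, 0⟩; ⟨0, 2⟩, ⟨0, 0⟩, ⟨2, 0⟩]
  (by rw [Matrix.det_fin_three]; decide +kernel) (by decide +kernel)
/-- `τ` -/
def τG : SU := mkg !![⟨1, 0⟩, ⟨0, 1⟩, ⟨2, 2⟩; ⟨0, 1⟩, ⟨0, 0⟩, ⟨1, 1⟩; ⟨2, 1⟩, ⟨2, 1⟩, ⟨2, 0⟩]
  (by rw [Matrix.det_fin_three]; decide +kernel) (by decide +kernel)
/-- `j` -/
def jG : SU := mkg !![⟨2, 0⟩, ⟨0, 0⟩, ⟨0, 1⟩; ⟨0, 0⟩, ⟨1, 0⟩, ⟨0, 0⟩; ⟨0, 2⟩, ⟨0, 0⟩, ⟨1, 0⟩]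
  (by rw [Matrix.det_fin_three]; decide +kernel) (by decide +kernel)
/-- `t1` -/
def t1G : SU := mkg !![⟨0, 2⟩, ⟨0, 0⟩, ⟨1, 0⟩; ⟨0, 0⟩, ⟨2, 0⟩, ⟨0, 0⟩; ⟨2, 0⟩, ⟨0, 0⟩, ⟨0, 1⟩]
  (by rw [Matrix.det_fin_three]; decide +kernel) (by decide +kernel)
/-- `r` -/
def rG : SU := mkg !![⟨0, 0⟩, ⟨0, 0⟩, ⟨1, 1⟩; ⟨0, 0⟩, ⟨0, 1⟩, ⟨0, 0⟩; ⟨2, 2⟩, ⟨0, 0⟩, ⟨1, 2⟩]
  (by rw [Matrix.det_fin_three]; decide +kernel) (by decide +kernel)
/-- `c` -/
def cG : SU := mkg !![⟨0, 2⟩, ⟨0, 0⟩, ⟨0, 0⟩; ⟨0, 0⟩, ⟨2, 0⟩, ⟨0, 0⟩; ⟨0, 0⟩, ⟨0, 0⟩, ⟨0, 2⟩]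
  (by rw [Matrix.det_fin_three]; decide +kernel) (by decide +kernel)
/-- `t` -/
def tG : SU := mkg !![⟨2, 0⟩, ⟨0, 0⟩, ⟨0, 0⟩; ⟨0, 0⟩, ⟨1, 0⟩, ⟨0, 0⟩; ⟨0, 0⟩, ⟨0, 0⟩, ⟨2, 0⟩]
  (by rw [Matrix.det_fin_three]; decide +kernel) (by decide +kernel)
/-- an auxiliary element -/
def dG : SU := mkg !![⟨2, 0⟩, ⟨0, 0⟩, ⟨0, 0⟩; ⟨2, 2⟩, ⟨1, 0⟩, ⟨0, 0⟩; ⟨2, 2⟩, ⟨1, 2⟩, ⟨2, 0⟩]
  (by rw [Matrix.det_fin_three]; decide +kernel) (by decide +kernel)

theorem se {a b : SU} (h : a.1.1 = b.1.1) : a = b := Subtype.ext (Subtype.ext h)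

theorem gen0 : ∀ a b : F9, b + σ9 b = a * σ9 a → ∃ i j k : Fin 3,
    (x0 ^ i.val * y0 ^ j.val * z0 ^ k.val).a = a ∧ (x0 ^ i.val * y0 ^ j.val * z0 ^ k.val).b = b := by
  decide +kernel

theorem pow0 : ∀ x : F9, x ≠ 0 → ∃ k : Fin 8, x = (⟨1, 1⟩ : F9) ^ k.val := by decide +kernel

theorem bd : BD (borel σ9) (emb σ9).range zG xG yG hG wG where
  data := data_SUG
  hB b hb := by
    obtain ⟨u, hu, a, rfl⟩ := borel_eq b hb
    obtain ⟨k, hk⟩ := pow0 a a.ne_zero
    refine ⟨u, hu, k, ?_⟩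
    have : a = a0 ^ k.val := Units.ext (by rw [Units.val_pow_eq_pow_val]; exact hk)
    rw [this, map_pow]
    rfl
  gen u hu := by
    obtain ⟨u, rfl⟩ := hu
    obtain ⟨i, j, k, h1, h2⟩ := gen0 u.a u.b u.h
    refine ⟨i, j, k, ?_⟩
    have : u = x0 ^ i.val * y0 ^ j.val * z0 ^ k.val := HG.ext h1.symm h2.symm
    rw [this, map_mul, map_mul, map_pow, map_pow, map_pow]
    rfl
  xU := ⟨x0, rfl⟩
  yU := ⟨y0, rfl⟩
  z3 := by rw [pow_succ, pow_two]; exact se (by decide +kernel)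
  x3 := by rw [pow_succ, pow_two]; exact se (by decide +kernel)
  y3 := by rw [pow_succ, pow_two]; exact se (by decide +kernel)
  xy := se (by decide +kernel)
  zx := se (by decide +kernel)
  zy := se (by decide +kernel)
  zh := se (by decide +kernel)
  xh := se (by decide +kernel)
  yh := se (by decide +kernel)
  hw := by
    have : wG * hG ^ 5 = wG * (hG * hG * (hG * hG) * hG) := by
      simp only [pow_succ, pow_zero, one_mul, mul_assoc]
    rw [this]; exact se (by decide +kernel)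
  h8 := by
    have : hG ^ 8 = (hG * hG) * (hG * hG) * ((hG * hG) * (hG * hG)) := by
      simp only [pow_succ, pow_zero, one_mul, mul_assoc]
    rw [this]; exact se (by decide +kernel)

theorem h4 : hG ^ 4 = tG := by
  have : hG ^ 4 = (hG * hG) * (hG * hG) := by
    simp only [pow_succ, pow_zero, one_mul, mul_assoc]
  rw [this]; exact se (by decide +kernel)

section ops

variable {K : Type*} [Field K] {V : Type*} [AddCommGroup V] [Module K V]

/-- the operators of a representation -/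
def ops (ρ : SU →* Module.End K V) : Ops K V where
  z := ρ zG
  τ := ρ τG
  i := ρ iG
  j := ρ jG
  t := ρ tG
  t1 := ρ t1G
  c := ρ cG
  r := ρ rG

variable (ρ : SU →* Module.End K V)

theorem e_of {a b : SU} (h : a = b) (v : V) : ρ a v = ρ b v := by rw [h]

theorem e_one {a : SU} (h : a = 1) (v : V) : ρ a v = v := by rw [h, map_one, Module.End.one_apply]

theorem rels : Rels (ops ρ) where
  zzz v := by simp only [ops, mul_app]; exact e_one ρ (se (by decide +kernel)) v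
  τττ v := by simp only [ops, mul_app]; exact e_one ρ (se (by decide +kernel)) v
  ii v := by simp only [ops, mul_app]; exact e_of ρ (se (by decide +kernel)) v
  jj v := by simp only [ops, mul_app]; exact e_of ρ (se (by decide +kernel)) v
  tt v := by simp only [ops, mul_app]; exact e_one ρ (se (by decide +kernel)) v
  ji v := by simp only [ops, mul_app]; exact e_of ρ (se (by decide +kernel)) v
  zi v := by simp only [ops, mul_app]; exact e_of ρ (se (by decide +kernel)) v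
  jp v := by simp only [ops, mul_app]; exact e_of ρ (se (by decide +kernel)) v
  pj v := by simp only [ops, mul_app]; exact e_of ρ (se (by decide +kernel)) v
  iz v := by simp only [ops, mul_app]; exact e_of ρ (se (by decide +kernel)) v
  tz v := by simp only [ops, mul_app]; exact e_of ρ (se (by decide +kernel)) v
  ti v := by simp only [ops, mul_app]; exact e_of ρ (se (by decide +kernel)) v
  tj v := by simp only [ops, mul_app]; exact e_of ρ (se (by decide +kernel)) v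
  t1c v := by simp only [ops, mul_app]; exact e_of ρ (se (by decide +kernel)) v
  cz v := by simp only [ops, mul_app]; exact e_of ρ (se (by decide +kernel)) v
  t1t v := by simp only [ops, mul_app]; exact e_of ρ (se (by decide +kernel)) v
  t1t1 v := by simp only [ops, mul_app]; exact e_one ρ (se (by decide +kernel)) v
  τt v := by simp only [ops, mul_app]; exact e_of ρ (se (by decide +kernel)) v
  τt1 v := by simp only [ops, mul_app]; exact e_of ρ (se (by decide +kernel)) v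
  iτ v := by simp only [ops, mul_app]; exact e_of ρ (se (by decide +kernel)) v
  rr v := by simp only [ops, mul_app]; exact e_of ρ (se (by decide +kernel)) v
  rt v := by simp only [ops, mul_app]; exact e_of ρ (se (by decide +kernel)) v
  rz v := by simp only [ops, mul_app]; exact e_of ρ (se (by decide +kernel)) v
  iττ v := by simp only [ops, mul_app]; exact e_of ρ (se (by decide +kernel)) v
  jτ v := by simp only [ops, mul_app]; exact e_of ρ (se (by decide +kernel)) v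
  jττ v := by simp only [ops, mul_app]; exact e_of ρ (se (by decide +kernel)) v

end ops

/-- `SU₃(3)` is generated by `z`, `τ` -/
theorem gen_zτ (S : Subgroup SU) (hz : zG ∈ S) (hτ : τG ∈ S) : S = ⊤ := by
  have hd : dG ∈ S := by
    have e : dG = zG * τG * (zG * τG) * (zG * τG * τG) := se (by decide +kernel)
    rw [e]
    exact S.mul_mem (S.mul_mem (S.mul_mem hz hτ) (S.mul_mem hz hτ)) (S.mul_mem (S.mul_mem hz hτ) hτ)
  have hi : iG ∈ S := by
    have e : iG = dG * dG * zG := se (by decide +kernel)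
    rw [e]
    exact S.mul_mem (S.mul_mem hd hd) hz
  have ht : tG ∈ S := by
    have e : tG = iG * iG := se (by decide +kernel)
    rw [e]
    exact S.mul_mem hi hi
  have hj : jG ∈ S := by
    have e : jG = zG * iG * (zG * zG) := se (by decide +kernel)
    rw [e]
    exact S.mul_mem (S.mul_mem hz hi) (S.mul_mem hz hz)
  have ht1 : t1G ∈ S := by
    have e : t1G = τG * tG * (τG * τG) := se (by decide +kernel)
    rw [e]
    exact S.mul_mem (S.mul_mem hτ ht) (S.mul_mem hτ hτ)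
  have hr : rG ∈ S := by
    have e : rG = τG * τG * (iG * τG) := se (by decide +kernel)
    rw [e]
    exact S.mul_mem (S.mul_mem hτ hτ) (S.mul_mem hi hτ)
  have hh : hG ∈ S := by
    have e : hG = t1G * (zG * rG) := se (by decide +kernel)
    rw [e]
    exact S.mul_mem ht1 (S.mul_mem hz hr)
  have hw : wG ∈ S := by
    have e : wG = t1G * jG := se (by decide +kernel)
    rw [e]
    exact S.mul_mem ht1 hj
  have hy : yG ∈ S := by
    have e : yG = rG * τG * (zG * τG) * (zG * τG * (rG * τG)) := se (by decide +kernel)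
    rw [e]
    exact S.mul_mem (S.mul_mem (S.mul_mem hr hτ) (S.mul_mem hz hτ))
      (S.mul_mem (S.mul_mem hz hτ) (S.mul_mem hr hτ))
  have hx : xG ∈ S := by
    have e : hG * (xG * xG) = yG * hG * (zG * (yG * yG)) := se (by decide +kernel)
    have e2 : xG = hG⁻¹ * (yG * hG * (zG * (yG * yG))) * (hG⁻¹ * (yG * hG * (zG * (yG * yG)))) := by
      rw [← e, inv_mul_cancel_left]
      exact se (by decide +kernel)
    rw [e2]
    have := S.mul_mem (S.inv_mem hh) (S.mul_mem (S.mul_mem hy hh) (S.mul_mem hz (S.mul_mem hy hy)))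
    exact S.mul_mem this this
  rw [eq_top_iff, ← closure_SUG (σ := σ9) (by
    have : ∀ b : F9, ∃ a : F9, b + σ9 b = a * σ9 a := by decide +kernel
    intro b
    obtain ⟨a, ha⟩ := this b
    exact ⟨⟨a, b, ha⟩, rfl⟩), Subgroup.closure_le]
  rintro g (hg | hg)
  · obtain ⟨a, b, c, rfl⟩ := bd.gen g hg
    exact S.mul_mem (S.mul_mem (S.pow_mem hx _) (S.pow_mem hy _)) (S.pow_mem hz _)
  · rw [Set.mem_singleton_iff] at hg
    rw [hg]; exact hw

/-- a subspace invariant under `z`, `τ` is invariant -/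
theorem inv_of_zτ {K : Type*} [Field K] {V : Type*} [AddCommGroup V] [Module K V] [FiniteDimensional K V]
    (ρ : SU →* Module.End K V) (W : Submodule K V) (hz : ∀ v ∈ W, (ops ρ).z v ∈ W)
    (hτ : ∀ v ∈ W, (ops ρ).τ v ∈ W) (g : SU) : ∀ v ∈ W, ρ g v ∈ W := by
  have key : ∀ g : SU, (∀ v ∈ W, ρ g v ∈ W) → ∀ v ∈ W, ρ g⁻¹ v ∈ W := by
    intro g hg v hv
    have h1 : W.map (ρ g) = W := by
      apply Submodule.eq_of_le_of_finrank_eq
      · rintro _ ⟨w, hw, rfl⟩; exact hg w hw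
      · exact (Submodule.equivMapOfInjective (ρ g) (H912.Bd.rho_injective ρ g) _).finrank_eq.symm
    rw [← h1] at hv
    obtain ⟨w, hw, rfl⟩ := hv
    rw [mul_app, inv_mul_cancel, map_one, Module.End.one_apply]
    exact hw
  let S : Subgroup SU :=
    { carrier := {g | ∀ v ∈ W, ρ g v ∈ W}
      mul_mem' := by
        intro a b ha hb v hv
        rw [← mul_app]
        exact ha _ (hb v hv)
      one_mem' := by
        intro v hv
        rw [map_one, Module.End.one_apply]; exact hv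
      inv_mem' := by
        intro a ha
        exact key a ha }
  have hS := gen_zτ S hz hτ
  have : g ∈ S := by rw [hS]; exact Subgroup.mem_top g
  exact this

end Cfsg.Agent.H659.U3
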